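import Mathlib.CategoryTheory.Monoidal.Cartesian.Grp
import Mathlib.CategoryTheory.Limits.Shapes.Pullback.IsPullback.Basic

/-!
# Translation automorphisms for a homomorphism of group objects

For `u : G ⟶ H` a homomorphism of group objects in a cartesian monoidal category, the squares
`(u ▷ G, fst, fst, u)` and `(u ▷ G, μ, (H ◁ u) ≫ μ, u)` are both pullbacks.
-/

set_option autoImplicit false
universe v u
open CategoryTheory CategoryTheory.Limits MonoidalCategory CartesianMonoidalCategory MonObj GrpObj

namespace Groth.Agent.Lib.Helper10.GrpShear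

variable {C : Type u} [Category.{v} C] [CartesianMonoidalCategory C]
  {G H : C} [GrpObj G] [GrpObj H] (u : G ⟶ H) [IsMonHom u]

/-- the first square is a pullback -/
theorem sq_fst : IsPullback (u ▷ G) (fst G G) (fst H G) u := by
  refine ⟨⟨by simp⟩, ⟨PullbackCone.IsLimit.mk _ (fun s => lift s.snd (s.fst ≫ snd H G)) ?_ ?_ ?_⟩⟩
  · intro s
    apply CartesianMonoidalCategory.hom_ext
    · simp [s.condition]
    · simp
  · intro s
    simp
  · intro s m h1 h2
    apply CartesianMonoidalCategory.hom_ext
    · simp [← h2]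
    · simp [← h1]

/-- right translation by `u g` on `H ⊗ G` -/
def tau : H ⊗ G ≅ H ⊗ G where
  hom := lift (fst H G * (snd H G ≫ u)) (snd H G)
  inv := lift (fst H G * (snd H G ≫ u)⁻¹) (snd H G)
  hom_inv_id := by
    apply CartesianMonoidalCategory.hom_ext
    · simp [comp_mul, comp_inv, mul_assoc]
    · simp
  inv_hom_id := by
    apply CartesianMonoidalCategory.hom_ext
    · simp [comp_mul, comp_inv, mul_assoc]
    · simp

/-- right translation on `G ⊗ G` -/
def sigma : G ⊗ G ≅ G ⊗ G where
  hom := lift (fst G G * snd G G) (snd G G)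
  inv := lift (fst G G * (snd G G)⁻¹) (snd G G)
  hom_inv_id := by
    apply CartesianMonoidalCategory.hom_ext
    · simp [comp_mul, comp_inv, mul_assoc]
    · simp
  inv_hom_id := by
    apply CartesianMonoidalCategory.hom_ext
    · simp [comp_mul, comp_inv, mul_assoc]
    · simp

theorem sigma_hom_fst : (sigma (G := G)).hom ≫ fst G G = μ[G] := by
  simp [sigma, Hom.mul_def]

theorem tau_hom_fst : (tau u).hom ≫ fst H G = fst H G * (snd H G ≫ u) := by
  simp [tau]

theorem sigma_tau : (sigma (G := G)).hom ≫ (u ▷ G) = (u ▷ G) ≫ (tau u).hom := by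
  apply CartesianMonoidalCategory.hom_ext
  · simp [sigma, tau, comp_mul, mul_comp]
  · simp [sigma, tau]

/-- the second square is a pullback -/
theorem sq_mul : IsPullback (u ▷ G) μ[G] ((tau u).hom ≫ fst H G) u := by
  have top : IsPullback (u ▷ G) (sigma (G := G)).hom (tau u).hom (u ▷ G) :=
    IsPullback.of_vert_isIso ⟨(sigma_tau u).symm⟩
  have := top.paste_vert (sq_fst u)
  rwa [sigma_hom_fst] at this

end Groth.Agent.Lib.Helper10.GrpShear
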