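import Mathlib.Order.RelSeries
import Mathlib.Order.Cover
import Mathlib.Data.ENat.Lattice

/-!
# Codimension via chains in a partial order, saturated chains, catenary criterion
-/

namespace Groth.Agent.Lib.Helper10.ChainCodim

variable {α : Type*} [PartialOrder α]

/-- codimension of `a` in `b` in a poset: sup of lengths of chains starting at `a` ending `≤ b` -/
noncomputable def cd (a b : α) : ℕ∞ :=
  ⨆ (s : LTSeries α) (_ : s.head = a ∧ s.last ≤ b), (s.length : ℕ∞)

/-- saturated chain -/
def Sat (s : LTSeries α) : Prop := ∀ i : Fin s.length, s i.castSucc ⋖ s i.succ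

theorem le_cd {a b : α} (s : LTSeries α) (h1 : s.head = a) (h2 : s.last ≤ b) :
    (s.length : ℕ∞) ≤ cd a b :=
  le_iSup₂_of_le s ⟨h1, h2⟩ le_rfl

theorem head_lt_last (s : LTSeries α) (h : s.length ≠ 0) : s.head < s.last := by
  apply s.strictMono
  rw [Fin.lt_def]
  simp
  omega

theorem cd_self (a : α) : cd a a = 0 := by
  refine le_antisymm ?_ (by simp)
  apply iSup₂_le
  rintro s ⟨h1, h2⟩
  by_contra hne
  have h0 : s.length ≠ 0 := by
    intro h0
    apply hne
    rw [h0]
    simp
  have := head_lt_last s h0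
  rw [h1] at this
  exact absurd (lt_of_lt_of_le this h2) (lt_irrefl _)

theorem cd_covBy {a b : α} (h : a ⋖ b) : cd a b = 1 := by
  apply le_antisymm
  · apply iSup₂_le
    rintro s ⟨h1, h2⟩
    by_contra hne
    have h2' : 2 ≤ s.length := by
      by_contra h3
      apply hne
      have : s.length ≤ 1 := by omega
      exact_mod_cast this
    have l1 : s ⟨0, by omega⟩ < s ⟨1, by omega⟩ := s.strictMono (Fin.mk_lt_mk.2 (by omega))
    have l2 : s ⟨1, by omega⟩ < s ⟨2, by omega⟩ := s.strictMono (Fin.mk_lt_mk.2 (by omega))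
    have l3 : s ⟨2, by omega⟩ ≤ s.last := s.monotone (Fin.le_last _)
    have e0 : s ⟨0, by omega⟩ = a := h1
    rw [e0] at l1
    exact h.2 l1 (lt_of_lt_of_le l2 (l3.trans h2))
  · have := le_cd (a := a) (b := b) ((RelSeries.singleton _ a).snoc b h.lt) (by simp) (by simp)
    simpa using this

theorem head_insertNth (p : LTSeries α) (i : Fin p.length) (a : α) (h1 : p i.castSucc < a)
    (h2 : a < p i.succ) : (p.insertNth i a h1 h2).head = p.head := by
  unfold RelSeries.head
  change Fin.insertNth (α := fun _ => α) (Fin.castSucc i.succ) a p 0 = p 0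
  rw [Fin.insertNth_apply_below (α := fun _ => α)]
  · simp
  · exact Fin.castSucc_pos_iff.2 (Fin.succ_pos i)

theorem last_insertNth (p : LTSeries α) (i : Fin p.length) (a : α) (h1 : p i.castSucc < a)
    (h2 : a < p i.succ) : (p.insertNth i a h1 h2).last = p.last := by
  unfold RelSeries.last
  change Fin.insertNth (α := fun _ => α) (Fin.castSucc i.succ) a p (Fin.last _) = p (Fin.last _)
  rw [Fin.insertNth_apply_above (α := fun _ => α)]
  · simp only [eq_rec_constant]
    congr 1
  · rw [Fin.lt_def]
    simp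

theorem exists_max_chain {a b : α} (hab : a ≤ b) (hfin : cd a b ≠ ⊤) :
    ∃ s : LTSeries α, s.head = a ∧ s.last = b ∧ (s.length : ℕ∞) = cd a b ∧ Sat s := by
  have : Nonempty {s : LTSeries α // s.head = a ∧ s.last ≤ b} :=
    ⟨⟨RelSeries.singleton _ a, by simp, by simpa using hab⟩⟩
  have hlt : (⨆ s : {s : LTSeries α // s.head = a ∧ s.last ≤ b}, (s.1.length : ℕ∞)) < ⊤ := by
    rw [← iSup_subtype' (p := fun s : LTSeries α => s.head = a ∧ s.last ≤ b)
      (f := fun s _ => (s.length : ℕ∞))]
    exact lt_top_iff_ne_top.2 hfin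
  obtain ⟨⟨s, hs1, hs2⟩, hs⟩ := ENat.exists_eq_iSup_of_lt_top hlt
  rw [← iSup_subtype' (p := fun s : LTSeries α => s.head = a ∧ s.last ≤ b)
    (f := fun s _ => (s.length : ℕ∞))] at hs
  have hs' : (s.length : ℕ∞) = cd a b := hs
  have hmax : ∀ t : LTSeries α, t.head = a → t.last ≤ b → t.length ≤ s.length := by
    intro t h1 h2
    have := le_cd t h1 h2
    rw [← hs'] at this
    exact_mod_cast this
  refine ⟨s, hs1, ?_, hs', ?_⟩
  · by_contra hne
    have hlt : s.last < b := lt_of_le_of_ne hs2 hne
    have := hmax (s.snoc b hlt) (by simp [hs1]) (by simp)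
    simp at this
  · intro i
    by_contra hcov
    have hlt : s i.castSucc < s i.succ := s.step i
    obtain ⟨c, hc1, hc2⟩ := (not_covBy_iff hlt).1 hcov
    have := hmax (s.insertNth i c hc1 hc2) (by rw [head_insertNth, hs1])
      (by rw [last_insertNth]; exact hs2)
    simp at this

theorem sat_smash {p q : LTSeries α} (h : p.last = q.head) (hp : Sat p) (hq : Sat q) :
    Sat (RelSeries.smash p q h) := by
  intro i
  refine Fin.addCases (motive := fun i => (RelSeries.smash p q h) i.castSucc ⋖
    (RelSeries.smash p q h) i.succ) ?_ ?_ i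
  · intro j
    rw [RelSeries.smash_castAdd, RelSeries.smash_succ_castAdd]
    exact hp j
  · intro j
    rw [RelSeries.smash_natAdd, RelSeries.smash_succ_natAdd]
    exact hq j

theorem sat_of_sat_snoc {p : LTSeries α} {x : α} {hx : p.last < x} (h : Sat (p.snoc x hx)) :
    Sat p ∧ p.last ⋖ x := by
  constructor
  · intro i
    have := h (i.castSucc)
    have e1 : (p.snoc x hx) i.castSucc.castSucc = p i.castSucc := RelSeries.snoc_castSucc _ _ _ _
    have e2 : (p.snoc x hx) i.castSucc.succ = p i.succ := by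
      rw [← Fin.castSucc_succ]
      exact RelSeries.snoc_castSucc _ _ _ _
    rw [← e1, ← e2]
    exact this
  · have := h (Fin.last p.length)
    have e1 : (p.snoc x hx) (Fin.last p.length).castSucc = p.last := RelSeries.snoc_castSucc _ _ _ _
    have e2 : (p.snoc x hx) (Fin.last p.length).succ = x := by
      rw [Fin.succ_last]
      exact RelSeries.last_snoc' _ _ _
    rw [← e1]
    nth_rewrite 2 [← e2]
    exact this

theorem sat_length_of_additive (hadd : ∀ a b c : α, a ≤ b → b ≤ c → cd a c = cd a b + cd b c)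
    (s : LTSeries α) (hs : Sat s) : (s.length : ℕ∞) = cd s.head s.last := by
  induction s using RelSeries.inductionOn' with
  | singleton x => simp [cd_self]
  | snoc p x hx ih =>
    obtain ⟨hp, hcov⟩ := sat_of_sat_snoc hs
    have e1 : (p.snoc x hx).head = p.head := by simp
    have e2 : (p.snoc x hx).last = x := by simp
    rw [e1, e2, hadd p.head p.last x (LTSeries.head_le_last p) hcov.le, ← ih hp, cd_covBy hcov]
    simp

theorem additive_of_catenary
    (hcat : ∀ a b : α, a ≤ b → cd a b ≠ ⊤ ∧
      ∀ s : LTSeries α, s.head = a → s.last = b → Sat s → (s.length : ℕ∞) = cd a b)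
    (a b c : α) (hab : a ≤ b) (hbc : b ≤ c) : cd a c = cd a b + cd b c := by
  obtain ⟨s₁, h1, h2, h3, h4⟩ := exists_max_chain hab (hcat a b hab).1
  obtain ⟨s₂, k1, k2, k3, k4⟩ := exists_max_chain hbc (hcat b c hbc).1
  have hconn : s₁.last = s₂.head := by rw [h2, k1]
  have := (hcat a c (hab.trans hbc)).2 (RelSeries.smash s₁ s₂ hconn) (by simp [h1]) (by simp [k2])
    (sat_smash hconn h4 k4)
  rw [← this, ← h3, ← k3]
  simp

end Groth.Agent.Lib.Helper10.ChainCodim
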