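import Groth.Agent.Lib.Helper10.ChainCodim
import Mathlib.Tactic.Ring
import Mathlib.Tactic.Linarith

/-!
# Posets with an integer-valued "dimension function": chains are bounded, saturated chains have
the expected length, the poset is catenary.
-/

namespace Groth.Agent.Lib.Helper10.ChainCodim

variable {α : Type*} [PartialOrder α] (d : α → ℤ)

theorem length_le_of_strictMono (hd : ∀ a b : α, a < b → d a < d b) (s : LTSeries α) :
    d s.head + s.length ≤ d s.last := by
  have hsm : StrictMono d := fun a b h => hd a b h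
  have := LTSeries.head_add_length_le_int (s.map d hsm)
  simpa using this

theorem length_eq_of_sat (hc : ∀ a b : α, a ⋖ b → d b = d a + 1) (s : LTSeries α) (hs : Sat s) :
    d s.head + s.length = d s.last := by
  induction s using RelSeries.inductionOn' with
  | singleton x => simp
  | snoc p x hx ih =>
    obtain ⟨hp, hcov⟩ := sat_of_sat_snoc hs
    have e1 : (p.snoc x hx).head = p.head := by simp
    have e2 : (p.snoc x hx).last = x := by simp
    rw [e1, e2, hc _ _ hcov, ← ih hp]
    simp
    omega

theorem cd_le_of_strictMono (hd : ∀ a b : α, a < b → d a < d b) (a b : α) :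
    cd a b ≤ ((d b - d a).toNat : ℕ∞) := by
  apply iSup₂_le
  rintro s ⟨h1, h2⟩
  have h3 := length_le_of_strictMono d hd s
  have h4 : d s.last ≤ d b := by
    rcases h2.lt_or_eq with h | h
    · exact (hd _ _ h).le
    · rw [h]
  rw [h1] at h3
  have : s.length ≤ (d b - d a).toNat := by omega
  exact_mod_cast this

theorem cd_eq_of_dim (hd : ∀ a b : α, a < b → d a < d b) (hc : ∀ a b : α, a ⋖ b → d b = d a + 1)
    (a b : α) (hab : a ≤ b) : cd a b = ((d b - d a).toNat : ℕ∞) := by
  have hfin : cd a b ≠ ⊤ := ne_top_of_le_ne_top (ENat.natCast_ne_top _) (cd_le_of_strictMono d hd a b)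
  obtain ⟨s, h1, h2, h3, h4⟩ := exists_max_chain hab hfin
  have := length_eq_of_sat d hc s h4
  rw [h1, h2] at this
  rw [← h3]
  have : s.length = (d b - d a).toNat := by omega
  exact_mod_cast this

theorem catenary_of_dim (hd : ∀ a b : α, a < b → d a < d b)
    (hc : ∀ a b : α, a ⋖ b → d b = d a + 1) (a b : α) (hab : a ≤ b) :
    cd a b ≠ ⊤ ∧ ∀ s : LTSeries α, s.head = a → s.last = b → Sat s →
      (s.length : ℕ∞) = cd a b := by
  refine ⟨ne_top_of_le_ne_top (ENat.natCast_ne_top _) (cd_le_of_strictMono d hd a b), ?_⟩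
  intro s h1 h2 hs
  rw [cd_eq_of_dim d hd hc a b hab]
  have := length_eq_of_sat d hc s hs
  rw [h1, h2] at this
  have : s.length = (d b - d a).toNat := by omega
  exact_mod_cast this

end Groth.Agent.Lib.Helper10.ChainCodim
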