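import Groth.Agent.Lib.Helper10.OpenSubT3

/-!
# Closed substacks of reduced stacks (helper10)

A closed substack through whose points a morphism from a reduced algebraic stack factors
receives that morphism.
-/

set_option autoImplicit false
set_option backward.isDefEq.respectTransparency false
set_option backward.isDefEq.respectTransparency.types false
universe u

namespace Groth.Agent.Lib.Helper10.CSub

open CategoryTheory CategoryTheory.Limits AlgebraicGeometry Opposite AlgSp FibCat Stk AlgSt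
open Groth.Agent.Lib.Helper17 Groth.Agent.Lib.Helper17.FP Groth.Agent.Lib.Helper17.EO
  Groth.Agent.Lib.Helper17.PD Groth.Agent.Lib.Helper17.AT Groth.Agent.Lib.Helper17.AB
  Groth.Agent.Lib.Helper17.AOS Groth.Agent.Lib.Helper17.ACP Groth.Agent.Lib.Helper17.PTS
open Groth.Agent.Lib.Helper46 Groth.Agent.Lib.Helper46.LocPChart
open Groth.Agent.Lib.Helper10.OST

variable {S : Scheme.{u}}

/-- **fppf descent of membership in a substack**: an object which lies in the substack after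
pulling back along an fppf cover lies in the substack -/
theorem Q_of_cover {𝒳 : AlgSt.Cat S} (h𝒳 : Stk.IsStack (QuotSh.J Scheme.fppfPrecoverage S) 𝒳)
    (Q : 𝒳.obj → Prop) (hiso : ObjectProperty.IsClosedUnderIsomorphisms Q)
    (hQs : Stk.IsStack (QuotSh.J Scheme.fppfPrecoverage S) (AlgSt.fullSub 𝒳 Q)) (z : 𝒳.obj)
    {V W : Over S} (hz : 𝒳.p.obj z = V) (a : W ⟶ V) [Flat a.left]
    [LocallyOfFinitePresentation a.left] (hsurj : Function.Surjective a.left)
    (h : ∀ (T : Over S) (ψ : T ⟶ W), ∃ (x : 𝒳.obj) (φ : x ⟶ z), Q x ∧ 𝒳.p.IsHomLift (ψ ≫ a) φ) :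
    Q z := by
  subst hz
  have hR := generate_singleton_mem_J a hsurj
  obtain ⟨ξ, e, -⟩ := Groth.Agent.Lib.Helper62.StkLocEss.exists_preimage_of_locally h𝒳.1
    (AlgSt.subIncl 𝒳 Q) z (Sieve.generate (Presieve.singleton a)) (hQs.2 _ hR).essSurj
    ⟨(h𝒳.2 _ hR).full, (h𝒳.2 _ hR).faithful⟩ (by
      rintro V' f ⟨W', ψ, _, ⟨⟩, rfl⟩
      obtain ⟨x, φ, hx, hφ⟩ := h _ ψ
      exact ⟨⟨x, hx⟩, φ, hφ⟩)
  exact hiso.of_iso e ξ.property

/-- an isomorphism of sheaves is surjective on points -/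
theorem isSurjectiveMor_of_isIso {X Y : Sp S} (c : X ⟶ Y) [IsIso c] : IsSurjectiveMor c := by
  intro p
  exact ⟨Points.map (inv c) p, by rw [← Points.map_comp, IsIso.inv_hom_id, Points.map_id]⟩

/-- **the scheme chart of the base change of a functor representable by schemes with `P`** -/
theorem exists_chart_of_repWith {𝒵 𝒳 : AlgSt.Cat S} (P : MorphismProperty Scheme.{u})
    [P.IsStableUnderBaseChange] (i : 𝒵 ⥤ᵇ 𝒳)
    (hi : AlgSt.RepByAlgSpWith (AlgSp.RepWith P) i) {U₀ : Over S}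
    (x₀ : FibCat.overCat U₀ ⥤ᵇ 𝒳) :
    ∃ (Z : Over S) (a : Z ⟶ U₀) (q : FibCat.overCat Z ⥤ᵇ FibCat.fp x₀ i),
      AlgSt.IsSurjective q ∧
      Nonempty (BasedFunctor.comp q (FibCat.fpFst x₀ i) ≅ AlgSt.overMap a) ∧ P a.left := by
  obtain ⟨F, e, he, hF⟩ := hi U₀ x₀
  obtain ⟨Z, g, fst, hpb⟩ := hF.1 (𝟙 ((yon S).obj U₀))
  have hfst : IsIso fst := hpb.isIso_fst_of_isIso
  let q : FibCat.overCat Z ⥤ᵇ FibCat.fp x₀ i :=
    BasedFunctor.comp (BasedFunctor.comp (ofOverCat Z) (ofSpMap fst)) e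
  let Φa : FibCat.overCat Z ⥤ᵇ FibCat.overCat U₀ := BasedFunctor.comp q (FibCat.fpFst x₀ i)
  have ha : (yon S).map (Groth.Agent.S6443.fOf Φa) =
      fst ≫ spMapOfOver (BasedFunctor.comp e (FibCat.fpFst x₀ i)) := by
    rw [← BRG.spMapOfOver_toOverCat, ← BRG.spMapOfOver_ofSpMap]
    congr 1
  refine ⟨Z, Groth.Agent.S6443.fOf Φa, q, ?_, ⟨Groth.Agent.S6443.isoOverMap Φa⟩, ?_⟩
  · have h1 : AlgSt.RepByAlgSpWith IsSurjectiveMor
        (BasedFunctor.comp (ofOverCat Z) (ofSpMap fst)) :=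
      FD.repWith_precomp_equiv _ (ofOverCat Z) (AD.ofOverCat_isEquivOver Z) _
        (DCV.repWith_ofSpMap _ DL.surj_bc ⟨(yon S).obj Z, IsAlgSpace.yon_obj Z⟩ F fst
          (isSurjectiveMor_of_isIso fst))
    exact isSurjective_comp _ e (isSurjective_of_repWith (Stk.isFibGrpd_ofPsh _) _ h1)
      (isSurjective_of_isEquivOver e he)
  · rw [← repWith_yon_map_iff P, ha]
    exact (MorphismProperty.cancel_left_of_respectsIso (RepWith P) fst _).mpr hF

open Groth.Agent.Lib.Helper86 in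
/-- **a morphism from a reduced algebraic stack whose points land in a closed substack factors
through the closed substack** -/
theorem Q_of_range_subset {𝒳 𝒴 : AlgSt.Cat S}
    (h𝒳 : AlgSt.IsAlgStack Scheme.fppfPrecoverage 𝒳)
    (h𝒴 : AlgSt.IsAlgStack Scheme.fppfPrecoverage 𝒴)
    (hred : AlgSt.SmoothLocally (fun X => IsReduced X) 𝒴) (Q : 𝒳.obj → Prop)
    (hQ : AlgSt.IsClosedSubstack 𝒳 Q Scheme.fppfPrecoverage) (f : 𝒴 ⥤ᵇ 𝒳)
    (hr : Set.range (AlgSt.Points.map f) ⊆ Set.range (AlgSt.Points.map (AlgSt.subIncl 𝒳 Q)))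
    (y : 𝒴.obj) : Q (f.obj y) := by
  obtain ⟨hiso, hZ, hci⟩ := hQ
  have hX := h𝒳.isStack.1
  have hY := h𝒴.isStack.1
  have hZf := hZ.isStack.1
  obtain ⟨U₀, x₀, hxs, hxsurj⟩ := h𝒴.atlas
  have hU₀ : FibCat.IsFibGrpd (FibCat.overCat U₀).p := FG.isFibGrpd_overForget U₀
  have hredU : IsReduced U₀.left := hred U₀ x₀ hxs
  -- the local statement on the atlas
  have hloc : ∀ t : Over U₀, Q (f.obj (x₀.obj t)) := by
    obtain ⟨Z, a, q, hq, ⟨ia⟩, hacl⟩ :=
      exists_chart_of_repWith @IsClosedImmersion (AlgSt.subIncl 𝒳 Q) hci (BasedFunctor.comp x₀ f)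
    have : IsClosedImmersion a.left := hacl
    have hasurj : Function.Surjective a.left := by
      intro u₀
      obtain ⟨ζ, hζ⟩ := hr ⟨AlgSt.Points.ofChart x₀ u₀, rfl⟩
      obtain ⟨ω, hω1, hω2⟩ := exists_point_fp hZf hX hU₀ (AlgSt.subIncl 𝒳 Q)
        (BasedFunctor.comp x₀ f) (AlgSt.Points.ofChart (BasedFunctor.id _) u₀) ζ hζ.symm
      obtain ⟨ζ', rfl⟩ := hq ω
      obtain ⟨z₀, rfl⟩ := exists_ofChart_id Z ζ'
      refine ⟨z₀, ?_⟩
      apply ofChart_id_injective U₀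
      rw [← hω1, ← ofChart_overMap_id, ← map_comp]
      exact (ofChart_congr ia z₀).symm
    have : Surjective a.left := ⟨hasurj⟩
    have hiso_a : IsIso a.left := isIso_of_isClosedImmersion_of_surjective a.left
    have : IsIso a := by
      have : IsIso ((Over.forget S).map a) := hiso_a
      exact isIso_of_reflects_iso a (Over.forget S)
    let ω := q.obj (Over.mk (inv a))
    have hQω : Q (f.obj (x₀.obj ω.obj.fst)) :=
      hiso.of_iso ω.obj.iso.symm ω.obj.snd.property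
    have e1 : ω.obj.fst ≅ Over.mk (inv a ≫ a) := compApp ia (Over.mk (inv a))
    intro t
    let m : t ⟶ ω.obj.fst :=
      (Over.homMk t.hom (by simp) : t ⟶ Over.mk (inv a ≫ a)) ≫ e1.inv
    exact Q_of_hom hX Q hiso hZf (f.map (x₀.map m)) hQω
  -- descent along the atlas
  let V : Over S := 𝒴.p.obj y
  let y₁ : 𝒴.p.Fiber V := ⟨y, rfl⟩
  have : 𝒴.p.IsFibered := TwoYoneda.isFibered_of_isFibGrpd hY
  let ŷ : FibCat.overCat V ⥤ᵇ 𝒴 := TwoYoneda.pbB y₁
  obtain ⟨W, a, b, hasm, ⟨iso⟩, hpt⟩ := exists_bridge_iso hY h𝒴.diag ŷ x₀ hxs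
  have hx₀sj := ofChart_surjective x₀ (isSurjective_of_repWith hY x₀ hxsurj)
  have hasurj : Function.Surjective a.left := by
    intro v
    obtain ⟨u₀, hu₀⟩ := hx₀sj (AlgSt.Points.ofChart ŷ v)
    obtain ⟨w, hw, -⟩ := hpt v u₀ hu₀.symm
    exact ⟨w, hw⟩
  have : Flat a.left := inferInstance
  have : LocallyOfFinitePresentation a.left := inferInstance
  refine Q_of_cover h𝒳.isStack Q hiso hZ.isStack (f.obj y) (f.w_obj y) a hasurj ?_
  intro T ψ
  refine ⟨f.obj (ŷ.obj (Over.mk (ψ ≫ a))), f.map (TwoYoneda.pbMap y₁ (Over.mk (ψ ≫ a))), ?_, ?_⟩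
  · exact hiso.of_iso (f.toFunctor.mapIso (compApp iso (Over.mk ψ))).symm (hloc _)
  · have := (TwoYoneda.pbMap_cart y₁ (Over.mk (ψ ≫ a))).toIsHomLift
    change 𝒳.p.IsHomLift (Over.mk (ψ ≫ a)).hom (f.map (TwoYoneda.pbMap y₁ (Over.mk (ψ ≫ a))))
    infer_instance

end Groth.Agent.Lib.Helper10.CSub
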