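import Groth.Prelude.Def_HopfRep
import Mathlib.LinearAlgebra.TensorProduct.RightExactness
import Mathlib.LinearAlgebra.DirectSum.Finsupp
import Mathlib.Algebra.Module.Projective
import Mathlib.RingTheory.Flat.Basic

/-!
# Comodules over a coalgebra over a commutative ring: slices and subcomodules
-/

set_option autoImplicit false

universe u v w w'

open TensorProduct

namespace Groth.Agent.Lib.Helper10.ComodRing

section Slice

variable {k : Type u} [CommRing k] {V : Type w} [AddCommGroup V] [Module k V]
  {V' : Type w'} [AddCommGroup V'] [Module k V']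
  {B : Type v} [AddCommGroup B] [Module k B]

/-- contraction of the second factor against a linear form -/
noncomputable def slice (V : Type w) [AddCommGroup V] [Module k V] (g : B →ₗ[k] k) :
    V ⊗[k] B →ₗ[k] V :=
  (TensorProduct.rid k V).toLinearMap ∘ₗ g.lTensor V

@[simp] theorem slice_tmul (g : B →ₗ[k] k) (v : V) (b : B) : slice V g (v ⊗ₜ[k] b) = g b • v := by
  simp [slice]

theorem slice_rTensor (g : B →ₗ[k] k) (h : V →ₗ[k] V') (x : V ⊗[k] B) :
    slice V' g (h.rTensor B x) = h (slice V g x) := by
  induction x using TensorProduct.induction_on with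
  | zero => simp
  | add x y hx hy => simp only [map_add, hx, hy]
  | tmul v b => simp

theorem slice_lTensor {B' : Type*} [AddCommGroup B'] [Module k B'] (g : B' →ₗ[k] k)
    (φ : B →ₗ[k] B') (x : V ⊗[k] B) :
    slice V g (φ.lTensor V x) = slice V (g ∘ₗ φ) x := by
  induction x using TensorProduct.induction_on with
  | zero => simp
  | add x y hx hy => simp only [map_add, hx, hy]
  | tmul v b => simp

theorem slice_add (g g' : B →ₗ[k] k) (x : V ⊗[k] B) :
    slice V (g + g') x = slice V g x + slice V g' x := by
  induction x using TensorProduct.induction_on with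
  | zero => simp
  | add x y hx hy => simp only [map_add, hx, hy]; abel
  | tmul v b => simp [add_smul]

theorem slice_smul (c : k) (g : B →ₗ[k] k) (x : V ⊗[k] B) :
    slice V (c • g) x = c • slice V g x := by
  induction x using TensorProduct.induction_on with
  | zero => simp
  | add x y hx hy => simp only [map_add, hx, hy, smul_add]
  | tmul v b => simp [mul_smul]

theorem slice_slice {B' : Type*} [AddCommGroup B'] [Module k B'] (g : B →ₗ[k] k) (f : B' →ₗ[k] k)
    (z : (V ⊗[k] B) ⊗[k] B') :
    slice V g (slice (V ⊗[k] B) f z) =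
      slice V (LinearMap.mul' k k ∘ₗ TensorProduct.map g f) (TensorProduct.assoc k V B B' z) := by
  induction z using TensorProduct.induction_on with
  | zero => simp
  | add x y hx hy => simp only [map_add, hx, hy]
  | tmul y b' =>
    induction y using TensorProduct.induction_on with
    | zero => simp
    | add x y hx hy => simp only [add_tmul, map_add, hx, hy]
    | tmul v b =>
      simp [mul_smul]
      rw [smul_comm]

/-- slices of elements of `W ⊗ B` lie in `W` -/
theorem slice_mem_of_mem_range (W : Submodule k V) (y : V ⊗[k] B)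
    (hy : y ∈ LinearMap.range (W.subtype.rTensor B)) (g : B →ₗ[k] k) : slice V g y ∈ W := by
  obtain ⟨z, rfl⟩ := hy
  rw [slice_rTensor]
  exact (slice W g z).2

/-- the slices of a tensor lie in a finitely generated submodule -/
theorem exists_finset_slice_mem (x : V ⊗[k] B) :
    ∃ s : Finset V, ∀ g : B →ₗ[k] k, slice V g x ∈ Submodule.span k (s : Set V) := by
  classical
  induction x using TensorProduct.induction_on with
  | zero => exact ⟨∅, fun g => by simp⟩
  | tmul v b =>
    refine ⟨{v}, fun g => ?_⟩
    rw [slice_tmul]
    exact Submodule.smul_mem _ _ (Submodule.subset_span (by simp))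
  | add x y hx hy =>
    obtain ⟨s, hs⟩ := hx
    obtain ⟨t, ht⟩ := hy
    refine ⟨s ∪ t, fun g => ?_⟩
    rw [map_add]
    refine Submodule.add_mem _ (Submodule.span_mono ?_ (hs g)) (Submodule.span_mono ?_ (ht g))
    · simp
    · simp

/-- a tensor lies in `N ⊗ B` for a finitely generated `N` -/
theorem exists_finset_mem_range (x : V ⊗[k] B) :
    ∃ s : Finset V, x ∈ LinearMap.range ((Submodule.span k (s : Set V)).subtype.rTensor B) := by
  classical
  induction x using TensorProduct.induction_on with
  | zero => exact ⟨∅, Submodule.zero_mem _⟩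
  | tmul v b =>
    refine ⟨{v}, ⟨(⟨v, Submodule.subset_span (by simp)⟩ : Submodule.span k _) ⊗ₜ[k] b, by simp⟩⟩
  | add x y hx hy =>
    obtain ⟨s, hs⟩ := hx
    obtain ⟨t, ht⟩ := hy
    refine ⟨s ∪ t, ?_⟩
    have mono : ∀ {N N' : Submodule k V}, N ≤ N' →
        LinearMap.range (N.subtype.rTensor B) ≤ LinearMap.range (N'.subtype.rTensor B) := by
      intro N N' h
      rintro _ ⟨z, rfl⟩
      refine ⟨(Submodule.inclusion h).rTensor B z, ?_⟩
      rw [← LinearMap.rTensor_comp_apply]
      rfl
    refine Submodule.add_mem _ (mono (Submodule.span_mono ?_) hs) (mono (Submodule.span_mono ?_) ht)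
    · simp
    · simp

end Slice

section Proj

variable {k : Type u} [CommRing k] {V : Type w} [AddCommGroup V] [Module k V]
  {B : Type v} [AddCommGroup B] [Module k B]

/-- For projective `B`: every tensor `y ∈ V ⊗ B` is a finite sum `∑ slice(g_i) y ⊗ b_i`; in
particular there is a finite set of slices of `y` spanning all slices, and `y ∈ W ⊗ B` as soon as
these slices are in `W`. -/
theorem exists_finset_slices [Module.Projective k B] (y : V ⊗[k] B) :
    ∃ (ι : Type v) (F : Finset ι) (g : ι → (B →ₗ[k] k)) (b : ι → B),
      y = ∑ i ∈ F, slice V (g i) y ⊗ₜ[k] b i := by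
  classical
  obtain ⟨s, hs⟩ := Module.projective_def'.1 (inferInstance : Module.Projective k B)
  let e := TensorProduct.finsuppScalarRight k k V B
  let z := s.lTensor V y
  have hz : ∀ i, e z i = slice V (Finsupp.lapply i ∘ₗ s) y := by
    intro i
    rw [TensorProduct.finsuppScalarRight_apply (R := k) (S := k)]
    change (TensorProduct.rid k V) ((Finsupp.lapply i).lTensor V (s.lTensor V y)) = _
    rw [← LinearMap.lTensor_comp_apply]
    rfl
  have hy : y = (Finsupp.linearCombination k id).lTensor V z := by
    rw [← LinearMap.lTensor_comp_apply, hs, LinearMap.lTensor_id, LinearMap.id_apply]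
  have hz2 : z = ∑ i ∈ (e z).support, (e z i) ⊗ₜ[k] (Finsupp.single i (1 : k)) := by
    apply e.injective
    rw [map_sum]
    conv_lhs => rw [← Finsupp.sum_single (e z)]
    rw [Finsupp.sum]
    refine Finset.sum_congr rfl (fun i _ => ?_)
    rw [← TensorProduct.finsuppScalarRight_symm_apply_single (R := k) (S := k),
      LinearEquiv.apply_symm_apply]
  refine ⟨B, (e z).support, fun i => Finsupp.lapply i ∘ₗ s, id, ?_⟩
  conv_lhs => rw [hy, hz2]
  rw [map_sum]
  refine Finset.sum_congr rfl (fun i _ => ?_)
  rw [LinearMap.lTensor_tmul, hz]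
  simp

theorem mem_range_of_slice_mem [Module.Projective k B] (W : Submodule k V) (y : V ⊗[k] B)
    (h : ∀ g : B →ₗ[k] k, slice V g y ∈ W) :
    y ∈ LinearMap.range (W.subtype.rTensor B) := by
  obtain ⟨ι, F, g, b, hy⟩ := exists_finset_slices y
  rw [hy]
  refine Submodule.sum_mem _ (fun i _ => ?_)
  exact ⟨(⟨slice V (g i) y, h _⟩ : W) ⊗ₜ[k] b i, by simp⟩

end Proj

section Comod

variable {k : Type u} [CommRing k] {A : Type v} [AddCommGroup A] [Module k A] [Coalgebra k A]
variable {V : Type w} [AddCommGroup V] [Module k V]

/-- convolution of two linear forms on a coalgebra -/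
noncomputable def convForm (g f : A →ₗ[k] k) : A →ₗ[k] k :=
  (LinearMap.mul' k k ∘ₗ TensorProduct.map g f) ∘ₗ (CoalgebraStruct.comul (R := k) (A := A))

theorem slice_counit_coact (c : HopfRep.Comod k A V) (v : V) :
    slice V (CoalgebraStruct.counit (R := k) (A := A)) (c.coact v) = v := by
  have h := LinearMap.congr_fun c.counit_comp v
  simp only [LinearMap.coe_comp, Function.comp_apply, LinearMap.flip_apply,
    TensorProduct.mk_apply] at h
  unfold slice
  rw [LinearMap.comp_apply, h]
  simp

theorem slice_coact_slice (c : HopfRep.Comod k A V) (f g : A →ₗ[k] k) (v : V) :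
    slice V g (c.coact (slice V f (c.coact v))) = slice V (convForm g f) (c.coact v) := by
  have hco := LinearMap.congr_fun c.coassoc v
  simp only [LinearMap.coe_comp, Function.comp_apply, LinearEquiv.coe_coe] at hco
  rw [← slice_rTensor f c.coact (c.coact v), slice_slice, hco, slice_lTensor]
  rfl

end Comod

end Groth.Agent.Lib.Helper10.ComodRing
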