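import Mathlib.AlgebraicTopology.AlternatingFaceMapComplex
import Mathlib.Algebra.Homology.Homotopy
import Mathlib.Algebra.Homology.Single

/-!
# Extra codegeneracies for cosimplicial objects

A cosimplicial object `Y` in a preadditive category with a coaugmentation `ε : P ⟶ Y⁰` and
"extra codegeneracies" `h n : Y^{n+1} ⟶ Y^n`, `π : Y⁰ ⟶ P` has alternating coface map complex
homotopy equivalent to `P` in degree `0`.
-/

set_option autoImplicit false

namespace Groth.Agent.Lib.Helper10

open CategoryTheory CategoryTheory.Limits AlgebraicTopology Simplicial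

universe v u

variable {A : Type u} [Category.{v} A] [Preadditive A]

/-- Extra codegeneracy data for a coaugmented cosimplicial object. -/
structure CoExtra (Y : CosimplicialObject A) (P : A) where
  ε : P ⟶ Y.obj ⦋0⦌
  π : Y.obj ⦋0⦌ ⟶ P
  h : ∀ n : ℕ, Y.obj ⦋n + 1⦌ ⟶ Y.obj ⦋n⦌
  ε_δ : ε ≫ Y.δ (0 : Fin 2) = ε ≫ Y.δ (1 : Fin 2)
  ε_π : ε ≫ π = 𝟙 P
  δ₀_h : ∀ n : ℕ, Y.δ (0 : Fin (n + 2)) ≫ h n = 𝟙 _
  δ₁_h₀ : Y.δ (1 : Fin 2) ≫ h 0 = π ≫ ε
  δ_succ_h : ∀ (n : ℕ) (j : Fin (n + 2)), Y.δ j.succ ≫ h (n + 1) = h n ≫ Y.δ j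

namespace CoExtra

variable {Y : CosimplicialObject A} {P : A} (c : CoExtra Y P)

lemma d_h_succ (n : ℕ) :
    AlternatingCofaceMapComplex.objD Y (n + 1) ≫ c.h (n + 1) +
      c.h n ≫ AlternatingCofaceMapComplex.objD Y n = 𝟙 _ := by
  simp only [AlternatingCofaceMapComplex.objD, Preadditive.sum_comp, Preadditive.comp_sum,
    Preadditive.zsmul_comp, Preadditive.comp_zsmul]
  rw [Fin.sum_univ_succ]
  simp only [Fin.val_zero, pow_zero, one_smul, c.δ₀_h, Fin.val_succ, c.δ_succ_h]
  rw [add_assoc, ← Finset.sum_add_distrib]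
  convert add_zero _
  apply Finset.sum_eq_zero
  intro j _
  rw [pow_succ, mul_neg_one, neg_smul, neg_add_cancel]

lemma d_h_zero :
    AlternatingCofaceMapComplex.objD Y 0 ≫ c.h 0 + c.π ≫ c.ε = 𝟙 _ := by
  simp only [AlternatingCofaceMapComplex.objD, Preadditive.sum_comp, Preadditive.zsmul_comp]
  rw [Fin.sum_univ_two]
  simp only [Fin.val_zero, pow_zero, one_smul, Fin.val_one, pow_one, neg_smul]
  rw [c.δ₀_h, c.δ₁_h₀]
  abel

lemma ε_d : c.ε ≫ AlternatingCofaceMapComplex.objD Y 0 = 0 := by
  simp only [AlternatingCofaceMapComplex.objD, Preadditive.comp_sum, Preadditive.comp_zsmul]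
  rw [Fin.sum_univ_two]
  simp only [Fin.val_zero, pow_zero, one_smul, Fin.val_one, pow_one, neg_smul]
  rw [c.ε_δ]
  abel

variable [HasZeroObject A]

/-- the homotopy operator -/
noncomputable def H (i j : ℕ) :
    ((alternatingCofaceMapComplex A).obj Y).X i ⟶ ((alternatingCofaceMapComplex A).obj Y).X j :=
  if hij : j + 1 = i then eqToHom (by subst hij; rfl) ≫ c.h j else 0

lemma H_succ (n : ℕ) : c.H (n + 1) n = c.h n := by
  rw [H, dif_pos rfl]
  exact Category.id_comp _

omit [HasZeroObject A] in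
lemma obj_d (Y : CosimplicialObject A) (n : ℕ) :
    ((alternatingCofaceMapComplex A).obj Y).d n (n + 1) =
      AlternatingCofaceMapComplex.objD Y n :=
  CochainComplex.of_d (fun n => Y.obj ⦋n⦌) (AlternatingCofaceMapComplex.objD Y) n

/-- the coaugmentation as a morphism of complexes -/
noncomputable def homε :
    (CochainComplex.single₀ A).obj P ⟶ (alternatingCofaceMapComplex A).obj Y :=
  (CochainComplex.fromSingle₀Equiv _ _).symm ⟨c.ε, by
    rw [obj_d]
    exact c.ε_d⟩

/-- the retraction as a morphism of complexes -/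
noncomputable def homπ :
    (alternatingCofaceMapComplex A).obj Y ⟶ (CochainComplex.single₀ A).obj P :=
  (CochainComplex.toSingle₀Equiv _ _).symm c.π

@[simp] lemma homε_f_zero : c.homε.f 0 = c.ε :=
  CochainComplex.fromSingle₀Equiv_symm_apply_f_zero _ _

@[simp] lemma homπ_f_zero : c.homπ.f 0 = c.π :=
  CochainComplex.toSingle₀Equiv_symm_apply_f_zero _

@[simp] lemma homπ_f_succ (n : ℕ) : c.homπ.f (n + 1) = 0 := rfl

/-- the homotopy between the identity and `homπ ≫ homε` -/
noncomputable def homotopy :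
    Homotopy (𝟙 ((alternatingCofaceMapComplex A).obj Y)) (c.homπ ≫ c.homε) where
  hom := c.H
  zero i j hij := by
    have : ¬ (j + 1 = i) := hij
    simp [H, this]
  comm i := by
    cases i with
    | zero =>
      rw [Homotopy.dNext_cochainComplex, Homotopy.prevD_zero_cochainComplex, c.H_succ, add_zero,
        obj_d, HomologicalComplex.comp_f, homε_f_zero, homπ_f_zero]
      exact c.d_h_zero.symm
    | succ n =>
      rw [Homotopy.dNext_cochainComplex, Homotopy.prevD_succ_cochainComplex, c.H_succ, c.H_succ,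
        HomologicalComplex.comp_f, homπ_f_succ, zero_comp, add_zero, obj_d, obj_d]
      exact (c.d_h_succ n).symm

/-- The homotopy equivalence between `P` in degree `0` and the alternating coface map
complex. -/
noncomputable def homotopyEquiv :
    HomotopyEquiv ((CochainComplex.single₀ A).obj P) ((alternatingCofaceMapComplex A).obj Y) where
  hom := c.homε
  inv := c.homπ
  homotopyHomInvId := Homotopy.ofEq (by
    apply HomologicalComplex.from_single_hom_ext
    rw [HomologicalComplex.comp_f, homε_f_zero, homπ_f_zero]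
    exact c.ε_π)
  homotopyInvHomId := c.homotopy.symm

end CoExtra

end Groth.Agent.Lib.Helper10
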