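import Groth.Agent.Lib.Helper10.CosimpExtra
import Mathlib.AlgebraicTopology.SimplicialObject.Basic

/-!
# From extra degeneracies of a simplicial object to extra codegeneracies

If `E` is a simplicial object of `D` with an augmentation to `pt` and extra degeneracy data
(only the face relations are needed) and `G : Dᵒᵖ ⥤ A`, then `E.rightOp ⋙ G` has extra
codegeneracy data.
-/

set_option autoImplicit false

namespace Groth.Agent.Lib.Helper10

open CategoryTheory CategoryTheory.Limits AlgebraicTopology Simplicial Opposite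

universe v u v' u'

variable {D : Type u'} [Category.{v'} D]

/-- Extra degeneracy data (face relations only) for an augmented simplicial object. -/
structure ExtraD (E : SimplicialObject D) (pt : D) where
  a : E _⦋0⦌ ⟶ pt
  s' : pt ⟶ E _⦋0⦌
  s : ∀ n : ℕ, E _⦋n⦌ ⟶ E _⦋n + 1⦌
  δ_a : E.δ (0 : Fin 2) ≫ a = E.δ (1 : Fin 2) ≫ a
  s'_a : s' ≫ a = 𝟙 pt
  s_δ₀ : ∀ n : ℕ, s n ≫ E.δ (0 : Fin (n + 2)) = 𝟙 _
  s₀_δ₁ : s 0 ≫ E.δ (1 : Fin 2) = a ≫ s'
  s_δ_succ : ∀ (n : ℕ) (j : Fin (n + 2)), s (n + 1) ≫ E.δ j.succ = E.δ j ≫ s n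

variable {A : Type u} [Category.{v} A] [Preadditive A]

lemma rightOp_comp_δ (E : SimplicialObject D) (G : Dᵒᵖ ⥤ A) {n : ℕ} (i : Fin (n + 2)) :
    CosimplicialObject.δ (E.rightOp ⋙ G : CosimplicialObject A) i = G.map (E.δ i).op := rfl

/-- extra codegeneracy data obtained by applying a contravariant functor. -/
def ExtraD.coExtra {E : SimplicialObject D} {pt : D} (d : ExtraD E pt) (G : Dᵒᵖ ⥤ A) :
    CoExtra (E.rightOp ⋙ G : CosimplicialObject A) (G.obj (op pt)) where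
  ε := G.map d.a.op
  π := G.map d.s'.op
  h n := G.map (d.s n).op
  ε_δ := by
    rw [rightOp_comp_δ, rightOp_comp_δ]
    change G.map d.a.op ≫ G.map (E.δ 0).op = G.map d.a.op ≫ G.map (E.δ 1).op
    rw [← G.map_comp, ← G.map_comp, ← op_comp, ← op_comp, d.δ_a]
  ε_π := by
    rw [← G.map_comp, ← op_comp, d.s'_a, op_id, G.map_id]
  δ₀_h n := by
    rw [rightOp_comp_δ]
    change G.map (E.δ 0).op ≫ G.map (d.s n).op = 𝟙 (G.obj (op (E _⦋n⦌)))
    rw [← G.map_comp, ← op_comp, d.s_δ₀, op_id, G.map_id]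
  δ₁_h₀ := by
    rw [rightOp_comp_δ]
    change G.map (E.δ 1).op ≫ G.map (d.s 0).op = G.map d.s'.op ≫ G.map d.a.op
    rw [← G.map_comp, ← op_comp, d.s₀_δ₁, op_comp, G.map_comp]
  δ_succ_h n j := by
    rw [rightOp_comp_δ, rightOp_comp_δ]
    change G.map (E.δ j.succ).op ≫ G.map (d.s (n + 1)).op =
      G.map (d.s n).op ≫ G.map (E.δ j).op
    rw [← G.map_comp, ← op_comp, d.s_δ_succ, op_comp, G.map_comp]

end Groth.Agent.Lib.Helper10
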