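import Mathlib.Algebra.Module.FinitePresentation
import Mathlib.LinearAlgebra.Contraction
import Mathlib.LinearAlgebra.LeftExact
import Mathlib.RingTheory.Flat.Basic

/-!
# `M^* ⊗ N → Hom(M, N)` is bijective for `M` finitely presented and `N` flat
-/

namespace Groth.Agent.Lib.Helper10.DualTensorFP

open TensorProduct

universe u v w

variable (k : Type u) [CommRing k]

/-- naturality of `dualTensorHom` in the first variable -/
theorem dualTensorHom_natural {M M' : Type*} [AddCommGroup M] [Module k M] [AddCommGroup M']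
    [Module k M'] (N : Type*) [AddCommGroup N] [Module k N] (f : M' →ₗ[k] M)
    (x : Module.Dual k M ⊗[k] N) :
    dualTensorHom k M' N (f.dualMap.rTensor N x) = (dualTensorHom k M N x).comp f := by
  induction x using TensorProduct.induction_on with
  | zero => simp
  | add x y hx hy => simp only [map_add, hx, hy, LinearMap.add_comp]
  | tmul φ n =>
    ext m
    simp [dualTensorHom_apply]

/-- kernel comparison (a four-lemma) -/
theorem bijective_of_left_exact {A₁ A₂ A₃ B₁ B₂ B₃ : Type*}
    [AddCommGroup A₁] [AddCommGroup A₂] [AddCommGroup A₃] [AddCommGroup B₁] [AddCommGroup B₂]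
    [AddCommGroup B₃] [Module k A₁] [Module k A₂] [Module k A₃] [Module k B₁] [Module k B₂]
    [Module k B₃] (i : A₁ →ₗ[k] A₂) (g : A₂ →ₗ[k] A₃) (i' : B₁ →ₗ[k] B₂) (g' : B₂ →ₗ[k] B₃)
    (h₁ : A₁ →ₗ[k] B₁) (h₂ : A₂ →ₗ[k] B₂) (h₃ : A₃ →ₗ[k] B₃)
    (hi : Function.Injective i) (hig : Function.Exact i g)
    (hi' : Function.Injective i') (hig' : Function.Exact i' g')
    (c₁ : ∀ a, h₂ (i a) = i' (h₁ a)) (c₂ : ∀ a, h₃ (g a) = g' (h₂ a))
    (hh₂ : Function.Bijective h₂) (hh₃ : Function.Injective h₃) : Function.Bijective h₁ := by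
  constructor
  · intro a a' haa
    apply hi
    apply hh₂.1
    rw [c₁, c₁, haa]
  · intro b
    obtain ⟨a₂, ha₂⟩ := hh₂.2 (i' b)
    have h1 : g a₂ = 0 := by
      apply hh₃
      rw [c₂, ha₂, map_zero]
      exact (hig' (i' b)).2 ⟨b, rfl⟩
    obtain ⟨a₁, rfl⟩ := (hig a₂).1 h1
    refine ⟨a₁, hi' ?_⟩
    rw [← c₁, ha₂]

theorem dualTensorHom_bijective_of_finite_free (ι : Type*) [Finite ι] (N : Type*)
    [AddCommGroup N] [Module k N] : Function.Bijective (dualTensorHom k (ι → k) N) := by
  classical
  haveI := Fintype.ofFinite ι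
  exact (dualTensorHomEquivOfBasis (N := N) (Pi.basisFun k ι)).bijective

theorem dualTensorHom_bijective (M : Type v) [AddCommGroup M] [Module k M]
    [Module.FinitePresentation k M] (N : Type w) [AddCommGroup N] [Module k N] [Module.Flat k N] :
    Function.Bijective (dualTensorHom k M N) := by
  obtain ⟨n, m, f, g, hf, hfg⟩ := Module.FinitePresentation.exists_fin' k M
  have e1 : Function.Exact f.dualMap g.dualMap :=
    LinearMap.exact_lcomp_of_exact_of_surjective k hfg hf
  have i1 : Function.Injective f.dualMap := LinearMap.dualMap_injective_of_surjective hf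
  have i2 : Function.Injective (f.dualMap.rTensor N) :=
    Module.Flat.rTensor_preserves_injective_linearMap _ i1
  have e2 : Function.Exact (f.dualMap.rTensor N) (g.dualMap.rTensor N) :=
    Module.Flat.rTensor_exact N e1
  have i3 : Function.Injective (LinearMap.lcomp k N f) :=
    LinearMap.lcomp_injective_of_surjective f hf
  have e3 : Function.Exact (LinearMap.lcomp k N f) (LinearMap.lcomp k N g) :=
    LinearMap.exact_lcomp_of_exact_of_surjective N hfg hf
  have b2 := dualTensorHom_bijective_of_finite_free k (Fin n) N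
  have b3 := dualTensorHom_bijective_of_finite_free k (Fin m) N
  exact bijective_of_left_exact k (A₁ := Module.Dual k M ⊗[k] N)
    (A₂ := Module.Dual k (Fin n → k) ⊗[k] N) (A₃ := Module.Dual k (Fin m → k) ⊗[k] N)
    (B₁ := M →ₗ[k] N) (B₂ := (Fin n → k) →ₗ[k] N) (B₃ := (Fin m → k) →ₗ[k] N)
    (i := f.dualMap.rTensor N) (g := g.dualMap.rTensor N)
    (i' := LinearMap.lcomp k N f) (g' := LinearMap.lcomp k N g)
    (h₁ := dualTensorHom k M N) (h₂ := dualTensorHom k (Fin n → k) N)
    (h₃ := dualTensorHom k (Fin m → k) N) i2 e2 i3 e3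
    (fun a => dualTensorHom_natural k N f a)
    (fun a => dualTensorHom_natural k N g a) b2 b3.1

section Read

variable {M : Type v} [AddCommGroup M] [Module k M]

/-- The reading map `N ⊗ M^* → Hom(M, N)`, `n ⊗ φ ↦ (m ↦ φ m • n)`. -/
noncomputable def T (M : Type v) [AddCommGroup M] [Module k M] (N : Type w) [AddCommGroup N]
    [Module k N] : N ⊗[k] Module.Dual k M →ₗ[k] (M →ₗ[k] N) :=
  dualTensorHom k M N ∘ₗ (TensorProduct.comm k N (Module.Dual k M)).toLinearMap

@[simp] theorem T_tmul {N : Type w} [AddCommGroup N] [Module k N] (n : N) (φ : Module.Dual k M)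
    (m : M) : T k M N (n ⊗ₜ[k] φ) m = φ m • n := by
  simp [T, dualTensorHom_apply]

theorem T_apply {N : Type w} [AddCommGroup N] [Module k N] (x : N ⊗[k] Module.Dual k M) :
    T k M N x = dualTensorHom k M N (TensorProduct.comm k N (Module.Dual k M) x) := rfl

theorem T_natural {N : Type w} [AddCommGroup N] [Module k N] {N' : Type*} [AddCommGroup N']
    [Module k N'] (u : N →ₗ[k] N') (x : N ⊗[k] Module.Dual k M) :
    T k M N' (u.rTensor (Module.Dual k M) x) = u ∘ₗ T k M N x := by
  induction x using TensorProduct.induction_on with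
  | zero => simp
  | add x y hx hy => simp only [map_add, hx, hy, LinearMap.comp_add]
  | tmul n φ => ext m; simp

theorem T_bijective [Module.FinitePresentation k M] (N : Type w) [AddCommGroup N] [Module k N]
    [Module.Flat k N] : Function.Bijective (T k M N) := by
  have h1 := dualTensorHom_bijective k M N
  have h2 := (TensorProduct.comm k N (Module.Dual k M)).bijective
  exact h1.comp h2

end Read

end Groth.Agent.Lib.Helper10.DualTensorFP
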