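import Mathlib.Algebra.Homology.DerivedCategory.Ext.ExactSequences
import Mathlib.Algebra.Homology.DerivedCategory.Ext.EnoughInjectives
import Mathlib.CategoryTheory.Abelian.Refinements
import Mathlib.CategoryTheory.Abelian.Injective.Basic

/-!
# `Ext^1(A, ∏ F_i) → ∏ Ext^1(A, F_i)` is injective
-/

set_option autoImplicit false

namespace Groth.Agent.Lib.Helper10

open CategoryTheory CategoryTheory.Limits CategoryTheory.Abelian

universe w v u t

variable {𝒜 : Type u} [Category.{v} 𝒜] [Abelian 𝒜] [HasExt.{w} 𝒜] [EnoughInjectives 𝒜]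

/-- the short exact sequence `0 → X → I(X) → Q → 0` -/
noncomputable def injSeq (X : 𝒜) : ShortComplex 𝒜 :=
  ShortComplex.mk (Injective.ι X) (cokernel.π (Injective.ι X))
    (cokernel.condition (Injective.ι X))

lemma injSeq_shortExact (X : 𝒜) : (injSeq X).ShortExact where
  exact := ShortComplex.exact_cokernel _
  mono_f := by dsimp [injSeq]; infer_instance
  epi_g := by dsimp [injSeq]; infer_instance

variable {I : Type t} (F : I → 𝒜) [HasProduct F] [HasProduct (fun i => Injective.under (F i))]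

/-- the short exact sequence `0 → ∏ F → ∏ I(F) → Q' → 0` -/
noncomputable def piSeq : ShortComplex 𝒜 :=
  ShortComplex.mk (Limits.Pi.map (fun i => Injective.ι (F i)))
    (cokernel.π (Limits.Pi.map (fun i => Injective.ι (F i))))
    (cokernel.condition (Limits.Pi.map (fun i => Injective.ι (F i))))

lemma piSeq_shortExact : (piSeq F).ShortExact where
  exact := ShortComplex.exact_cokernel _
  mono_f := by dsimp [piSeq]; infer_instance
  epi_g := by dsimp [piSeq]; infer_instance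

/-- the morphism of short complexes from `piSeq` to the `i`-th `injSeq` -/
noncomputable def piSeqProj (i : I) : piSeq F ⟶ injSeq (F i) where
  τ₁ := Pi.π F i
  τ₂ := Pi.π _ i
  τ₃ := cokernel.map _ _ (Pi.π F i) (Pi.π _ i) (by simp)
  comm₁₂ := by simp [piSeq, injSeq]
  comm₂₃ := by simp [piSeq, injSeq]

/-- if `z ≫ (Q' → Q_i) = 0` for all `i` then `z = 0`. -/
lemma piSeq_X₃_hom_ext {Z : 𝒜} (z : Z ⟶ (piSeq F).X₃)
    (hz : ∀ i, z ≫ (piSeqProj F i).τ₃ = 0) : z = 0 := by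
  have := (piSeq_shortExact F).epi_g
  obtain ⟨Z', p, hp, w, hw⟩ := surjective_up_to_refinements_of_epi (piSeq F).g z
  -- each component of `w` factors through `F i`
  have hker : ∀ i, ∃ c : Z' ⟶ (injSeq (F i)).X₁,
      c ≫ (injSeq (F i)).f = w ≫ (piSeqProj F i).τ₂ := by
    intro i
    have h0 : (w ≫ (piSeqProj F i).τ₂) ≫ (injSeq (F i)).g = 0 := by
      have h1 := (piSeqProj F i).comm₂₃
      calc (w ≫ (piSeqProj F i).τ₂) ≫ (injSeq (F i)).g
          = w ≫ ((piSeqProj F i).τ₂ ≫ (injSeq (F i)).g) := Category.assoc _ _ _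
        _ = w ≫ ((piSeq F).g ≫ (piSeqProj F i).τ₃) := by rw [h1]
        _ = (w ≫ (piSeq F).g) ≫ (piSeqProj F i).τ₃ := (Category.assoc _ _ _).symm
        _ = (p ≫ z) ≫ (piSeqProj F i).τ₃ := by rw [hw]
        _ = p ≫ (z ≫ (piSeqProj F i).τ₃) := Category.assoc _ _ _
        _ = 0 := by rw [hz i, comp_zero]
    have := (injSeq_shortExact (F i)).mono_f
    exact ⟨(injSeq_shortExact (F i)).exact.lift _ h0, (injSeq_shortExact (F i)).exact.lift_f _ h0⟩
  choose c hc using hker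
  let cc : Z' ⟶ (piSeq F).X₁ := Pi.lift c
  have hw' : w = cc ≫ (piSeq F).f := by
    apply Pi.hom_ext
    intro i
    have h2 : cc ≫ (piSeqProj F i).τ₁ = c i := Pi.lift_π _ _
    have h3 := (piSeqProj F i).comm₁₂
    calc w ≫ Pi.π _ i = w ≫ (piSeqProj F i).τ₂ := rfl
      _ = c i ≫ (injSeq (F i)).f := (hc i).symm
      _ = (cc ≫ (piSeqProj F i).τ₁) ≫ (injSeq (F i)).f := by rw [h2]
      _ = cc ≫ ((piSeqProj F i).τ₁ ≫ (injSeq (F i)).f) := Category.assoc _ _ _
      _ = cc ≫ ((piSeq F).f ≫ (piSeqProj F i).τ₂) := by rw [h3]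
      _ = (cc ≫ (piSeq F).f) ≫ (piSeqProj F i).τ₂ := (Category.assoc _ _ _).symm
  have : p ≫ z = 0 := by
    calc p ≫ z = w ≫ (piSeq F).g := hw
      _ = (cc ≫ (piSeq F).f) ≫ (piSeq F).g := by rw [hw']
      _ = cc ≫ ((piSeq F).f ≫ (piSeq F).g) := Category.assoc _ _ _
      _ = 0 := by rw [(piSeq F).zero, comp_zero]
  rw [← cancel_epi p, this, comp_zero]

theorem ext_one_pi_eq_zero (A : 𝒜) (x : Ext.{w} A (∏ᶜ F) 1)
    (hx : ∀ i, x.comp (Ext.mk₀ (Pi.π F i)) (add_zero 1) = 0) : x = 0 := by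
  have hS := piSeq_shortExact F
  have : Injective (piSeq F).X₂ := by dsimp [piSeq]; infer_instance
  obtain ⟨x₃, hx₃⟩ := Ext.covariant_sequence_exact₁ A hS x (Ext.eq_zero_of_injective _)
    (zero_add 1)
  obtain ⟨a, rfl⟩ := (Ext.mk₀_bijective A (piSeq F).X₃).2 x₃
  -- each `a ≫ q_i` lifts
  have hlift : ∀ i, ∃ b : A ⟶ Injective.under (F i),
      b ≫ (injSeq (F i)).g = a ≫ (piSeqProj F i).τ₃ := by
    intro i
    have h1 : (Ext.mk₀ (a ≫ (piSeqProj F i).τ₃)).comp (injSeq_shortExact (F i)).extClass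
        (zero_add 1) = 0 := by
      rw [← Ext.mk₀_comp_mk₀, Ext.comp_assoc_of_second_deg_zero,
        ← ShortComplex.ShortExact.extClass_naturality hS (injSeq_shortExact (F i)) (piSeqProj F i),
        ← Ext.comp_assoc_of_third_deg_zero, hx₃]
      exact hx i
    obtain ⟨y, hy⟩ := Ext.covariant_sequence_exact₃ A (injSeq_shortExact (F i)) _ (zero_add 1) h1
    obtain ⟨b, rfl⟩ := (Ext.mk₀_bijective A _).2 y
    refine ⟨b, ?_⟩
    rw [Ext.mk₀_comp_mk₀] at hy
    exact (Ext.mk₀_bijective A _).1 hy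
  choose b hb using hlift
  let bb : A ⟶ (piSeq F).X₂ := Pi.lift b
  have hbb : ∀ i, bb ≫ (piSeqProj F i).τ₂ = b i := fun i => Pi.lift_π _ _
  have hba : bb ≫ (piSeq F).g = a := by
    rw [← sub_eq_zero]
    apply piSeq_X₃_hom_ext
    intro i
    rw [Preadditive.sub_comp, sub_eq_zero, Category.assoc, ← (piSeqProj F i).comm₂₃, ← hb i,
      ← Category.assoc, hbb]
    rfl
  have h0 : (Ext.mk₀ (piSeq F).g).comp hS.extClass (zero_add 1) = 0 := hS.comp_extClass
  rw [← hx₃, ← hba, ← Ext.mk₀_comp_mk₀, Ext.comp_assoc_of_second_deg_zero, h0, Ext.comp_zero]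
  rfl

theorem ext_one_pi_ext (A : 𝒜) (x y : Ext.{w} A (∏ᶜ F) 1)
    (h : ∀ i, x.comp (Ext.mk₀ (Pi.π F i)) (add_zero 1) =
      y.comp (Ext.mk₀ (Pi.π F i)) (add_zero 1)) : x = y := by
  rw [← sub_eq_zero]
  apply ext_one_pi_eq_zero F A (x - y)
  intro i
  rw [sub_eq_add_neg, Ext.add_comp, Ext.neg_comp, h, add_neg_cancel]

end Groth.Agent.Lib.Helper10
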