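import Mathlib.Algebra.Homology.ShortComplex.ModuleCat
import Mathlib.Algebra.Category.ModuleCat.FilteredColimits
import Mathlib.CategoryTheory.Limits.ConcreteCategory.Filtered
import Mathlib.CategoryTheory.Limits.Preserves.Filtered

/-!
# Homology of a functorial short complex of modules commutes with filtered colimits
-/

open CategoryTheory Limits

universe u

namespace Groth.Agent.Lib.Helper10.FilteredHomology

variable {A : Type u} [Ring A]

section Elements

variable (S : ShortComplex (ModuleCat.{u} A))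

theorem exists_cycle_of_homology (h : S.homology) : ∃ z : S.cycles, S.homologyπ z = h :=
  (ModuleCat.epi_iff_surjective S.homologyπ).1 inferInstance h

theorem iCycles_injective : Function.Injective S.iCycles :=
  (ModuleCat.mono_iff_injective S.iCycles).1 inferInstance

theorem exists_cycle_of_g_eq_zero (x₂ : S.X₂) (hx : S.g x₂ = 0) :
    ∃ z : S.cycles, S.iCycles z = x₂ := by
  refine ⟨S.moduleCatCyclesIso.inv ⟨x₂, hx⟩, ?_⟩
  have := S.moduleCatCyclesIso_inv_iCycles_apply ⟨x₂, hx⟩
  exact this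

theorem exists_of_homologyπ_eq_zero (z : S.cycles) (hz : S.homologyπ z = 0) :
    ∃ x₁ : S.X₁, S.toCycles x₁ = z := by
  have h1 := S.π_moduleCatCyclesIso_hom_apply z
  rw [hz, map_zero] at h1
  have h2 : S.moduleCatCyclesIso.hom z ∈ LinearMap.range S.moduleCatToCycles := by
    have : (LinearMap.range S.moduleCatToCycles).mkQ (S.moduleCatCyclesIso.hom z) = 0 := h1.symm
    rwa [Submodule.mkQ_apply, Submodule.Quotient.mk_eq_zero] at this
  obtain ⟨x₁, hx₁⟩ := h2
  refine ⟨x₁, ?_⟩
  have h3 := S.toCycles_moduleCatCyclesIso_hom_apply x₁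
  have h4 : S.moduleCatCyclesIso.hom (S.toCycles x₁) = S.moduleCatCyclesIso.hom z := by
    rw [h3, ← hx₁]; rfl
  have hinj : Function.Injective S.moduleCatCyclesIso.hom :=
    (ModuleCat.mono_iff_injective _).1 inferInstance
  exact hinj h4

theorem iCycles_toCycles (x₁ : S.X₁) : S.iCycles (S.toCycles x₁) = S.f x₁ := by
  have := congrArg (fun m => m x₁) (congrArg ModuleCat.Hom.hom S.toCycles_i)
  exact this

theorem homologyπ_toCycles (x₁ : S.X₁) : S.homologyπ (S.toCycles x₁) = 0 := by
  have := congrArg (fun m => m x₁) (congrArg ModuleCat.Hom.hom S.toCycles_comp_homologyπ)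
  exact this

theorem g_iCycles (z : S.cycles) : S.g (S.iCycles z) = 0 := by
  have := congrArg (fun m => m z) (congrArg ModuleCat.Hom.hom S.iCycles_g)
  exact this

variable {S} {S' : ShortComplex (ModuleCat.{u} A)} (φ : S ⟶ S')

theorem iCycles_cyclesMap (z : S.cycles) :
    S'.iCycles (ShortComplex.cyclesMap φ z) = φ.τ₂ (S.iCycles z) := by
  have := congrArg (fun m => m z) (congrArg ModuleCat.Hom.hom (ShortComplex.cyclesMap_i φ))
  exact this

theorem homologyMap_homologyπ (z : S.cycles) :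
    ShortComplex.homologyMap φ (S.homologyπ z) = S'.homologyπ (ShortComplex.cyclesMap φ z) := by
  have := congrArg (fun m => m z) (congrArg ModuleCat.Hom.hom (ShortComplex.homologyπ_naturality φ))
  exact this

end Elements

section Criterion

variable {J : Type u} [SmallCategory J] [IsFiltered J]

/-- eventual vanishing in a filtered colimit of modules -/
theorem eventually_zero {E : J ⥤ ModuleCat.{u} A} {t : Cocone E} (ht : IsColimit t) {j : J}
    (y : E.obj j) (hy : t.ι.app j y = 0) : ∃ (j' : J) (u : j ⟶ j'), E.map u y = 0 := by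
  have h : t.ι.app j y = t.ι.app j (0 : E.obj j) := by rw [hy, map_zero]
  obtain ⟨j', u, hu⟩ := (IsColimit.eq_iff' ht y 0).1 h
  exact ⟨j', u, by rw [hu, map_zero]⟩

theorem exists_rep {E : J ⥤ ModuleCat.{u} A} {t : Cocone E} (ht : IsColimit t) (x : t.pt) :
    ∃ (j : J) (y : E.obj j), t.ι.app j y = x :=
  Concrete.isColimit_exists_rep E ht x

/-- recognition of filtered colimits of modules -/
theorem isColimit_of_surj_inj {E : J ⥤ ModuleCat.{u} A} (t : Cocone E)
    (hsurj : ∀ x : t.pt, ∃ (j : J) (y : E.obj j), t.ι.app j y = x)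
    (hinj : ∀ (j : J) (y : E.obj j), t.ι.app j y = 0 → ∃ (j' : J) (u : j ⟶ j'), E.map u y = 0) :
    Nonempty (IsColimit t) := by
  refine ⟨isColimitOfReflects (forget (ModuleCat.{u} A)) ?_⟩
  refine Types.FilteredColimit.isColimitOf' _ _ ?_ ?_
  · intro x
    obtain ⟨j, y, hy⟩ := hsurj x
    exact ⟨j, y, hy.symm⟩
  · intro i x y hxy
    have h0 : t.ι.app i ((x : E.obj i) - (y : E.obj i)) = 0 := by
      rw [map_sub]
      exact sub_eq_zero.2 hxy
    obtain ⟨j', u, hu⟩ := hinj i _ h0
    refine ⟨j', u, ?_⟩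
    rw [map_sub] at hu
    exact sub_eq_zero.1 hu

end Criterion

section Main

variable {B : Type u} [Ring B]
variable (T₁ T₂ T₃ : ModuleCat.{u} B ⥤ ModuleCat.{u} A) (α : T₁ ⟶ T₂) (β : T₂ ⟶ T₃)
  (w : α ≫ β = 0)

/-- the functorial short complex `T₁ M → T₂ M → T₃ M` -/
@[simps]
def scFunctor : ModuleCat.{u} B ⥤ ShortComplex (ModuleCat.{u} A) where
  obj M := ShortComplex.mk (α.app M) (β.app M) (by rw [← NatTrans.comp_app, w]; rfl)
  map f :=
    { τ₁ := T₁.map f
      τ₂ := T₂.map f
      τ₃ := T₃.map f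
      comm₁₂ := α.naturality f
      comm₂₃ := β.naturality f }
  map_id M := by ext <;> simp
  map_comp f g := by ext <;> simp

variable {J : Type u} [SmallCategory J] [IsFiltered J]
  [PreservesColimitsOfShape J T₁] [PreservesColimitsOfShape J T₂] [PreservesColimitsOfShape J T₃]

theorem preservesColimitsOfShape_homology :
    PreservesColimitsOfShape J
      (scFunctor T₁ T₂ T₃ α β w ⋙ ShortComplex.homologyFunctor (ModuleCat.{u} A)) := by
  constructor
  intro D
  constructor
  intro c hc
  let Φ := scFunctor T₁ T₂ T₃ α β w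
  let ι : ∀ j : J, D.obj j ⟶ c.pt := fun j => c.ι.app j
  have h₁ : IsColimit (T₁.mapCocone c) := isColimitOfPreserves T₁ hc
  have h₂ : IsColimit (T₂.mapCocone c) := isColimitOfPreserves T₂ hc
  have h₃ : IsColimit (T₃.mapCocone c) := isColimitOfPreserves T₃ hc
  -- naturality of α, β elementwise
  have natα : ∀ {M N : ModuleCat.{u} B} (f : M ⟶ N) (x : T₁.obj M),
      α.app N (T₁.map f x) = T₂.map f (α.app M x) := fun f x =>
    congrArg (fun m => m x) (congrArg ModuleCat.Hom.hom (α.naturality f))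
  have natβ : ∀ {M N : ModuleCat.{u} B} (f : M ⟶ N) (x : T₂.obj M),
      β.app N (T₂.map f x) = T₃.map f (β.app M x) := fun f x =>
    congrArg (fun m => m x) (congrArg ModuleCat.Hom.hom (β.naturality f))
  have compT₂ : ∀ {j j' : J} (u : j ⟶ j') (y : T₂.obj (D.obj j)),
      T₂.map (ι j') (T₂.map (D.map u) y) = T₂.map (ι j) y := fun u y => by
    have := congrArg (fun m => m y) (congrArg ModuleCat.Hom.hom
      ((T₂.mapCocone c).w u))
    exact this
  have compT₁ : ∀ {j j' : J} (u : j ⟶ j') (y : T₁.obj (D.obj j)),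
      T₁.map (ι j') (T₁.map (D.map u) y) = T₁.map (ι j) y := fun u y => by
    have := congrArg (fun m => m y) (congrArg ModuleCat.Hom.hom
      ((T₁.mapCocone c).w u))
    exact this
  refine isColimit_of_surj_inj _ ?_ ?_
  · -- surjectivity
    intro (h : (Φ.obj c.pt).homology)
    obtain ⟨z, hz⟩ := exists_cycle_of_homology (Φ.obj c.pt) h
    let x₂ : T₂.obj c.pt := (Φ.obj c.pt).iCycles z
    have hx₂ : β.app c.pt x₂ = 0 := g_iCycles (Φ.obj c.pt) z
    obtain ⟨j, y, hy⟩ := exists_rep h₂ x₂
    have hy' : T₂.map (ι j) y = x₂ := hy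
    have h0 : (T₃.mapCocone c).ι.app j (β.app (D.obj j) y) = 0 := by
      change T₃.map (ι j) (β.app (D.obj j) y) = 0
      rw [← natβ, hy', hx₂]
    obtain ⟨j', u, hu⟩ := eventually_zero h₃ _ h0
    have hu' : T₃.map (D.map u) (β.app (D.obj j) y) = 0 := hu
    let y' : T₂.obj (D.obj j') := T₂.map (D.map u) y
    have hy'0 : β.app (D.obj j') y' = 0 := by rw [natβ, hu']
    have hy'x : T₂.map (ι j') y' = x₂ := by rw [compT₂, hy']
    obtain ⟨z', hz'⟩ := exists_cycle_of_g_eq_zero (Φ.obj (D.obj j')) y' hy'0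
    refine ⟨j', (Φ.obj (D.obj j')).homologyπ z', ?_⟩
    change ShortComplex.homologyMap (Φ.map (ι j')) ((Φ.obj (D.obj j')).homologyπ z') = h
    rw [homologyMap_homologyπ, ← hz]
    congr 1
    apply iCycles_injective
    rw [iCycles_cyclesMap, hz']
    exact hy'x
  · -- injectivity
    intro j (h : (Φ.obj (D.obj j)).homology) hh
    have hh' : ShortComplex.homologyMap (Φ.map (ι j)) h = 0 := hh
    obtain ⟨z, hz⟩ := exists_cycle_of_homology (Φ.obj (D.obj j)) h
    rw [← hz, homologyMap_homologyπ] at hh'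
    obtain ⟨x₁, hx₁⟩ := exists_of_homologyπ_eq_zero _ _ hh'
    obtain ⟨j₁, w₁, hw₁⟩ := exists_rep h₁ (x₁ : T₁.obj c.pt)
    have hw₁' : T₁.map (ι j₁) w₁ = x₁ := hw₁
    let j₂ := IsFiltered.max j j₁
    let u : j ⟶ j₂ := IsFiltered.leftToMax j j₁
    let v : j₁ ⟶ j₂ := IsFiltered.rightToMax j j₁
    let y₀ : T₂.obj (D.obj j) := (Φ.obj (D.obj j)).iCycles z
    let y : T₂.obj (D.obj j₂) := T₂.map (D.map u) y₀ - α.app (D.obj j₂) (T₁.map (D.map v) w₁)
    have hy0 : (T₂.mapCocone c).ι.app j₂ y = 0 := by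
      change T₂.map (ι j₂) y = 0
      have e1 : T₂.map (ι j) y₀ = α.app c.pt x₁ := by
        have := iCycles_cyclesMap (Φ.map (ι j)) z
        rw [← hx₁, iCycles_toCycles] at this
        exact this.symm
      rw [map_sub, compT₂, ← natα, compT₁, hw₁', e1, sub_self]
    obtain ⟨j₃, u', hu'⟩ := eventually_zero h₂ _ hy0
    have hu'' : T₂.map (D.map u') y = 0 := hu'
    refine ⟨j₃, u ≫ u', ?_⟩
    change ShortComplex.homologyMap (Φ.map (D.map (u ≫ u'))) h = 0
    rw [← hz, homologyMap_homologyπ]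
    let w' : T₁.obj (D.obj j₃) := T₁.map (D.map (v ≫ u')) w₁
    have e2 : ShortComplex.cyclesMap (Φ.map (D.map (u ≫ u'))) z = (Φ.obj (D.obj j₃)).toCycles w' := by
      apply iCycles_injective
      rw [iCycles_cyclesMap, iCycles_toCycles]
      change T₂.map (D.map (u ≫ u')) y₀ = α.app (D.obj j₃) w'
      have e3 : T₂.map (D.map u') (T₂.map (D.map u) y₀) =
          T₂.map (D.map u') (α.app (D.obj j₂) (T₁.map (D.map v) w₁)) := by
        have := hu''
        rw [map_sub] at this
        exact sub_eq_zero.1 this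
      rw [← natα] at e3
      simp only [w', Functor.map_comp, ModuleCat.comp_apply]
      exact e3
    rw [e2, homologyπ_toCycles]

end Main

end Groth.Agent.Lib.Helper10.FilteredHomology
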