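import Groth.Agent.Lib.Helper10.GerbeGen

/-!
# Equivalences over `C` are gerbes; base change along a 2-cartesian square
-/

open CategoryTheory

namespace Groth.Agent.Lib.Helper10.GerbeEquiv

open Groth.Agent.S16864 Groth.Agent.Lib.Helper10.GerbeGen

universe v₃ u₃ v₂ u₂ v₄ u₄ v₅ u₅ v₁ u₁

variable {C : Type u₁} [Category.{v₁} C] (J : GrothendieckTopology C)

variable {𝒳 : BasedCategory.{v₂, u₂} C} {𝒴 : BasedCategory.{v₃, u₃} C}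

/-- an equivalence over `C` has an underlying equivalence of categories -/
theorem isEquivalence_of_isEquivOver (L : 𝒳 ⥤ᵇ 𝒴) (hL : FibCat.IsEquivOver L) :
    L.toFunctor.IsEquivalence := by
  obtain ⟨G, ⟨ε⟩, ⟨η⟩⟩ := hL
  let ε' : L.toFunctor ⋙ G.toFunctor ≅ 𝟭 𝒳.obj := (BasedNatTrans.forgetful 𝒳 𝒳).mapIso ε
  let η' : G.toFunctor ⋙ L.toFunctor ≅ 𝟭 𝒴.obj := (BasedNatTrans.forgetful 𝒴 𝒴).mapIso η
  exact (CategoryTheory.Equivalence.mk L.toFunctor G.toFunctor ε'.symm η').isEquivalence_functor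

theorem isGerbeOver_of_isEquivOver [FibCat.IsFibGrpd 𝒳.p] (L : 𝒳 ⥤ᵇ 𝒴)
    (hL : FibCat.IsEquivOver L) : Gerb.IsGerbeOver J L := by
  haveI := isEquivalence_of_isEquivOver L hL
  obtain ⟨G, ⟨ε⟩, ⟨η⟩⟩ := hL
  constructor
  · intro w
    refine ⟨⊤, J.top_mem _, ?_⟩
    intro V f _
    have ew : 𝒳.p.obj (G.obj w) = 𝒴.p.obj w := G.w_obj w
    obtain ⟨xV, a, ha⟩ := FibCat.IsFibGrpd.exists_lift (p := 𝒳.p) (x := G.obj w) (f ≫ eqToHom ew.symm)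
    have ha' : 𝒳.p.IsHomLift f a := (IsHomLift.lift_comp_eqToHom_iff 𝒳.p f a _).1 ha
    have h1 : 𝒴.p.IsHomLift f (L.map a) := inferInstance
    let ηw : L.obj (G.obj w) ⟶ w := η.hom.toNatTrans.app w
    have h2 : 𝒴.p.IsHomLift (𝟙 (𝒴.p.obj w)) ηw := BasedNatTrans.isHomLift η.hom (G.w_obj w |>.symm ▸ rfl)
    have h3 : 𝒴.p.IsHomLift f (L.map a ≫ ηw) := inferInstance
    exact ⟨xV, L.map a ≫ ηw, h3⟩
  · intro x x' b hb
    refine ⟨⊤, J.top_mem _, ?_⟩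
    intro V f _
    obtain ⟨xV, a, ha⟩ := FibCat.IsFibGrpd.exists_lift (p := 𝒳.p) (x := x) f
    let β : x ⟶ x' := L.toFunctor.preimage b
    have hβ : L.map β = b := L.toFunctor.map_preimage b
    have hb' : 𝒴.p.IsHomLift (𝟙 (𝒳.p.obj x)) (L.map β) := by rw [hβ]; exact hb
    have hβ' : 𝒳.p.IsHomLift (𝟙 (𝒳.p.obj x)) β := (BasedFunctor.isHomLift_iff L _ β).1 hb'
    have h1 : 𝒳.p.IsHomLift f (a ≫ β) := inferInstance
    refine ⟨xV, a, a ≫ β, ha, h1, ?_⟩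
    rw [L.map_comp, hβ]

variable {𝒵 : BasedCategory.{v₄, u₄} C}

/-- precomposing a gerbe with an equivalence over `C` (no fibredness needed) -/
theorem isGerbeOver_equiv_comp (L : 𝒳 ⥤ᵇ 𝒴) (hL : FibCat.IsEquivOver L) (H : 𝒴 ⥤ᵇ 𝒵)
    (hH : Gerb.IsGerbeOver J H) : Gerb.IsGerbeOver J (BasedFunctor.comp L H) := by
  haveI := isEquivalence_of_isEquivOver L hL
  obtain ⟨G, ⟨ε⟩, ⟨η⟩⟩ := hL
  let ηa : ∀ w : 𝒴.obj, L.obj (G.obj w) ⟶ w := fun w => η.hom.toNatTrans.app w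
  have hη : ∀ w : 𝒴.obj, 𝒴.p.IsHomLift (𝟙 (𝒴.p.obj w)) (ηa w) := fun w =>
    BasedNatTrans.isHomLift η.hom (G.w_obj w |>.symm ▸ rfl)
  constructor
  · intro z
    obtain ⟨R, hR, HR⟩ := hH.1 z
    refine ⟨R, hR, ?_⟩
    intro V f hf
    obtain ⟨w, m, hm⟩ := HR f hf
    let ηw : L.obj (G.obj w) ⟶ w := ηa w
    have eV : 𝒴.p.obj w = V := (H.w_obj w).symm.trans (IsHomLift.domain_eq 𝒵.p f m)
    have h2 : 𝒴.p.IsHomLift (𝟙 V) ηw := by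
      haveI := hη w
      exact isHomLift_id_of_eq 𝒴.p eV ηw
    have h3 : 𝒵.p.IsHomLift (𝟙 V) (H.map ηw) := inferInstance
    have h4 : 𝒵.p.IsHomLift f (H.map ηw ≫ m) := inferInstance
    exact ⟨G.obj w, H.map ηw ≫ m, h4⟩
  · intro x x' (b : H.obj (L.obj x) ⟶ H.obj (L.obj x')) hb
    have eU : 𝒴.p.obj (L.obj x) = 𝒳.p.obj x := L.w_obj x
    have hb0 : 𝒵.p.IsHomLift (𝟙 (𝒳.p.obj x)) b := hb
    have hb' : 𝒵.p.IsHomLift (𝟙 (𝒴.p.obj (L.obj x))) b := isHomLift_id_of_eq 𝒵.p eU.symm b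
    obtain ⟨R, hR, HR⟩ := hH.2 (L.obj x) (L.obj x') b hb'
    refine ⟨R.pullback (eqToHom eU.symm), J.pullback_stable _ hR, ?_⟩
    intro V f hf
    obtain ⟨w₀, φ, ψ, hφ, hψ, hc⟩ := HR _ hf
    have hφ' : 𝒴.p.IsHomLift f φ := (IsHomLift.lift_comp_eqToHom_iff 𝒴.p f φ _).1 hφ
    have hψ' : 𝒴.p.IsHomLift f ψ := (IsHomLift.lift_comp_eqToHom_iff 𝒴.p f ψ _).1 hψ
    let ηw : L.obj (G.obj w₀) ⟶ w₀ := ηa w₀
    have eV : 𝒴.p.obj w₀ = V := IsHomLift.domain_eq 𝒴.p f φ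
    have h2 : 𝒴.p.IsHomLift (𝟙 V) ηw := by
      haveI := hη w₀
      exact isHomLift_id_of_eq 𝒴.p eV ηw
    have h3 : 𝒴.p.IsHomLift f (ηw ≫ φ) := inferInstance
    have h4 : 𝒴.p.IsHomLift f (ηw ≫ ψ) := inferInstance
    let φ' : G.obj w₀ ⟶ x := L.toFunctor.preimage (ηw ≫ φ)
    let ψ' : G.obj w₀ ⟶ x' := L.toFunctor.preimage (ηw ≫ ψ)
    have e1 : L.map φ' = ηw ≫ φ := L.toFunctor.map_preimage _
    have e2 : L.map ψ' = ηw ≫ ψ := L.toFunctor.map_preimage _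
    have h5 : 𝒳.p.IsHomLift f φ' := (BasedFunctor.isHomLift_iff L f φ').1 (by rw [e1]; exact h3)
    have h6 : 𝒳.p.IsHomLift f ψ' := (BasedFunctor.isHomLift_iff L f ψ').1 (by rw [e2]; exact h4)
    refine ⟨G.obj w₀, φ', ψ', h5, h6, ?_⟩
    change H.map (L.map φ') ≫ b = H.map (L.map ψ')
    rw [e1, e2, H.map_comp, H.map_comp, Category.assoc, hc]

end Groth.Agent.Lib.Helper10.GerbeEquiv
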