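import Groth.Agent.S16864

/-!
# General lemmas on `Gerb.IsGerbeOver` (composition, equivalences)
-/

open CategoryTheory

namespace Groth.Agent.Lib.Helper10.GerbeGen

open Groth.Agent.S16864

universe v₃ u₃ v₂ u₂ v₄ u₄ v₁ u₁

variable {C : Type u₁} [Category.{v₁} C] (J : GrothendieckTopology C)

variable {𝒳 : BasedCategory.{v₂, u₂} C} {𝒴 : BasedCategory.{v₃, u₃} C}
  {𝒵 : BasedCategory.{v₄, u₄} C}

theorem locSurjObj_comp (F : 𝒳 ⥤ᵇ 𝒴) (G : 𝒴 ⥤ᵇ 𝒵) (hF : Gerb.LocSurjObj J F)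
    (hG : Gerb.LocSurjObj J G) : Gerb.LocSurjObj J (BasedFunctor.comp F G) := by
  intro z
  obtain ⟨R, hR, H⟩ := hG z
  choose y gm hgm using H
  have ey : ∀ ⦃V : C⦄ (f : V ⟶ 𝒵.p.obj z) (hf : R f), V = 𝒴.p.obj (y f hf) := fun V f hf =>
    (IsHomLift.domain_eq 𝒵.p f (gm f hf)).symm.trans (G.w_obj _)
  choose RF hRF HF using fun ⦃V : C⦄ (f : V ⟶ 𝒵.p.obj z) (hf : R f) => hF (y f hf)
  refine ⟨Sieve.bind R (fun V f hf => (RF f hf).pullback (eqToHom (ey f hf))),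
    J.bind_covering hR (fun V f hf => J.pullback_stable _ (hRF f hf)), ?_⟩
  intro W h hh
  obtain ⟨V, g, f, hf, hg, rfl⟩ := hh
  obtain ⟨x, k, hk⟩ := HF f hf (g ≫ eqToHom (ey f hf)) hg
  have hk' : 𝒴.p.IsHomLift g k := (IsHomLift.lift_comp_eqToHom_iff 𝒴.p g k _).1 hk
  have h1 : 𝒵.p.IsHomLift g (G.map k) := inferInstance
  have h2 : 𝒵.p.IsHomLift f (gm f hf) := hgm f hf
  have h3 : 𝒵.p.IsHomLift (g ≫ f) (G.map k ≫ gm f hf) := inferInstance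
  exact ⟨x, G.map k ≫ gm f hf, h3⟩

theorem locSurjHom_comp [FibCat.IsFibGrpd 𝒳.p] [FibCat.IsFibGrpd 𝒴.p] (F : 𝒳 ⥤ᵇ 𝒴) (G : 𝒴 ⥤ᵇ 𝒵)
    (hF : Gerb.LocSurjHom J F) (hG : Gerb.LocSurjHom J G) :
    Gerb.LocSurjHom J (BasedFunctor.comp F G) := by
  intro x x' (b : G.obj (F.obj x) ⟶ G.obj (F.obj x')) hb
  have eU : 𝒴.p.obj (F.obj x) = 𝒳.p.obj x := F.w_obj x
  have hb0 : 𝒵.p.IsHomLift (𝟙 (𝒳.p.obj x)) b := hb
  have hb' : 𝒵.p.IsHomLift (𝟙 (𝒴.p.obj (F.obj x))) b := isHomLift_id_of_eq 𝒵.p eU.symm b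
  obtain ⟨R, hR, H⟩ := hG (F.obj x) (F.obj x') b hb'
  -- for each member of R, the data
  have key : ∀ ⦃V : C⦄ (f : V ⟶ 𝒳.p.obj x), R (f ≫ eqToHom eU.symm) →
      ∃ S ∈ J V, ∀ ⦃W : C⦄ (g : W ⟶ V), S g → ∃ (x₀ : 𝒳.obj) (φ : x₀ ⟶ x) (ψ : x₀ ⟶ x'),
        𝒳.p.IsHomLift (g ≫ f) φ ∧ 𝒳.p.IsHomLift (g ≫ f) ψ ∧
          G.map (F.map φ) ≫ b = G.map (F.map ψ) := by
    intro V f hf
    obtain ⟨y₀, φ, ψ, hφ, hψ, hc⟩ := H _ hf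
    have hφ' : 𝒴.p.IsHomLift f φ := (IsHomLift.lift_comp_eqToHom_iff 𝒴.p f φ _).1 hφ
    have hψ' : 𝒴.p.IsHomLift f ψ := (IsHomLift.lift_comp_eqToHom_iff 𝒴.p f ψ _).1 hψ
    -- lifts of f to x and x'
    obtain ⟨xV, a, ha⟩ := FibCat.IsFibGrpd.exists_lift (p := 𝒳.p) (x := x) f
    have ex' : 𝒳.p.obj x' = 𝒳.p.obj x :=
      (F.w_obj x').symm.trans (IsHomLift.codomain_eq 𝒴.p f ψ)
    obtain ⟨xV', a', ha'⟩ := FibCat.IsFibGrpd.exists_lift (p := 𝒳.p) (x := x') (f ≫ eqToHom ex'.symm)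
    have ha'' : 𝒳.p.IsHomLift f a' := (IsHomLift.lift_comp_eqToHom_iff 𝒳.p f a' _).1 ha'
    have hFa : 𝒴.p.IsHomLift f (F.map a) := inferInstance
    have hFa' : 𝒴.p.IsHomLift f (F.map a') := inferInstance
    -- θ : y₀ ≅ F xV with θ ≫ F a = φ
    obtain ⟨θ, hθ, hθa⟩ := exists_factor 𝒴.p f (F.map a) φ
    -- c : F xV ≅ F xV' with c ≫ F a' = θ⁻¹ ≫ ψ
    have hθi : 𝒴.p.IsHomLift (𝟙 V) θ.inv := inferInstance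
    have hψ2 : 𝒴.p.IsHomLift f (θ.inv ≫ ψ) := inferInstance
    obtain ⟨c, hc1, hc2⟩ := exists_factor 𝒴.p f (F.map a') (θ.inv ≫ ψ)
    have eV : 𝒳.p.obj xV = V := IsHomLift.domain_eq 𝒳.p f a
    have hc1' : 𝒴.p.IsHomLift (𝟙 (𝒳.p.obj xV)) c.hom := isHomLift_id_of_eq 𝒴.p eV.symm _
    obtain ⟨S, hS, HS⟩ := hF xV xV' c.hom hc1'
    refine ⟨S.pullback (eqToHom eV.symm), J.pullback_stable _ hS, ?_⟩
    intro W g hg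
    obtain ⟨x₀, φ₀, ψ₀, hφ₀, hψ₀, hc₀⟩ := HS _ hg
    have hφ₀' : 𝒳.p.IsHomLift g φ₀ := (IsHomLift.lift_comp_eqToHom_iff 𝒳.p g φ₀ _).1 hφ₀
    have hψ₀' : 𝒳.p.IsHomLift g ψ₀ := (IsHomLift.lift_comp_eqToHom_iff 𝒳.p g ψ₀ _).1 hψ₀
    refine ⟨x₀, φ₀ ≫ a, ψ₀ ≫ a', inferInstance, inferInstance, ?_⟩
    have e1 : F.map a = θ.inv ≫ φ := by rw [← hθa, Iso.inv_hom_id_assoc]
    have e2 : G.map (F.map a) ≫ b = G.map (c.hom ≫ F.map a') := by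
      rw [e1, hc2, G.map_comp, G.map_comp, Category.assoc, hc]
    rw [F.map_comp, G.map_comp, Category.assoc, e2, ← G.map_comp, ← Category.assoc, hc₀,
      ← F.map_comp]
  choose S hS HS using key
  refine ⟨Sieve.bind (R.pullback (eqToHom eU.symm)) (fun V f hf => S f hf),
    J.bind_covering (J.pullback_stable _ hR) (fun V f hf => hS f hf), ?_⟩
  intro W h hh
  obtain ⟨V, g, f, hf, hg, rfl⟩ := hh
  exact HS f hf g hg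

theorem isGerbeOver_comp [FibCat.IsFibGrpd 𝒳.p] [FibCat.IsFibGrpd 𝒴.p] (F : 𝒳 ⥤ᵇ 𝒴) (G : 𝒴 ⥤ᵇ 𝒵)
    (hF : Gerb.IsGerbeOver J F) (hG : Gerb.IsGerbeOver J G) :
    Gerb.IsGerbeOver J (BasedFunctor.comp F G) :=
  ⟨locSurjObj_comp J F G hF.1 hG.1, locSurjHom_comp J F G hF.2 hG.2⟩

end Groth.Agent.Lib.Helper10.GerbeGen
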