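import Groth.Agent.Lib.Helper10.GerbePts
import Groth.Agent.Lib.Helper10.GerbeGen
import Groth.Agent.Lib.Helper17.SelfStack
import Groth.Agent.Lib.Helper17.PointsQc2
import Groth.Agent.Lib.Helper17.AlgStQc

/-!
# The square `f × f` of a gerbe is a gerbe; gerbes are quasi-compact morphisms (helper10)
-/

set_option autoImplicit false
set_option backward.isDefEq.respectTransparency false
set_option backward.isDefEq.respectTransparency.types false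
universe u

namespace Groth.Agent.Lib.Helper10.GPR

open CategoryTheory CategoryTheory.Limits AlgebraicGeometry Opposite AlgSp FibCat Stk AlgSt
open Groth.Agent.Lib.Helper17 Groth.Agent.Lib.Helper17.FP Groth.Agent.Lib.Helper17.EO
  Groth.Agent.Lib.Helper17.PTS
open Groth.Agent.Lib.Helper10.GerbeGen Groth.Agent.S16864

section General

universe v₃ u₃ v₂ u₂ v₁ u₁

variable {C : Type u₁} [Category.{v₁} C] (J : GrothendieckTopology C)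

variable {𝒳 : BasedCategory.{v₂, u₂} C} {𝒴 : BasedCategory.{v₃, u₃} C}

theorem selfOver_eqToHom_lift {A B : C} (E : A = B) :
    (FibCat.selfOver C).p.IsHomLift (𝟙 A) (eqToHom E : (A : (FibCat.selfOver C).obj) ⟶ B) := by
  subst E
  exact IsHomLift.id rfl

/-- the square `f × f : 𝒳 ×_C 𝒳 ⟶ 𝒴 ×_C 𝒴` -/
def sq (f : 𝒳 ⥤ᵇ 𝒴) : FibCat.fp (FibCat.toSelf 𝒳) (FibCat.toSelf 𝒳) ⥤ᵇ
    FibCat.fp (FibCat.toSelf 𝒴) (FibCat.toSelf 𝒴) :=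
  FibCat.fpLift (BasedFunctor.comp (FibCat.fpFst (FibCat.toSelf 𝒳) (FibCat.toSelf 𝒳)) f)
    (BasedFunctor.comp (FibCat.fpSnd (FibCat.toSelf 𝒳) (FibCat.toSelf 𝒳)) f)
    (eqToIso (SST.toSelfOver_eq _ _))

theorem locSurjObj_sq (f : 𝒳 ⥤ᵇ 𝒴) (hf : Gerb.LocSurjObj J f) : Gerb.LocSurjObj J (sq f) := by
  intro w
  have e2 : 𝒴.p.obj w.obj.snd = 𝒴.p.obj w.obj.fst := FP.snd_obj w
  obtain ⟨R₁, hR₁, H₁⟩ := hf w.obj.fst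
  obtain ⟨R₂, hR₂, H₂⟩ := hf w.obj.snd
  refine ⟨R₁ ⊓ R₂.pullback (eqToHom e2.symm),
    J.intersection_covering hR₁ (J.pullback_stable _ hR₂), ?_⟩
  intro V k hk
  obtain ⟨x₁, m₁, hm₁⟩ := H₁ k hk.1
  obtain ⟨x₂, m₂, hm₂⟩ := H₂ _ hk.2
  have hm₂' : 𝒴.p.IsHomLift k m₂ := (IsHomLift.lift_comp_eqToHom_iff 𝒴.p k m₂ _).1 hm₂
  have E : 𝒳.p.obj x₁ = 𝒳.p.obj x₂ :=
    ((f.w_obj x₁).symm.trans (hl_dom hm₁)).trans ((f.w_obj x₂).symm.trans (hl_dom hm₂')).symm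
  let z : (FibCat.fp (FibCat.toSelf 𝒳) (FibCat.toSelf 𝒳)).obj :=
    FP.mkObj x₁ x₂ (eqToIso E) (selfOver_eqToHom_lift E)
  have h12 : 𝒴.p.IsHomLift (𝒴.p.map m₁) m₂ := SP.lift_map_of_lift hm₁ hm₂'
  refine ⟨z, SP.mkHomSq (z := (sq f).obj z) (z' := w) m₁ m₂ h12, ?_⟩
  exact (FP.isHomLift_iff_fst _ k).2 hm₁

theorem hl_id_of_eq' {a b : 𝒴.obj} (m : a ⟶ b) {T T' : C} (e : T = T')
    (h : 𝒴.p.IsHomLift (𝟙 T) m) : 𝒴.p.IsHomLift (𝟙 T') m := by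
  subst e
  exact h

theorem locSurjHom_sq (f : 𝒳 ⥤ᵇ 𝒴) (hf : Gerb.LocSurjHom J f) : Gerb.LocSurjHom J (sq f) := by
  intro z z' b hb
  have hb1 : 𝒴.p.IsHomLift (𝟙 (𝒳.p.obj z.obj.fst)) b.hom.fst := (FP.isHomLift_iff_fst b _).1 hb
  have hb2 : 𝒴.p.IsHomLift (𝟙 (𝒳.p.obj z.obj.fst)) b.hom.snd := FP.isHomLift_snd b _ hb
  have e2 : 𝒳.p.obj z.obj.snd = 𝒳.p.obj z.obj.fst := FP.snd_obj z
  have hb2' : 𝒴.p.IsHomLift (𝟙 (𝒳.p.obj z.obj.snd)) b.hom.snd := hl_id_of_eq' _ e2.symm hb2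
  obtain ⟨R₁, hR₁, H₁⟩ := hf z.obj.fst z'.obj.fst b.hom.fst hb1
  obtain ⟨R₂, hR₂, H₂⟩ := hf z.obj.snd z'.obj.snd b.hom.snd hb2'
  refine ⟨R₁ ⊓ R₂.pullback (eqToHom e2.symm),
    J.intersection_covering hR₁ (J.pullback_stable _ hR₂), ?_⟩
  intro V k hk
  obtain ⟨x₁, φ₁, ψ₁, hφ₁, hψ₁, c₁⟩ := H₁ k hk.1
  obtain ⟨x₂, φ₂, ψ₂, hφ₂, hψ₂, c₂⟩ := H₂ _ hk.2
  have hφ₂' : 𝒳.p.IsHomLift k φ₂ := (IsHomLift.lift_comp_eqToHom_iff 𝒳.p k φ₂ _).1 hφ₂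
  have hψ₂' : 𝒳.p.IsHomLift k ψ₂ := (IsHomLift.lift_comp_eqToHom_iff 𝒳.p k ψ₂ _).1 hψ₂
  have E : 𝒳.p.obj x₁ = 𝒳.p.obj x₂ := (hl_dom hφ₁).trans (hl_dom hφ₂').symm
  let z₀ : (FibCat.fp (FibCat.toSelf 𝒳) (FibCat.toSelf 𝒳)).obj :=
    FP.mkObj x₁ x₂ (eqToIso E) (selfOver_eqToHom_lift E)
  let Φ : z₀ ⟶ z := SP.mkHomSq φ₁ φ₂ (SP.lift_map_of_lift hφ₁ hφ₂')
  let Ψ : z₀ ⟶ z' := SP.mkHomSq ψ₁ ψ₂ (SP.lift_map_of_lift hψ₁ hψ₂')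
  refine ⟨z₀, Φ, Ψ, (FP.isHomLift_iff_fst Φ k).2 hφ₁, (FP.isHomLift_iff_fst Ψ k).2 hψ₁, ?_⟩
  apply FP.hom_ext
  · exact c₁
  · exact c₂

theorem isGerbeOver_sq (f : 𝒳 ⥤ᵇ 𝒴) (hf : Gerb.IsGerbeOver J f) : Gerb.IsGerbeOver J (sq f) :=
  ⟨locSurjObj_sq J f hf.1, locSurjHom_sq J f hf.2⟩

/-- `(f × f) ∘ Δ_𝒳 ≅ Δ_𝒴 ∘ f` -/
def sqDiagIso (f : 𝒳 ⥤ᵇ 𝒴) :
    BasedFunctor.comp (FibCat.diag (FibCat.toSelf 𝒳)) (sq f) ≅
      BasedFunctor.comp f (FibCat.diag (FibCat.toSelf 𝒴)) :=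
  BasedNatIso.mkNatIso
    (NatIso.ofComponents
      (fun x => SP.mkIsoSq (z := (sq f).obj ((FibCat.diag (FibCat.toSelf 𝒳)).obj x))
        (z' := (FibCat.diag (FibCat.toSelf 𝒴)).obj (f.obj x)) (Iso.refl _) (Iso.refl _)
        (by
          change 𝒴.p.IsHomLift (𝒴.p.map (𝟙 (f.obj x))) (𝟙 (f.obj x))
          infer_instance))
      (fun {x x'} φ => by
        apply FP.hom_ext
        · change f.map φ ≫ 𝟙 _ = 𝟙 _ ≫ f.map φ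
          rw [Category.comp_id, Category.id_comp]
        · change f.map φ ≫ 𝟙 _ = 𝟙 _ ≫ f.map φ
          rw [Category.comp_id, Category.id_comp]))
    (fun x => by
      refine (FP.isHomLift_iff_fst _ _).2 ?_
      change 𝒴.p.IsHomLift (𝟙 (𝒳.p.obj x)) (𝟙 (f.obj x))
      exact IsHomLift.id (f.w_obj x))

end General

variable {S : Scheme.{u}} {𝒳 𝒴 : AlgSt.Cat S}

/-- a gerbe between algebraic stacks is a quasi-compact morphism -/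
theorem isQuasiCompactMor_of_isGerbeOver (h𝒳 : AlgSt.IsAlgStack Scheme.fppfPrecoverage 𝒳)
    (h𝒴 : AlgSt.IsAlgStack Scheme.fppfPrecoverage 𝒴) (f : 𝒳 ⥤ᵇ 𝒴)
    (hf : Gerb.IsGerbeOver (AlgSp.J S) f) :
    AlgSt.IsQuasiCompactMor Scheme.fppfPrecoverage f := by
  intro 𝒲 h𝒲 hq h
  have hA : AlgSt.IsAlgStack Scheme.fppfPrecoverage (FibCat.fp h f) :=
    AFP.isAlgStack_fp h𝒴.isStack h𝒴.diag h𝒲 h𝒳 h f
  have hg : Gerb.IsGerbeOver (AlgSp.J S) (FibCat.fpFst h f) :=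
    Groth.Agent.S16864.result S 𝒳 𝒴 𝒲 h𝒳 h𝒴 h𝒲 f h hf
  have hh := GP.isHomeomorph_of_isGerbeOver hA h𝒲 (FibCat.fpFst h f) hg
  rw [isQuasiCompact_iff_compactSpace hA]
  have : CompactSpace (AlgSt.Points 𝒲) := (isQuasiCompact_iff_compactSpace h𝒲).1 hq
  exact (hh.homeomorph _).symm.compactSpace

/-- **a gerbe with quasi-compact diagonal of the source has quasi-compact diagonal of the target** -/
theorem isQuasiCompactMor_diag_of_isGerbeOver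
    (h𝒳 : AlgSt.IsAlgStack Scheme.fppfPrecoverage 𝒳)
    (h𝒴 : AlgSt.IsAlgStack Scheme.fppfPrecoverage 𝒴) (f : 𝒳 ⥤ᵇ 𝒴)
    (hf : Gerb.IsGerbeOver (AlgSp.J S) f)
    (hΔ : AlgSt.IsQuasiCompactMor Scheme.fppfPrecoverage (FibCat.diag (FibCat.toSelf 𝒳))) :
    AlgSt.IsQuasiCompactMor Scheme.fppfPrecoverage (FibCat.diag (FibCat.toSelf 𝒴)) := by
  have hXX := SST.isAlgStack_prod h𝒳 h𝒳
  have hYY := SST.isAlgStack_prod h𝒴 h𝒴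
  have hF : AlgSt.IsQuasiCompactMor Scheme.fppfPrecoverage (sq f) :=
    isQuasiCompactMor_of_isGerbeOver hXX hYY (sq f) (isGerbeOver_sq _ f hf)
  have hc : AlgSt.IsQuasiCompactMor Scheme.fppfPrecoverage
      (BasedFunctor.comp (FibCat.diag (FibCat.toSelf 𝒳)) (sq f)) :=
    QCM.isQuasiCompactMor_comp hXX hYY _ _ hΔ hF
  exact isQuasiCompactMor_of_triangle h𝒳.isStack.1 h𝒴 hYY f
    (BasedFunctor.comp (FibCat.diag (FibCat.toSelf 𝒳)) (sq f)) (FibCat.diag (FibCat.toSelf 𝒴))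
    (sqDiagIso f).symm (GP.isSurjective_of_locSurjObj f hf.1) hc

end Groth.Agent.Lib.Helper10.GPR
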