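import Groth.Agent.Lib.Helper10.QcOpen2
import Groth.Agent.Lib.Helper36.OpenSubspace
import Groth.Prelude.Def_StGerb

/-!
# Gerbes are homeomorphisms on points (helper10)
-/

set_option autoImplicit false
set_option backward.isDefEq.respectTransparency false
set_option backward.isDefEq.respectTransparency.types false
universe u

namespace Groth.Agent.Lib.Helper10.GP

open CategoryTheory CategoryTheory.Limits AlgebraicGeometry Opposite AlgSp FibCat Stk AlgSt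
open Groth.Agent.Lib.Helper17 Groth.Agent.Lib.Helper17.FP Groth.Agent.Lib.Helper17.EO
  Groth.Agent.Lib.Helper17.PD Groth.Agent.Lib.Helper17.AT Groth.Agent.Lib.Helper17.AB
  Groth.Agent.Lib.Helper17.AOS Groth.Agent.Lib.Helper17.ACP Groth.Agent.Lib.Helper17.PTS
open Groth.Agent.Lib.Helper10.OST Groth.Agent.Lib.Helper10.INP

variable {S : Scheme.{u}}

/-- covering sieves of the fppf topology over `S` contain, through every point, a member which is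
an open map -/
theorem exists_open_member {T : Over S} (R : Sieve T) (hR : R ∈ AlgSp.J S T) (t : ↥T.left) :
    ∃ (T' : Over S) (φ : T' ⟶ T), R φ ∧ t ∈ Set.range φ.left ∧ IsOpenMap φ.left := by
  rw [AlgSp.J_eq, GrothendieckTopology.mem_over_iff] at hR
  have : MorphismProperty.IsMultiplicative
      (@LocallyOfFinitePresentation : MorphismProperty Scheme.{u}) :=
    { id_mem := fun _ => inferInstance
      comp_mem := fun f g hf hg => by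
        have : LocallyOfFinitePresentation f := hf
        have : LocallyOfFinitePresentation g := hg
        exact (inferInstance : LocallyOfFinitePresentation (f ≫ g)) }
  obtain ⟨𝒰, h𝒰⟩ := (Scheme.mem_grothendieckTopology_iff
    (P := @Flat ⊓ @LocallyOfFinitePresentation)).1 hR
  obtain ⟨i, y, hy⟩ := 𝒰.exists_eq t
  have h1 : Sieve.overEquiv T R (𝒰.f i) := h𝒰 _ _ (Presieve.ofArrows.mk i)
  rw [Sieve.overEquiv_iff] at h1
  have hP := 𝒰.map_prop i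
  have : Flat (𝒰.f i) := hP.1
  have : LocallyOfFinitePresentation (𝒰.f i) := hP.2
  exact ⟨_, _, h1, ⟨y, hy⟩, (𝒰.f i).isOpenMap⟩

/-- the residue field point of a scheme over `S`, as a morphism over `S` -/
noncomputable def resPt (T : Over S) (t : ↥T.left) : Over.mk (T.left.fromSpecResidueField t ≫ T.hom) ⟶ T :=
  Over.homMk (T.left.fromSpecResidueField t) rfl

variable {𝒳 𝒴 : AlgSt.Cat S}

/-- **a morphism along which objects lift locally is surjective on points** -/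
theorem isSurjective_of_locSurjObj (f : 𝒳 ⥤ᵇ 𝒴) (h : Gerb.LocSurjObj (AlgSp.J S) f) :
    AlgSt.IsSurjective f := by
  intro η
  obtain ⟨q, rfl⟩ := AlgSt.Points.mk_surjective η
  obtain ⟨R, hR, hmem⟩ := h q.obj
  have hne : Nonempty ↥(𝒴.p.obj q.obj).left := by
    rw [q.lies]
    exact inferInstanceAs (Nonempty (PrimeSpectrum q.K))
  obtain ⟨t⟩ := hne
  obtain ⟨T', φ, hφ, ⟨t', -⟩, -⟩ := exists_open_member R hR t
  have hφ' : R (resPt T' t' ≫ φ) := R.downward_closed hφ _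
  obtain ⟨x, g, hg⟩ := hmem _ hφ'
  let p : AlgSt.FPt 𝒳 :=
    { K := ↥(T'.left.residueField t')
      str := T'.left.fromSpecResidueField t' ≫ T'.hom
      obj := x
      lies := (f.w_obj x).symm.trans (hl_dom hg) }
  exact ⟨AlgSt.Points.mk p, mk_eq_of_hom (p.map f) q g⟩

theorem hl_id_of_eq {a b : 𝒴.obj} (m : a ⟶ b) {T T' : Over S} (e : T = T')
    (h : 𝒴.p.IsHomLift (𝟙 T) m) : 𝒴.p.IsHomLift (𝟙 T') m := by
  subst e
  exact h

/-- **a morphism along which morphisms between images lift locally is injective on points** -/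
theorem injective_of_locSurjHom (hX : FibCat.IsFibGrpd 𝒳.p) (hY : FibCat.IsFibGrpd 𝒴.p)
    (f : 𝒳 ⥤ᵇ 𝒴) (h : Gerb.LocSurjHom (AlgSp.J S) f) :
    Function.Injective (AlgSt.Points.map f) := by
  intro ξ₁ ξ₂ he
  obtain ⟨p₁, rfl⟩ := AlgSt.Points.mk_surjective ξ₁
  obtain ⟨p₂, rfl⟩ := AlgSt.Points.mk_surjective ξ₂
  obtain ⟨r, a, b, -⟩ := (mk_eq_mk_iff hY _ _).mp he
  obtain ⟨g₁, hg₁⟩ := exists_base_hom r (p₁.map f) a
  obtain ⟨g₂, hg₂⟩ := exists_base_hom r (p₂.map f) b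
  obtain ⟨x₁, φ₁, hφ₁⟩ := FG.exists_lift_of_eq hX p₁.lies g₁
  obtain ⟨x₂, φ₂, hφ₂⟩ := FG.exists_lift_of_eq hX p₂.lies g₂
  have hφ₁' : 𝒳.p.IsHomLift g₁ φ₁ := hφ₁.toIsHomLift
  have hφ₂' : 𝒳.p.IsHomLift g₂ φ₂ := hφ₂.toIsHomLift
  have hfφ₁ : 𝒴.p.IsHomLift g₁ (f.map φ₁) := EO.map_lift'' f hφ₁'
  have hfφ₂ : 𝒴.p.IsHomLift g₂ (f.map φ₂) := EO.map_lift'' f hφ₂'
  obtain ⟨θ₁, hθ₁, -, hθ₁iso⟩ := FG.exists_factor hY g₁ (f.map φ₁) hfφ₁ a hg₁
  obtain ⟨θ₂, hθ₂, -, -⟩ := FG.exists_factor hY g₂ (f.map φ₂) hfφ₂ b hg₂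
  have hinv : 𝒴.p.IsHomLift (𝟙 (Over.mk r.str)) (inv θ₁) :=
    IsHomLift.lift_id_inv_isIso (p := 𝒴.p) (Over.mk r.str) θ₁
  have hb0 : 𝒴.p.IsHomLift (𝟙 (Over.mk r.str)) (inv θ₁ ≫ θ₂) := by
    have : 𝒴.p.IsHomLift (𝟙 (Over.mk r.str) ≫ 𝟙 (Over.mk r.str)) (inv θ₁ ≫ θ₂) := inferInstance
    rwa [Category.comp_id] at this
  have e₁ : 𝒳.p.obj x₁ = Over.mk r.str := hl_dom hφ₁'
  have hb : 𝒴.p.IsHomLift (𝟙 (𝒳.p.obj x₁)) (inv θ₁ ≫ θ₂) := hl_id_of_eq _ e₁.symm hb0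
  obtain ⟨R, hR, hmem⟩ := h x₁ x₂ (inv θ₁ ≫ θ₂) hb
  have hne : Nonempty ↥(𝒳.p.obj x₁).left := by
    rw [e₁]
    exact inferInstanceAs (Nonempty (PrimeSpectrum r.K))
  obtain ⟨t⟩ := hne
  obtain ⟨T', φ, hφ, ⟨t', -⟩, -⟩ := exists_open_member R hR t
  have hφ' : R (resPt T' t' ≫ φ) := R.downward_closed hφ _
  obtain ⟨x₀, φ', ψ', hl1, -, -⟩ := hmem _ hφ'
  let p₀ : AlgSt.FPt 𝒳 :=
    { K := ↥(T'.left.residueField t')
      str := T'.left.fromSpecResidueField t' ≫ T'.hom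
      obj := x₀
      lies := hl_dom hl1 }
  exact AlgSt.Points.sound ⟨p₀, φ' ≫ φ₁, ψ' ≫ φ₂, trivial⟩

/-- **compatibility of charts**: a chart `x̃` of `𝒳` over `W`, a chart `y` of `𝒴` over `V`, and a
morphism `f (x̃ (id)) ⟶ y (id)` over `c : W ⟶ V` -/
theorem ofChart_eq_map_ofChart (hY : FibCat.IsFibGrpd 𝒴.p) (f : 𝒳 ⥤ᵇ 𝒴) {V W : Over S}
    (y : FibCat.overCat V ⥤ᵇ 𝒴) (c : W ⟶ V) (x' : FibCat.overCat W ⥤ᵇ 𝒳)
    (m : f.obj (x'.obj (Over.mk (𝟙 W))) ⟶ y.obj (Over.mk (𝟙 V))) (hm : 𝒴.p.IsHomLift c m)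
    (w : ↥W.left) :
    AlgSt.Points.ofChart y (c.left w) = AlgSt.Points.map f (AlgSt.Points.ofChart x' w) := by
  rw [← ofChart_overMap c y w]
  let ι : Over.mk (W.left.fromSpecResidueField w ≫ W.hom) ⟶ W := resPt W w
  let k₁ : (Over.mk ι : Over W) ⟶ Over.mk (𝟙 W) := Over.homMk ι (by simp)
  let k₂ : (AlgSt.overMap c).obj (Over.mk ι) ⟶ Over.mk (𝟙 V) := Over.homMk (ι ≫ c) (by
    exact Category.comp_id _)
  have h1 : 𝒳.p.IsHomLift ι (x'.map k₁) := by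
    have h0 : (FibCat.overCat W).p.IsHomLift ι k₁ := hl_of_eq rfl
    exact EO.map_lift'' x' h0
  have h1' : 𝒴.p.IsHomLift ι (f.map (x'.map k₁)) := EO.map_lift'' f h1
  have h2 : 𝒴.p.IsHomLift (ι ≫ c) (y.map k₂) := by
    have h0 : (FibCat.overCat V).p.IsHomLift (ι ≫ c) k₂ := hl_of_eq rfl
    exact EO.map_lift'' y h0
  have h3 : 𝒴.p.IsHomLift (ι ≫ c) (f.map (x'.map k₁) ≫ m) := inferInstance
  obtain ⟨θ, -, -, -⟩ := FG.exists_factor hY (ι ≫ c) (y.map k₂) h2 (f.map (x'.map k₁) ≫ m) h3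
  exact (mk_eq_of_hom _ _ θ).symm

open Groth.Agent.Lib.Helper86 in
/-- **a gerbe between algebraic stacks is open on points** -/
theorem isOpenMap_of_isGerbeOver (h𝒳 : AlgSt.IsAlgStack Scheme.fppfPrecoverage 𝒳)
    (h𝒴 : AlgSt.IsAlgStack Scheme.fppfPrecoverage 𝒴) (f : 𝒳 ⥤ᵇ 𝒴)
    (hf : Gerb.IsGerbeOver (AlgSp.J S) f) : IsOpenMap (AlgSt.Points.map f) := by
  have hX := h𝒳.isStack.1
  have hY := h𝒴.isStack.1
  have hinj := injective_of_locSurjHom hX hY f hf.2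
  have : 𝒳.p.IsFibered := TwoYoneda.isFibered_of_isFibGrpd hX
  intro O hO V y _
  rw [isOpen_iff_forall_mem_open]
  intro v hv
  obtain ⟨ξ, hξ, hξv⟩ := hv
  have e : 𝒴.p.obj (y.obj (Over.mk (𝟙 V))) = V := y.w_obj (Over.mk (𝟙 V))
  obtain ⟨R, hR, hmem⟩ := hf.1 (y.obj (Over.mk (𝟙 V)))
  have hR' : R.pullback (eqToHom e.symm) ∈ AlgSp.J S V := (AlgSp.J S).pullback_stable _ hR
  obtain ⟨W, c, hc, ⟨w, hw⟩, hopen⟩ := exists_open_member _ hR' v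
  obtain ⟨x, g, hg⟩ := hmem _ hc
  have hg' : 𝒴.p.IsHomLift c g := (IsHomLift.lift_comp_eqToHom_iff 𝒴.p c g e.symm).mp hg
  have hx : 𝒳.p.obj x = W := (f.w_obj x).symm.trans (hl_dom hg')
  let x₀ : 𝒳.p.Fiber W := ⟨x, hx⟩
  have hpm : 𝒳.p.IsHomLift (𝟙 W) (TwoYoneda.pbMap x₀ (Over.mk (𝟙 W))) :=
    (TwoYoneda.pbMap_cart x₀ (Over.mk (𝟙 W))).toIsHomLift
  have hpm' : 𝒴.p.IsHomLift (𝟙 W) (f.map (TwoYoneda.pbMap x₀ (Over.mk (𝟙 W)))) :=
    EO.map_lift'' f hpm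
  have hm : 𝒴.p.IsHomLift c (f.map (TwoYoneda.pbMap x₀ (Over.mk (𝟙 W))) ≫ g) := by
    have : 𝒴.p.IsHomLift (𝟙 W ≫ c) (f.map (TwoYoneda.pbMap x₀ (Over.mk (𝟙 W))) ≫ g) :=
      inferInstance
    rwa [Category.id_comp] at this
  have key := ofChart_eq_map_ofChart hY f y c (TwoYoneda.pbB x₀) _ hm
  refine ⟨c.left '' (AlgSt.Points.ofChart (TwoYoneda.pbB x₀) ⁻¹' O), ?_, ?_, ?_⟩
  · rintro _ ⟨w', hw', rfl⟩
    exact ⟨_, hw', (key w').symm⟩
  · exact hopen _ ((continuous_ofChart h𝒳 (TwoYoneda.pbB x₀)).isOpen_preimage O hO)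
  · refine ⟨w, ?_, hw⟩
    have h1 : AlgSt.Points.map f (AlgSt.Points.ofChart (TwoYoneda.pbB x₀) w) =
        AlgSt.Points.map f ξ := by
      rw [← key w, hw, hξv]
    change AlgSt.Points.ofChart (TwoYoneda.pbB x₀) w ∈ O
    rw [hinj h1]
    exact hξ

/-- **a gerbe between algebraic stacks is a homeomorphism on points** -/
theorem isHomeomorph_of_isGerbeOver (h𝒳 : AlgSt.IsAlgStack Scheme.fppfPrecoverage 𝒳)
    (h𝒴 : AlgSt.IsAlgStack Scheme.fppfPrecoverage 𝒴) (f : 𝒳 ⥤ᵇ 𝒴)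
    (hf : Gerb.IsGerbeOver (AlgSp.J S) f) : IsHomeomorph (AlgSt.Points.map f) :=
  ⟨continuous_map h𝒴 f, isOpenMap_of_isGerbeOver h𝒳 h𝒴 f hf,
    ⟨injective_of_locSurjHom h𝒳.isStack.1 h𝒴.isStack.1 f hf.2,
      isSurjective_of_locSurjObj f hf.1⟩⟩

end Groth.Agent.Lib.Helper10.GP
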