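import Groth.Agent.Lib.Helper10.OpenSubT
import Groth.Agent.Lib.Helper62.StkLocEss

/-!
# An open substack is determined by its points (helper10)
-/

set_option autoImplicit false
set_option backward.isDefEq.respectTransparency false
set_option backward.isDefEq.respectTransparency.types false
universe u

namespace Groth.Agent.Lib.Helper10.OST

open CategoryTheory CategoryTheory.Limits AlgebraicGeometry Opposite AlgSp FibCat Stk AlgSt
open Groth.Agent.Lib.Helper17 Groth.Agent.Lib.Helper17.FP Groth.Agent.Lib.Helper17.EO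
  Groth.Agent.Lib.Helper17.PD Groth.Agent.Lib.Helper17.AT Groth.Agent.Lib.Helper17.AB
  Groth.Agent.Lib.Helper17.AOS Groth.Agent.Lib.Helper17.ACP Groth.Agent.Lib.Helper17.PTS
open Groth.Agent.Lib.Helper46 Groth.Agent.Lib.Helper46.LocPChart

variable {S : Scheme.{u}}

/-- A single fppf covering morphism generates a covering sieve. -/
theorem generate_singleton_mem_J {T' T : Over S} (c : T' ⟶ T) [Flat c.left]
    [LocallyOfFinitePresentation c.left] (hc : Function.Surjective c.left) :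
    Sieve.generate (Presieve.singleton c) ∈ QuotSh.J Scheme.fppfPrecoverage S T := by
  rw [GrothendieckTopology.mem_over_iff]
  have hmem : Presieve.singleton c.left ∈ Scheme.fppfPrecoverage T.left := by
    rw [Scheme.fppfPrecoverage, Scheme.singleton_mem_precoverage_iff]
    exact ⟨hc, inferInstance, inferInstance⟩
  refine (Scheme.fppfPrecoverage.toGrothendieck).superset_covering ?_
    (Precoverage.generate_mem_toGrothendieck hmem)
  rintro Z _ ⟨W, ψ, _, ⟨⟩, rfl⟩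
  rw [Sieve.overEquiv_iff]
  refine ⟨T', (Over.homMk ψ (by
    change ψ ≫ T'.hom = (ψ ≫ c.left) ≫ T.hom
    rw [Category.assoc, Over.w]) : Over.mk ((ψ ≫ c.left) ≫ T.hom) ⟶ T'), c,
    Presieve.singleton.mk, ?_⟩
  ext1
  rfl

/-- the bridge between two charts, with the smoothness of the first leg, the 2-isomorphism and the
description of the points -/
theorem exists_bridge_iso {𝒳 : AlgSt.Cat S} (hX : FibCat.IsFibGrpd 𝒳.p)
    (hΔ : AlgSt.RepByAlgSp1 (FibCat.diag (FibCat.toSelf 𝒳))) {U U₀ : Over S}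
    (x : FibCat.overCat U ⥤ᵇ 𝒳) (x₀ : FibCat.overCat U₀ ⥤ᵇ 𝒳)
    (hx₀ : AlgSt.RepByAlgSpWith (AlgSp.LocP @Smooth) x₀) :
    ∃ (W : Over S) (a : W ⟶ U) (b : W ⟶ U₀), Smooth a.left ∧
      Nonempty (BasedFunctor.comp (AlgSt.overMap a) x ≅ BasedFunctor.comp (AlgSt.overMap b) x₀) ∧
      (∀ (u : ↥U.left) (u₀ : ↥U₀.left), AlgSt.Points.ofChart x u = AlgSt.Points.ofChart x₀ u₀ →
        ∃ w : ↥W.left, a.left w = u ∧ b.left w = u₀) := by
  obtain ⟨W, a, b, R, e, c, he, hce, hcs, ha, hb, ⟨ia⟩, ⟨ib⟩⟩ := exists_bridge_q hX hΔ x x₀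
  have hcet := ACov.isEtaleMor_of_repWith c hce
  have hcsurj : IsSurjectiveMor c := ACov.points_map_surjective c hcs
  have hWsp : IsAlgSpace ((yon S).obj W) := IsAlgSpace.yon_obj W
  have hU : FibCat.IsFibGrpd (FibCat.overCat U).p := FG.isFibGrpd_overForget U
  have hU₀ : FibCat.IsFibGrpd (FibCat.overCat U₀).p := FG.isFibGrpd_overForget U₀
  have hfp : FibCat.IsFibGrpd (FibCat.fp x x₀).p := SP.isFibGrpd_fp _ _ hU hU₀ hX
  let q : FibCat.overCat W ⥤ᵇ FibCat.fp x x₀ :=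
    BasedFunctor.comp (BasedFunctor.comp (ofOverCat W) (ofSpMap c)) e
  have hiso : BasedFunctor.comp (AlgSt.overMap a) x ≅ BasedFunctor.comp (AlgSt.overMap b) x₀ := by
    let Q : (FibCat.overCat W : AlgSt.Cat S) ⟶ FibCat.fp x x₀ := q
    let X' : (FibCat.overCat U : AlgSt.Cat S) ⟶ 𝒳 := x
    let X₀' : (FibCat.overCat U₀ : AlgSt.Cat S) ⟶ 𝒳 := x₀
    have i1 : BasedFunctor.comp (FibCat.fpFst x x₀) x ≅ BasedFunctor.comp (FibCat.fpSnd x x₀) x₀ :=
      FibCat.fpIso x x₀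
    have i2 := Bicategory.whiskerLeftIso Q i1
    have i5 := Bicategory.whiskerRightIso
      (f := (BasedFunctor.comp q (FibCat.fpFst x x₀) :
        (FibCat.overCat W : AlgSt.Cat S) ⟶ FibCat.overCat U)) ia X'
    have i6 := Bicategory.whiskerRightIso
      (f := (BasedFunctor.comp q (FibCat.fpSnd x x₀) :
        (FibCat.overCat W : AlgSt.Cat S) ⟶ FibCat.overCat U₀)) ib X₀'
    exact i5.symm ≪≫ i2 ≪≫ i6
  have hq : AlgSt.IsSurjective q := by
    have h1 : AlgSt.RepByAlgSpWith IsSurjectiveMor (BasedFunctor.comp (ofOverCat W) (ofSpMap c)) :=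
      FD.repWith_precomp_equiv _ (ofOverCat W) (AD.ofOverCat_isEquivOver W) _
        (DCV.repWith_ofSpMap _ DL.surj_bc ⟨(yon S).obj W, IsAlgSpace.yon_obj W⟩ R c hcsurj)
    exact isSurjective_comp _ e (isSurjective_of_repWith (Stk.isFibGrpd_ofPsh _) _ h1)
      (isSurjective_of_isEquivOver e he)
  refine ⟨W, a, b, ?_, ⟨hiso⟩, ?_⟩
  · have hcP : LocP @Smooth c := ACov.locP_of_isEtaleMor (P := @Smooth)
      (fun X Y f hf => by have := hf; infer_instance) c hcet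
    have h1 := DL2.transport _ AFP.sm_bc x₀ hx₀ U x R e he
    have h2 := AFP.sm_cp hWsp R.property (IsAlgSpace.yon_obj U) c _ hcP h1
    rw [← ha] at h2
    exact AlgSp.locP_yon_map h2
  · intro u u₀ h
    obtain ⟨ω, hω1, hω2⟩ := exists_point_fp hU₀ hX hU x₀ x
      (AlgSt.Points.ofChart (BasedFunctor.id _) u) (AlgSt.Points.ofChart (BasedFunctor.id _) u₀) h
    obtain ⟨ζ, rfl⟩ := hq ω
    obtain ⟨w, rfl⟩ := exists_ofChart_id W ζ
    refine ⟨w, ?_, ?_⟩
    · apply ofChart_id_injective U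
      rw [← hω1, ← ofChart_overMap_id, ← map_comp]
      exact (ofChart_congr ia w).symm
    · apply ofChart_id_injective U₀
      rw [← hω2, ← ofChart_overMap_id, ← map_comp]
      exact (ofChart_congr ib w).symm

instance subIncl_full {𝒳 : AlgSt.Cat S} (Q : 𝒳.obj → Prop) :
    (AlgSt.subIncl 𝒳 Q).toFunctor.Full :=
  inferInstanceAs (ObjectProperty.ι Q).Full

instance subIncl_faithful {𝒳 : AlgSt.Cat S} (Q : 𝒳.obj → Prop) :
    (AlgSt.subIncl 𝒳 Q).toFunctor.Faithful :=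
  inferInstanceAs (ObjectProperty.ι Q).Faithful

open Groth.Agent.Lib.Helper86 in
/-- **an object all of whose points lie in the open substack lies in the open substack** -/
theorem Q_of_QT_range {𝒳 : AlgSt.Cat S} (h𝒳 : AlgSt.IsAlgStack Scheme.fppfPrecoverage 𝒳)
    (Q : 𝒳.obj → Prop) (hQ : AlgSt.IsOpenSubstack 𝒳 Q Scheme.fppfPrecoverage) {y : 𝒳.obj}
    (hy : QT (Set.range (AlgSt.Points.map (AlgSt.subIncl 𝒳 Q))) y) : Q y := by
  obtain ⟨hiso, hU, hopen⟩ := hQ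
  have hX := h𝒳.isStack.1
  have : 𝒳.p.IsFibered := TwoYoneda.isFibered_of_isFibGrpd hX
  obtain ⟨U₀, q, hqs, hqsurj⟩ := hU.atlas
  have hU₀f : FibCat.IsFibGrpd (FibCat.overCat U₀).p := FG.isFibGrpd_overForget U₀
  let i := AlgSt.subIncl 𝒳 Q
  have hx₀ : AlgSt.RepByAlgSpWith (LocP @Smooth) (BasedFunctor.comp q i) :=
    repWith_comp_of_schLocal' hU₀f hX _ AFP.sm_bc AFP.sm_cp
      (ACov.schLocal_of_isLocalOnBase _ AFP.sm_local) q i hqs (flat_lfp_of_isOpenImm i hopen).2.2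
  let V : Over S := 𝒳.p.obj y
  let x₁ : 𝒳.p.Fiber V := ⟨y, rfl⟩
  let ŷ : FibCat.overCat V ⥤ᵇ 𝒳 := TwoYoneda.pbB x₁
  obtain ⟨W, a, b, hasm, ⟨iso⟩, hpt⟩ := exists_bridge_iso hX h𝒳.diag ŷ (BasedFunctor.comp q i) hx₀
  have hqsj := ofChart_surjective q (isSurjective_of_repWith hU.isStack.1 q hqsurj)
  have hasurj : Function.Surjective a.left := by
    intro v
    have h1 : AlgSt.Points.ofChart ŷ v ∈ Set.range (AlgSt.Points.map i) :=
      ofChart_mem_of_QT ŷ (Over.mk (𝟙 V)) (QT_of_hom (TwoYoneda.pbMap x₁ (Over.mk (𝟙 V))) hy) v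
    obtain ⟨ξ, hξ⟩ := h1
    obtain ⟨u₀, rfl⟩ := hqsj ξ
    obtain ⟨w, hw, -⟩ := hpt v u₀ hξ.symm
    exact ⟨w, hw⟩
  have : Flat a.left := inferInstance
  have : LocallyOfFinitePresentation a.left := inferInstance
  have hR := generate_singleton_mem_J a hasurj
  obtain ⟨ξ, e, -⟩ := Groth.Agent.Lib.Helper62.StkLocEss.exists_preimage_of_locally hX i y
    (Sieve.generate (Presieve.singleton a)) (hU.isStack.2 _ hR).essSurj
    ⟨(h𝒳.isStack.2 _ hR).full, (h𝒳.isStack.2 _ hR).faithful⟩ (by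
      rintro V' f ⟨W', ψ, _, ⟨⟩, rfl⟩
      have hQ' : Q (ŷ.obj (Over.mk (ψ ≫ a))) :=
        hiso.of_iso (compApp iso (Over.mk ψ)).symm (q.obj _).property
      exact ⟨⟨_, hQ'⟩, TwoYoneda.pbMap x₁ (Over.mk (ψ ≫ a)),
        (TwoYoneda.pbMap_cart x₁ (Over.mk (ψ ≫ a))).toIsHomLift⟩)
  exact hiso.of_iso e ξ.property

/-- **an open substack is the substack of its open set of points** -/
theorem Q_iff_QT_range {𝒳 : AlgSt.Cat S} (h𝒳 : AlgSt.IsAlgStack Scheme.fppfPrecoverage 𝒳)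
    (Q : 𝒳.obj → Prop) (hQ : AlgSt.IsOpenSubstack 𝒳 Q Scheme.fppfPrecoverage) (y : 𝒳.obj) :
    Q y ↔ QT (Set.range (AlgSt.Points.map (AlgSt.subIncl 𝒳 Q))) y :=
  ⟨QT_range_of_Q h𝒳.isStack.1 Q hQ.1 hQ.2.1.isStack.1, Q_of_QT_range h𝒳 Q hQ⟩

end Groth.Agent.Lib.Helper10.OST
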