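import Groth.Prelude.Def_W4c2isonaturalstkIso
import Groth.Agent.Lib.Helper10.OpenSubT2
import Groth.Agent.Lib.Helper17.PointsTop3

/-!
# The map on points induced by an isomorphism of presheaves of isomorphism classes (helper10)

An `IsoNat.FIso 𝒳 𝒴` between categories fibred in groupoids induces a surjection `|𝒳| → |𝒴|`
which is compatible with charts, hence continuous when `𝒴` is an algebraic stack.
-/

set_option autoImplicit false
set_option backward.isDefEq.respectTransparency false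
set_option backward.isDefEq.respectTransparency.types false
universe u

namespace Groth.Agent.Lib.Helper10.INP

open CategoryTheory CategoryTheory.Limits AlgebraicGeometry Opposite AlgSp FibCat Stk AlgSt
open Groth.Agent.Lib.Helper17 Groth.Agent.Lib.Helper17.FP Groth.Agent.Lib.Helper17.EO
  Groth.Agent.Lib.Helper17.PD Groth.Agent.Lib.Helper17.AT Groth.Agent.Lib.Helper17.AB
  Groth.Agent.Lib.Helper17.AOS Groth.Agent.Lib.Helper17.ACP Groth.Agent.Lib.Helper17.PTS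
open IsoNat

variable {S : Scheme.{u}} {𝒳 𝒴 : AlgSt.Cat S}

/-- the object of the fibre category of a field-valued point -/
def fib (p : AlgSt.FPt 𝒳) : 𝒳.p.Fiber (Over.mk p.str) := ⟨p.obj, p.lies⟩

/-- the field-valued point with the field of `p` and a given object of the fibre -/
def qpt (p : AlgSt.FPt 𝒳) (y : 𝒴.p.Fiber (Over.mk p.str)) : AlgSt.FPt 𝒴 :=
  { K := p.K, str := p.str, obj := y.1, lies := y.2 }

/-- the class of `y` corresponds to the class of `p` -/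
def Corr (φ : FIso 𝒳 𝒴) (p : AlgSt.FPt 𝒳) (y : 𝒴.p.Fiber (Over.mk p.str)) : Prop :=
  φ.toEquiv (Over.mk p.str) (cls (fib p)) = cls y

theorem exists_hom_of_cls_eq {T : Over S} {y y' : 𝒴.p.Fiber T} (h : cls y = cls y') :
    ∃ m : y.1 ⟶ y'.1, 𝒴.p.IsHomLift (𝟙 T) m := by
  obtain ⟨e⟩ := Quotient.exact h
  exact ⟨e.hom.1, e.hom.2⟩

/-- a morphism of `𝒳` between field-valued points, as a morphism over a morphism of the base -/
theorem exists_base_hom (r p : AlgSt.FPt 𝒳) (a : r.obj ⟶ p.obj) :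
    ∃ g : Over.mk r.str ⟶ Over.mk p.str, 𝒳.p.IsHomLift g a :=
  ⟨eqToHom r.lies.symm ≫ 𝒳.p.map a ≫ eqToHom p.lies,
    IsHomLift.of_fac 𝒳.p _ a r.lies p.lies rfl⟩

/-- the image of a morphism between field-valued points -/
theorem exists_image_hom (φ : FIso 𝒳 𝒴) (r p : AlgSt.FPt 𝒳) (a : r.obj ⟶ p.obj)
    (yr : 𝒴.p.Fiber (Over.mk r.str)) (yp : 𝒴.p.Fiber (Over.mk p.str)) (hr : Corr φ r yr)
    (hp : Corr φ p yp) : ∃ _ : yr.1 ⟶ yp.1, True := by
  obtain ⟨g, hg⟩ := exists_base_hom r p a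
  obtain ⟨y', y, b, -, h1, h2⟩ := φ.natural g (fib r) (fib p) a hg
  obtain ⟨m1, -⟩ := exists_hom_of_cls_eq (hr.symm.trans h1)
  obtain ⟨m2, -⟩ := exists_hom_of_cls_eq (h2.symm.trans hp)
  exact ⟨m1 ≫ b ≫ m2, trivial⟩

/-- **the correspondence is compatible with the relation defining points** -/
theorem mk_qpt_eq (h𝒳 : FibCat.IsFibGrpd 𝒳.p) (φ : FIso 𝒳 𝒴) (p p' : AlgSt.FPt 𝒳)
    (h : AlgSt.Points.mk p = AlgSt.Points.mk p')
    (y : 𝒴.p.Fiber (Over.mk p.str)) (y' : 𝒴.p.Fiber (Over.mk p'.str)) (hy : Corr φ p y)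
    (hy' : Corr φ p' y') : AlgSt.Points.mk (qpt p y) = AlgSt.Points.mk (qpt p' y') := by
  obtain ⟨r, a, a', -⟩ := (mk_eq_mk_iff h𝒳 _ _).mp h
  let yr : 𝒴.p.Fiber (Over.mk r.str) := (φ.toEquiv (Over.mk r.str) (cls (fib r))).out
  have hyr : Corr φ r yr := (Quotient.out_eq _).symm
  obtain ⟨m, -⟩ := exists_image_hom φ r p a yr y hyr hy
  obtain ⟨m', -⟩ := exists_image_hom φ r p' a' yr y' hyr hy'
  exact AlgSt.Points.sound ⟨qpt r yr, m, m', trivial⟩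

/-- **the map on points induced by an isomorphism of presheaves of isomorphism classes** -/
noncomputable def β (φ : FIso 𝒳 𝒴) (ξ : AlgSt.Points 𝒳) : AlgSt.Points 𝒴 :=
  AlgSt.Points.mk (qpt (Quot.out ξ)
    (φ.toEquiv (Over.mk (Quot.out ξ).str) (cls (fib (Quot.out ξ)))).out)

theorem β_mk (h𝒳 : FibCat.IsFibGrpd 𝒳.p) (φ : FIso 𝒳 𝒴) (p : AlgSt.FPt 𝒳)
    (y : 𝒴.p.Fiber (Over.mk p.str)) (hy : Corr φ p y) :
    β φ (AlgSt.Points.mk p) = AlgSt.Points.mk (qpt p y) := by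
  unfold β
  refine mk_qpt_eq h𝒳 φ _ p ?_ _ y (Quotient.out_eq _).symm hy
  exact Quot.out_eq (AlgSt.Points.mk p)

theorem β_surjective (h𝒳 : FibCat.IsFibGrpd 𝒳.p) (φ : FIso 𝒳 𝒴) :
    Function.Surjective (β φ) := by
  intro η
  obtain ⟨q₀, rfl⟩ := AlgSt.Points.mk_surjective η
  let x : 𝒳.p.Fiber (Over.mk q₀.str) :=
    ((φ.toEquiv (Over.mk q₀.str)).symm (cls (fib q₀))).out
  let p : AlgSt.FPt 𝒳 := { K := q₀.K, str := q₀.str, obj := x.1, lies := x.2 }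
  have hc : Corr φ p (fib q₀) := by
    change φ.toEquiv (Over.mk q₀.str) (cls x) = cls (fib q₀)
    have : cls x = (φ.toEquiv (Over.mk q₀.str)).symm (cls (fib q₀)) := Quotient.out_eq _
    rw [this, Equiv.apply_symm_apply]
  exact ⟨AlgSt.Points.mk p, β_mk h𝒳 φ p (fib q₀) hc⟩

/-- **compatibility with charts**: a chart of `𝒳` and a chart of `𝒴` whose classes correspond
induce corresponding maps to the spaces of points -/
theorem β_ofChart (h𝒳 : FibCat.IsFibGrpd 𝒳.p) (h𝒴 : FibCat.IsFibGrpd 𝒴.p) (φ : FIso 𝒳 𝒴)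
    {V : Over S} (x : FibCat.overCat V ⥤ᵇ 𝒳) (y : FibCat.overCat V ⥤ᵇ 𝒴)
    (hxy : φ.toEquiv V (objCls x) = objCls y) (v : ↥V.left) :
    β φ (AlgSt.Points.ofChart x v) = AlgSt.Points.ofChart y v := by
  -- the field-valued point of the chart
  let ι : Over.mk (V.left.fromSpecResidueField v ≫ V.hom) ⟶ V :=
    Over.homMk (V.left.fromSpecResidueField v) rfl
  let m : (Over.mk ι : Over V) ⟶ Over.mk (𝟙 V) := Over.homMk ι (by simp)
  let pv : AlgSt.FPt 𝒳 :=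
    { K := ↥(V.left.residueField v)
      str := V.left.fromSpecResidueField v ≫ V.hom
      obj := x.obj (Over.mk ι)
      lies := x.w_obj _ }
  let qv : AlgSt.FPt 𝒴 :=
    { K := ↥(V.left.residueField v)
      str := V.left.fromSpecResidueField v ≫ V.hom
      obj := y.obj (Over.mk ι)
      lies := y.w_obj _ }
  change β φ (AlgSt.Points.mk pv) = AlgSt.Points.mk qv
  have hxm : 𝒳.p.IsHomLift ι (x.map m) := by
    have h1 : (FibCat.overCat V).p.IsHomLift ι m := hl_of_eq rfl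
    infer_instance
  have hym : 𝒴.p.IsHomLift ι (y.map m) := by
    have h1 : (FibCat.overCat V).p.IsHomLift ι m := hl_of_eq rfl
    infer_instance
  obtain ⟨y', y₀, b, hb, h1, h2⟩ := φ.natural ι (fib pv)
    ⟨x.obj (Over.mk (𝟙 V)), x.w_obj (Over.mk (𝟙 V))⟩ (x.map m) hxm
  rw [β_mk h𝒳 φ pv y' h1]
  -- compare `y'` with the pullback given by the chart `y`
  have h3 : cls y₀ = objCls y := h2.symm.trans hxy
  obtain ⟨e, he⟩ := exists_hom_of_cls_eq h3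
  have hbe : 𝒴.p.IsHomLift ι (b ≫ e) := by
    have : 𝒴.p.IsHomLift (ι ≫ 𝟙 V) (b ≫ e) := inferInstance
    rwa [Category.comp_id] at this
  obtain ⟨θ, -, -, -⟩ := FG.exists_factor h𝒴 ι (y.map m) hym (b ≫ e) hbe
  exact mk_eq_of_hom (qpt pv y') qv θ

open Groth.Agent.Lib.Helper86 in
/-- every class over `V` is the class of a chart -/
theorem exists_chart_of_cls (h𝒴 : FibCat.IsFibGrpd 𝒴.p) {V : Over S} (c : IsoCl 𝒴 V) :
    ∃ y : FibCat.overCat V ⥤ᵇ 𝒴, objCls y = c := by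
  have : 𝒴.p.IsFibered := TwoYoneda.isFibered_of_isFibGrpd h𝒴
  obtain ⟨y₀, rfl⟩ := Quotient.exists_rep c
  refine ⟨TwoYoneda.pbB y₀, ?_⟩
  have hm : 𝒴.p.IsHomLift (𝟙 V) (TwoYoneda.pbMap y₀ (Over.mk (𝟙 V))) :=
    (TwoYoneda.pbMap_cart y₀ (Over.mk (𝟙 V))).toIsHomLift
  have hiso : IsIso (TwoYoneda.pbMap y₀ (Over.mk (𝟙 V))) := FG.isIso_of_lift_id h𝒴 _ hm
  have hinv : 𝒴.p.IsHomLift (𝟙 V) (inv (TwoYoneda.pbMap y₀ (Over.mk (𝟙 V)))) := by
    have := IsHomLift.lift_id_inv_isIso (p := 𝒴.p) V (TwoYoneda.pbMap y₀ (Over.mk (𝟙 V)))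
    exact this
  apply Quotient.sound
  exact ⟨{ hom := ⟨TwoYoneda.pbMap y₀ (Over.mk (𝟙 V)), hm⟩
           inv := ⟨inv (TwoYoneda.pbMap y₀ (Over.mk (𝟙 V))), hinv⟩
           hom_inv_id := Subtype.ext (IsIso.hom_inv_id _)
           inv_hom_id := Subtype.ext (IsIso.inv_hom_id _) }⟩

/-- **the induced map on points is continuous** -/
theorem continuous_β (h𝒳 : FibCat.IsFibGrpd 𝒳.p)
    (h𝒴 : AlgSt.IsAlgStack Scheme.fppfPrecoverage 𝒴) (φ : FIso 𝒳 𝒴) : Continuous (β φ) := by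
  rw [continuous_def]
  intro O hO V x _
  obtain ⟨y, hy⟩ := exists_chart_of_cls h𝒴.isStack.1 (φ.toEquiv V (objCls x))
  have e : AlgSt.Points.ofChart x ⁻¹' (β φ ⁻¹' O) = AlgSt.Points.ofChart y ⁻¹' O := by
    ext v
    change β φ (AlgSt.Points.ofChart x v) ∈ O ↔ _
    rw [β_ofChart h𝒳 h𝒴.isStack.1 φ x y hy.symm v]
    rfl
  rw [e]
  exact (continuous_ofChart h𝒴 y).isOpen_preimage O hO

/-- **quasi-compactness is detected by the presheaf of isomorphism classes** -/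
theorem isQuasiCompact_of_fIso (h𝒳 : AlgSt.IsAlgStack Scheme.fppfPrecoverage 𝒳)
    (h𝒴 : AlgSt.IsAlgStack Scheme.fppfPrecoverage 𝒴) (φ : FIso 𝒳 𝒴)
    (hqc : AlgSt.IsQuasiCompact 𝒳) : AlgSt.IsQuasiCompact 𝒴 := by
  have hc : CompactSpace (AlgSt.Points 𝒳) := (isQuasiCompact_iff_compactSpace h𝒳).mp hqc
  rw [isQuasiCompact_iff_compactSpace h𝒴]
  exact Function.Surjective.compactSpace (continuous_β h𝒳.isStack.1 h𝒴 φ)
    (β_surjective h𝒳.isStack.1 φ)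

/-- **the maps on points commute with corresponding functors** -/
theorem β_map {𝒳' 𝒴' : AlgSt.Cat S} (h𝒳 : FibCat.IsFibGrpd 𝒳.p) (h𝒴 : FibCat.IsFibGrpd 𝒴.p)
    (f : 𝒳 ⥤ᵇ 𝒴) (f' : 𝒳' ⥤ᵇ 𝒴') (φ : FIsoSq f f') (ξ : AlgSt.Points 𝒳) :
    β φ.tgt (AlgSt.Points.map f ξ) = AlgSt.Points.map f' (β φ.src ξ) := by
  obtain ⟨p, rfl⟩ := AlgSt.Points.mk_surjective ξ
  let x' : 𝒳'.p.Fiber (Over.mk p.str) := (φ.src.toEquiv (Over.mk p.str) (cls (fib p))).out
  have hx' : Corr φ.src p x' := (Quotient.out_eq _).symm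
  rw [β_mk h𝒳 φ.src p x' hx']
  have hc : Corr φ.tgt (p.map f) ((fibFun f' (Over.mk p.str)).obj x') := by
    have h1 := φ.comm (Over.mk p.str) (cls (fib p))
    rw [hx'] at h1
    exact h1
  exact β_mk h𝒴 φ.tgt (p.map f) _ hc

/-- **surjectivity on points is detected by the presheaves of isomorphism classes** -/
theorem isSurjective_of_fIsoSq {𝒳' 𝒴' : AlgSt.Cat S} (h𝒳 : FibCat.IsFibGrpd 𝒳.p)
    (h𝒴 : FibCat.IsFibGrpd 𝒴.p) (f : 𝒳 ⥤ᵇ 𝒴) (f' : 𝒳' ⥤ᵇ 𝒴') (φ : FIsoSq f f')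
    (hf : AlgSt.IsSurjective f) : AlgSt.IsSurjective f' := by
  intro η'
  obtain ⟨η, rfl⟩ := β_surjective h𝒴 φ.tgt η'
  obtain ⟨ξ, rfl⟩ := hf η
  exact ⟨β φ.src ξ, (β_map h𝒳 h𝒴 f f' φ ξ).symm⟩

end Groth.Agent.Lib.Helper10.INP
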