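import Groth.Agent.Lib.Helper10.IsoNatPts

/-!
# The inverse of an isomorphism of presheaves of isomorphism classes (helper10)
-/

set_option autoImplicit false
set_option backward.isDefEq.respectTransparency false
set_option backward.isDefEq.respectTransparency.types false
universe u

namespace Groth.Agent.Lib.Helper10.INP

open CategoryTheory CategoryTheory.Limits AlgebraicGeometry Opposite AlgSp FibCat Stk AlgSt
open Groth.Agent.Lib.Helper17 Groth.Agent.Lib.Helper17.FP Groth.Agent.Lib.Helper17.EO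
  Groth.Agent.Lib.Helper17.PD Groth.Agent.Lib.Helper17.AT Groth.Agent.Lib.Helper17.AB
  Groth.Agent.Lib.Helper17.AOS Groth.Agent.Lib.Helper17.ACP Groth.Agent.Lib.Helper17.PTS
open IsoNat

variable {S : Scheme.{u}} {𝒳 𝒴 : AlgSt.Cat S}

/-- a morphism over the identity between objects of a fibre identifies their classes -/
theorem cls_eq_of_hom (h𝒴 : FibCat.IsFibGrpd 𝒴.p) {T : Over S} {y y' : 𝒴.p.Fiber T}
    (m : y.1 ⟶ y'.1) (hm : 𝒴.p.IsHomLift (𝟙 T) m) : cls y = cls y' := by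
  have hiso : IsIso m := FG.isIso_of_lift_id h𝒴 _ hm
  have hinv : 𝒴.p.IsHomLift (𝟙 T) (inv m) := by
    have := IsHomLift.lift_id_inv_isIso (p := 𝒴.p) T m
    exact this
  apply Quotient.sound
  exact ⟨{ hom := ⟨m, hm⟩
           inv := ⟨inv m, hinv⟩
           hom_inv_id := Subtype.ext (IsIso.hom_inv_id _)
           inv_hom_id := Subtype.ext (IsIso.inv_hom_id _) }⟩

/-- **the inverse of an isomorphism of presheaves of isomorphism classes** -/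
noncomputable def fIsoSymm (h𝒳 : FibCat.IsFibGrpd 𝒳.p) (h𝒴 : FibCat.IsFibGrpd 𝒴.p)
    (φ : FIso 𝒳 𝒴) : FIso 𝒴 𝒳 where
  toEquiv T := (φ.toEquiv T).symm
  natural := by
    intro T' T g y' y b hb
    let x : 𝒳.p.Fiber T := ((φ.toEquiv T).symm (cls y)).out
    have hx : φ.toEquiv T (cls x) = cls y := by
      have : cls x = (φ.toEquiv T).symm (cls y) := Quotient.out_eq _
      rw [this, Equiv.apply_symm_apply]
    obtain ⟨x'₀, a, ha⟩ := FG.exists_lift_of_eq h𝒳 x.2 g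
    have hal : 𝒳.p.IsHomLift g a := ha.toIsHomLift
    let x' : 𝒳.p.Fiber T' := ⟨x'₀, hl_dom hal⟩
    obtain ⟨z', z, c, hc, h1, h2⟩ := φ.natural g x' x a hal
    obtain ⟨m, hm⟩ := exists_hom_of_cls_eq (h2.symm.trans hx)
    have hcm : 𝒴.p.IsHomLift g (c ≫ m) := by
      have : 𝒴.p.IsHomLift (g ≫ 𝟙 T) (c ≫ m) := inferInstance
      rwa [Category.comp_id] at this
    obtain ⟨θ, hθ, -, -⟩ := FG.exists_factor h𝒴 g b hb (c ≫ m) hcm
    have h3 : cls z' = cls y' := cls_eq_of_hom h𝒴 θ hθ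
    refine ⟨x', x, a, hal, ?_, ?_⟩
    · rw [Equiv.symm_apply_eq, h1]
      exact h3.symm
    · rw [Equiv.symm_apply_eq]
      exact hx.symm

theorem β_symm_β (h𝒳 : FibCat.IsFibGrpd 𝒳.p) (h𝒴 : FibCat.IsFibGrpd 𝒴.p) (φ : FIso 𝒳 𝒴)
    (ξ : AlgSt.Points 𝒳) : β (fIsoSymm h𝒳 h𝒴 φ) (β φ ξ) = ξ := by
  obtain ⟨p, rfl⟩ := AlgSt.Points.mk_surjective ξ
  let y : 𝒴.p.Fiber (Over.mk p.str) := (φ.toEquiv (Over.mk p.str) (cls (fib p))).out
  have hy : Corr φ p y := (Quotient.out_eq _).symm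
  rw [β_mk h𝒳 φ p y hy]
  have hc : Corr (fIsoSymm h𝒳 h𝒴 φ) (qpt p y) (fib p) := by
    change (φ.toEquiv (Over.mk p.str)).symm (cls y) = cls (fib p)
    rw [Equiv.symm_apply_eq]
    exact hy.symm
  exact β_mk h𝒴 (fIsoSymm h𝒳 h𝒴 φ) (qpt p y) (fib p) hc

theorem β_β_symm (h𝒳 : FibCat.IsFibGrpd 𝒳.p) (h𝒴 : FibCat.IsFibGrpd 𝒴.p) (φ : FIso 𝒳 𝒴)
    (η : AlgSt.Points 𝒴) : β φ (β (fIsoSymm h𝒳 h𝒴 φ) η) = η := by
  obtain ⟨q, rfl⟩ := AlgSt.Points.mk_surjective η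
  let x : 𝒳.p.Fiber (Over.mk q.str) :=
    ((fIsoSymm h𝒳 h𝒴 φ).toEquiv (Over.mk q.str) (cls (fib q))).out
  have hx : Corr (fIsoSymm h𝒳 h𝒴 φ) q x := (Quotient.out_eq _).symm
  rw [β_mk h𝒴 (fIsoSymm h𝒳 h𝒴 φ) q x hx]
  have hc : Corr φ (qpt q x) (fib q) := by
    change φ.toEquiv (Over.mk q.str) (cls x) = cls (fib q)
    have hx' : (φ.toEquiv (Over.mk q.str)).symm (cls (fib q)) = cls x := hx
    rw [Equiv.symm_apply_eq] at hx'
    exact hx'.symm
  exact β_mk h𝒳 φ (qpt q x) (fib q) hc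

end Groth.Agent.Lib.Helper10.INP
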