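import Mathlib.Algebra.Lie.Basic
import Mathlib.LinearAlgebra.Basis.Basic
import Mathlib.LinearAlgebra.Determinant
import Mathlib.LinearAlgebra.Matrix.ToLin
import Mathlib.Tactic.Module
import Mathlib.Tactic.LinearCombination
import Mathlib.Tactic.FinCases

set_option autoImplicit false

namespace Groth.Agent.Lib.Helper10

section
variable {A : Type*} [CommRing A] {L : Type*} [AddCommGroup L] [Module A L]
  (bs : Module.Basis (Fin 3) A L)

theorem expand3 (m : L) :
    m = bs.repr m 0 • bs 0 + bs.repr m 1 • bs 1 + bs.repr m 2 • bs 2 := by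
  conv_lhs => rw [← bs.sum_repr m]
  rw [Fin.sum_univ_three]

theorem coeff3 {p q r p' q' r' : A}
    (h : p • bs 0 + q • bs 1 + r • bs 2 = p' • bs 0 + q' • bs 1 + r' • bs 2) :
    p = p' ∧ q = q' ∧ r = r' := by
  have r0 := congrArg (fun m => bs.repr m 0) h
  have r1 := congrArg (fun m => bs.repr m 1) h
  have r2 := congrArg (fun m => bs.repr m 2) h
  simp at r0 r1 r2
  exact ⟨r0, r1, r2⟩

theorem det3_isUnit {L' : Type*} [AddCommGroup L'] [Module A L']
    (bs' : Module.Basis (Fin 3) A L') (φ : L ≃ₗ[A] L')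
    {a b c d e f g h i : A}
    (h0 : φ (bs 0) = a • bs' 0 + b • bs' 1 + c • bs' 2)
    (h1 : φ (bs 1) = d • bs' 0 + e • bs' 1 + f • bs' 2)
    (h2 : φ (bs 2) = g • bs' 0 + h • bs' 1 + i • bs' 2) :
    IsUnit (a * e * i - a * h * f - d * b * i + d * h * c + g * b * f - g * e * c) := by
  have hu := LinearEquiv.isUnit_det φ bs bs'
  rw [Matrix.det_fin_three] at hu
  simp only [LinearMap.toMatrix_apply, LinearEquiv.coe_coe, h0, h1, h2] at hu
  simpa using hu

end

section
variable {A : Type*} [CommRing A] {L : Type*} [LieRing L] [LieAlgebra A L]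

theorem lie3 (x y z : L) (a b c d e f : A) :
    ⁅a • x + b • y + c • z, d • x + e • y + f • z⁆ =
      (a * e - b * d) • ⁅x, y⁆ + (a * f - c * d) • ⁅x, z⁆ + (b * f - c * e) • ⁅y, z⁆ := by
  simp only [add_lie, lie_add, smul_lie, lie_smul, lie_self, smul_zero]
  rw [← lie_skew y x, ← lie_skew z x, ← lie_skew z y]
  module

end

end Groth.Agent.Lib.Helper10
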