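import Groth.Agent.Lib.Helper10.Lie3

set_option autoImplicit false

namespace Groth.Agent.Lib.Helper10

section
variable {A : Type*} [CommRing A] {L : Type*} [LieRing L] [LieAlgebra A L]

theorem map_lie_of_basis {L' : Type*} [LieRing L'] [LieAlgebra A L'] {ι : Type*} [Fintype ι]
    (bs : Module.Basis ι A L) (φ : L →ₗ[A] L')
    (h : ∀ i j, φ ⁅bs i, bs j⁆ = ⁅φ (bs i), φ (bs j)⁆) (u v : L) :
    φ ⁅u, v⁆ = ⁅φ u, φ v⁆ := by
  rw [← bs.sum_repr u, ← bs.sum_repr v]
  simp only [sum_lie, lie_sum, smul_lie, lie_smul, map_sum, map_smul, h]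

/-- a Lie equivalence built from a linear equivalence preserving brackets of basis vectors -/
noncomputable def lieEquivOfBasis {L' : Type*} [LieRing L'] [LieAlgebra A L'] {ι : Type*}
    [Fintype ι] (bs : Module.Basis ι A L) (φ : L ≃ₗ[A] L')
    (h : ∀ i j, φ ⁅bs i, bs j⁆ = ⁅φ (bs i), φ (bs j)⁆) : L ≃ₗ⁅A⁆ L' :=
  { φ with
    map_lie' := fun {x y} => map_lie_of_basis bs φ.toLinearMap h x y
    invFun := φ.symm
    left_inv := φ.left_inv
    right_inv := φ.right_inv }

end

end Groth.Agent.Lib.Helper10
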