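import Mathlib.AlgebraicGeometry.Restrict
import Mathlib.AlgebraicGeometry.Morphisms.Flat
import Mathlib.AlgebraicGeometry.Morphisms.QuasiSeparated
import Mathlib.CategoryTheory.MorphismProperty.Descent

/-!
# The largest open over which a morphism has an fpqc-local property, and flat open base change
-/

set_option autoImplicit false
universe u
open CategoryTheory CategoryTheory.Limits AlgebraicGeometry

namespace Groth.Agent.Lib.Helper10.MaxOpen

/-- restriction of a pullback square to opens -/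
theorem isPullback_restrict {X X' Y Y' : Scheme.{u}} {f' : X' ⟶ Y'} {k : X' ⟶ X} {g : Y' ⟶ Y}
    {f : X ⟶ Y} (sq : IsPullback f' k g f) (U' : Y'.Opens) (U : Y.Opens)
    (gU : (U' : Scheme.{u}) ⟶ (U : Scheme.{u})) (hgU : gU ≫ U.ι = U'.ι ≫ g) :
    ∃ v, IsPullback (f' ∣_ U') v gU (f ∣_ U) := by
  have A := isPullback_morphismRestrict f' U'
  have C := isPullback_morphismRestrict f U
  have big := A.paste_vert sq
  rw [← hgU] at big
  exact ⟨_, IsPullback.of_bot' big C⟩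

variable (P : MorphismProperty Scheme.{u}) [P.IsStableUnderBaseChange]

/-- base change of `P (f ∣_ W)` -/
theorem P_preimage {X X' Y Y' : Scheme.{u}} {f' : X' ⟶ Y'} {k : X' ⟶ X} {g : Y' ⟶ Y}
    {f : X ⟶ Y} (sq : IsPullback f' k g f) (W : Y.Opens) (hW : P (f ∣_ W)) :
    P (f' ∣_ (g ⁻¹ᵁ W)) := by
  obtain ⟨v, hv⟩ := isPullback_restrict sq (g ⁻¹ᵁ W) W (g ∣_ W) (morphismRestrict_ι g W)
  exact P.of_isPullback hv.flip hW

/-- restriction to a smaller open -/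
theorem P_mono {X Y : Scheme.{u}} (f : X ⟶ Y) {W₁ W₂ : Y.Opens} (h : W₁ ≤ W₂) (hW : P (f ∣_ W₂)) :
    P (f ∣_ W₁) := by
  have sq2 : IsPullback f (𝟙 _) (𝟙 _) f := IsPullback.of_id_snd
  obtain ⟨v2, hv2⟩ := isPullback_restrict sq2 W₁ W₂ (Y.homOfLE h) (by simp)
  exact P.of_isPullback hv2.flip hW

variable [P.DescendsAlong (@Flat ⊓ @Surjective ⊓ @QuasiCompact)]

/-- descent direction: an open over which the base change has `P` lies in the preimage of the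
largest open over which `f` has `P`, for a flat open base change. -/
theorem le_preimage {X X' Y Y' : Scheme.{u}} {f' : X' ⟶ Y'} {k : X' ⟶ X} {g : Y' ⟶ Y}
    {f : X ⟶ Y} (sq : IsPullback f' k g f) [Flat g] (hg : IsOpenMap g.base)
    (W : Y.Opens) (hmax : ∀ W₀ : Y.Opens, P (f ∣_ W₀) → W₀ ≤ W)
    (W₁ : Y'.Opens) (hW₁ : P (f' ∣_ W₁)) : W₁ ≤ g ⁻¹ᵁ W := by
  intro y' hy'
  obtain ⟨V, hV, hyV, -⟩ : ∃ V : Y.Opens, V ∈ Y.affineOpens ∧ g.base y' ∈ V ∧ V ≤ ⊤ :=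
    TopologicalSpace.Opens.isBasis_iff_nbhd.mp Y.isBasis_affineOpens
    (U := ⊤) (x := g.base y') trivial
  have hV' : IsAffineOpen V := hV
  obtain ⟨V', hV'a, hyV', hV'le⟩ : ∃ V' : Y'.Opens, V' ∈ Y'.affineOpens ∧ y' ∈ V' ∧
      V' ≤ W₁ ⊓ g ⁻¹ᵁ V :=
    TopologicalSpace.Opens.isBasis_iff_nbhd.mp Y'.isBasis_affineOpens
    (U := W₁ ⊓ g ⁻¹ᵁ V) (x := y') ⟨hy', hyV⟩
  have hV'aff : IsAffineOpen V' := hV'a
  let U : Y.Opens := ⟨g.base '' (V' : Set Y'), hg _ V'.isOpen⟩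
  have hUV : U ≤ V := by
    rintro _ ⟨z, hz, rfl⟩
    exact (hV'le hz).2
  have hV'U : V' ≤ g ⁻¹ᵁ U := fun z hz => ⟨z, hz, rfl⟩
  let gU : (V' : Scheme.{u}) ⟶ (U : Scheme.{u}) := Y'.homOfLE hV'U ≫ (g ∣_ U)
  have hgU : gU ≫ U.ι = V'.ι ≫ g := by
    simp only [gU, Category.assoc, morphismRestrict_ι, Scheme.homOfLE_ι_assoc]
  obtain ⟨v, hv⟩ := isPullback_restrict sq V' U gU hgU
  have hPV' : P (f' ∣_ V') := P_mono P f' (hV'le.trans inf_le_left) hW₁
  have hflat : Flat gU := by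
    infer_instance
  have hsurj : Surjective gU := by
    constructor
    rintro ⟨u, z, hz, rfl⟩
    refine ⟨⟨z, hz⟩, ?_⟩
    apply Subtype.ext
    have := congrArg (fun φ => φ.base ⟨z, hz⟩) hgU
    exact this
  have hqc : QuasiCompact gU := by
    haveI : IsAffine (V' : Scheme.{u}) := hV'aff
    haveI : QuasiSeparatedSpace (U : Scheme.{u}) :=
      (isQuasiSeparated_iff_quasiSeparatedSpace _ U.2).mp (hV'.isQuasiSeparated.of_subset hUV)
    infer_instance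
  have hPU : P (f ∣_ U) :=
    MorphismProperty.DescendsAlong.of_isPullback (Q := @Flat ⊓ @Surjective ⊓ @QuasiCompact) hv
      ⟨⟨hflat, hsurj⟩, hqc⟩ hPV'
  exact hmax U hPU ⟨y', hyV', rfl⟩

/-- two flat open base-change squares with the same left vertical map give the same preimage of
the largest `P`-open -/
theorem preimage_eq_preimage {X X' Y Y' : Scheme.{u}} {f' : X' ⟶ Y'} {k₁ k₂ : X' ⟶ X}
    {g₁ g₂ : Y' ⟶ Y} {f : X ⟶ Y} (sq₁ : IsPullback f' k₁ g₁ f) (sq₂ : IsPullback f' k₂ g₂ f)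
    [Flat g₁] [Flat g₂] (hg₁ : IsOpenMap g₁.base) (hg₂ : IsOpenMap g₂.base)
    (W : Y.Opens) (hW : P (f ∣_ W)) (hmax : ∀ W₀ : Y.Opens, P (f ∣_ W₀) → W₀ ≤ W) :
    g₁ ⁻¹ᵁ W = g₂ ⁻¹ᵁ W :=
  le_antisymm (le_preimage P sq₂ hg₂ W hmax _ (P_preimage P sq₁ W hW))
    (le_preimage P sq₁ hg₁ W hmax _ (P_preimage P sq₂ W hW))

end Groth.Agent.Lib.Helper10.MaxOpen
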