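import Groth.Agent.Lib.Helper10.OpenSubT3
import Groth.Agent.Lib.Helper62.StkGlueHom
import Groth.Agent.Lib.Helper5.LocalRep
import Groth.Agent.Lib.Helper17.Thin
import Groth.Agent.Lib.Helper17.ClsPsh
import Groth.Agent.Lib.Helper17.PshStack
import Groth.Agent.Lib.Helper17.AlgStConj
import Groth.Agent.Lib.Helper23.SLQGlue
import Groth.Agent.S12793
import Groth.Agent.S12777
import Groth.Agent.S12778
import Groth.Agent.Lib.Helper14.QuotStCalc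
import Groth.Agent.Lib.Helper17.PshDict
import Groth.Agent.Lib.Helper10.GerbeEquiv

/-!
# Algebraic stacks covered by open substacks which are algebraic spaces (helper10)
-/

set_option autoImplicit false
set_option backward.isDefEq.respectTransparency false
set_option backward.isDefEq.respectTransparency.types false
universe w u

open CategoryTheory CategoryTheory.Limits AlgebraicGeometry Opposite AlgSp FibCat Stk AlgSt
open Groth.Agent.Lib.Helper17 Groth.Agent.Lib.Helper17.FP Groth.Agent.Lib.Helper17.EO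
  Groth.Agent.Lib.Helper17.PD Groth.Agent.Lib.Helper17.AT Groth.Agent.Lib.Helper17.AB
  Groth.Agent.Lib.Helper17.AOS Groth.Agent.Lib.Helper17.ACP Groth.Agent.Lib.Helper17.PTS
  Groth.Agent.Lib.Helper17.TH
open Groth.Agent.Lib.Helper10.OST Groth.Agent.Lib.Helper86

namespace Groth.Agent.Lib.Helper10.OCS

variable {S : Scheme.{u}} {𝒳 : AlgSt.Cat S}

/-- local membership: around every point of a chart, the chart lands in one of the open substacks -/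
theorem exists_open_Q (h𝒳 : AlgSt.IsAlgStack Scheme.fppfPrecoverage 𝒳) {ι : Type w}
    (Q : ι → 𝒳.obj → Prop) (hQ : ∀ i, AlgSt.IsOpenSubstack 𝒳 (Q i) Scheme.fppfPrecoverage)
    (hcov : ⋃ i, Set.range (AlgSt.Points.map (AlgSt.subIncl 𝒳 (Q i))) = Set.univ)
    {U : Over S} (y : FibCat.overCat U ⥤ᵇ 𝒳) (u : ↥U.left) :
    ∃ (i : ι) (O : U.left.Opens), u ∈ O ∧
      ∀ (V : Over S) (f : V ⟶ U), Set.range f.left ⊆ (O : Set ↥U.left) → Q i (y.obj (Over.mk f)) := by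
  have hu : AlgSt.Points.ofChart y u ∈ ⋃ i, Set.range (AlgSt.Points.map (AlgSt.subIncl 𝒳 (Q i))) := by
    rw [hcov]; trivial
  obtain ⟨i, hi⟩ := Set.mem_iUnion.mp hu
  have hT := isOpen_range_subIncl h𝒳 (Q i) (hQ i)
  refine ⟨i, UT h𝒳 _ hT y, hi, ?_⟩
  intro V f hf
  rw [Q_iff_QT_range h𝒳 (Q i) (hQ i)]
  apply QT_of_ofChart_mem h𝒳.isStack.1
  intro w
  exact hf ⟨w, rfl⟩

/-- (A) an algebraic stack covered by open substacks with thin fibres has thin fibres -/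
theorem thinOver_of_cover (h𝒳 : AlgSt.IsAlgStack Scheme.fppfPrecoverage 𝒳) {ι : Type w}
    (Q : ι → 𝒳.obj → Prop) (hQ : ∀ i, AlgSt.IsOpenSubstack 𝒳 (Q i) Scheme.fppfPrecoverage)
    (hcov : ⋃ i, Set.range (AlgSt.Points.map (AlgSt.subIncl 𝒳 (Q i))) = Set.univ)
    (hthin : ∀ i, ThinOver (AlgSt.fullSub 𝒳 (Q i))) : ThinOver 𝒳 := by
  intro U a b φ ψ hφ hψ
  have hX := h𝒳.isStack.1
  have : 𝒳.p.IsFibered := TwoYoneda.isFibered_of_isFibGrpd hX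
  have ha : 𝒳.p.obj a = U := hl_dom hφ
  have hb : 𝒳.p.obj b = U := hl_cod hφ
  let x₁ : 𝒳.p.Fiber U := ⟨a, ha⟩
  let ŷ : FibCat.overCat U ⥤ᵇ 𝒳 := TwoYoneda.pbB x₁
  choose i O hO hQO using fun u : ↥U.left => exists_open_Q h𝒳 Q hQ hcov ŷ u
  let Y : ↥U.left → Over S := fun u => Over.mk ((O u).ι ≫ U.hom)
  let f : ∀ u, Y u ⟶ U := fun u => Over.homMk (O u).ι rfl
  have hRmem : Sieve.ofArrows Y f ∈ AlgSp.J S U := by
    apply Groth.Agent.Lib.Helper5.LocalRep.ofArrows_mem_J Y f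
    · intro u
      change IsOpenImmersion (O u).ι
      infer_instance
    · intro u
      refine ⟨u, ?_⟩
      change u ∈ Set.range (O u).ι
      rw [Scheme.Opens.range_ι]
      exact hO u
  have hst := h𝒳.isStack.2 _ hRmem
  have hfaith : (Stk.resSieve (Sieve.ofArrows Y f) 𝒳).Faithful := hst.faithful
  refine Groth.Agent.Lib.Helper62.StkGlueHom.eq_of_locally hX a b ha _ hfaith φ ψ hφ hψ ?_
  rintro V g ⟨W, k, _, ⟨u⟩, rfl⟩
  let s : 𝒳.obj := ŷ.obj (Over.mk (k ≫ f u))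
  let l : s ⟶ a := TwoYoneda.pbMap x₁ (Over.mk (k ≫ f u))
  have hl : 𝒳.p.IsHomLift (k ≫ f u) l := (TwoYoneda.pbMap_cart x₁ (Over.mk (k ≫ f u))).toIsHomLift
  refine ⟨s, l, hl, ?_⟩
  have hsQ : Q (i u) s := by
    apply hQO u V (k ≫ f u)
    rintro _ ⟨v, rfl⟩
    have : (k ≫ f u).left v = (O u).ι (k.left v) := rfl
    rw [this, ← Scheme.Opens.range_ι]
    exact ⟨_, rfl⟩
  -- the pullback of `b`
  obtain ⟨b', m, hm⟩ := FG.exists_lift_of_eq hX hb (k ≫ f u)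
  have hm' : 𝒳.p.IsHomLift (k ≫ f u) m := hm.toIsHomLift
  have h1 : 𝒳.p.IsHomLift (k ≫ f u) (l ≫ φ) := IsHomLift.comp_lift_id_right 𝒳.p (k ≫ f u) l φ
  have h2 : 𝒳.p.IsHomLift (k ≫ f u) (l ≫ ψ) := IsHomLift.comp_lift_id_right 𝒳.p (k ≫ f u) l ψ
  obtain ⟨θ₁, hθ₁, e₁, hiso₁⟩ := FG.exists_factor hX (k ≫ f u) m hm' (l ≫ φ) h1
  obtain ⟨θ₂, hθ₂, e₂, -⟩ := FG.exists_factor hX (k ≫ f u) m hm' (l ≫ ψ) h2
  have hb'Q : Q (i u) b' := (hQ (i u)).1.of_iso (asIso θ₁) hsQ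
  let s' : (AlgSt.fullSub 𝒳 (Q (i u))).obj := ⟨s, hsQ⟩
  let b'' : (AlgSt.fullSub 𝒳 (Q (i u))).obj := ⟨b', hb'Q⟩
  let t₁ : s' ⟶ b'' := ObjectProperty.homMk θ₁
  let t₂ : s' ⟶ b'' := ObjectProperty.homMk θ₂
  have ht₁ : (AlgSt.fullSub 𝒳 (Q (i u))).p.IsHomLift (𝟙 V) t₁ :=
    IsHomLift.of_fac (AlgSt.fullSub 𝒳 (Q (i u))).p (𝟙 V) t₁ (hl_dom (p := 𝒳.p) hθ₁) (hl_cod (p := 𝒳.p) hθ₁) (hl_fac (p := 𝒳.p) hθ₁)
  have ht₂ : (AlgSt.fullSub 𝒳 (Q (i u))).p.IsHomLift (𝟙 V) t₂ :=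
    IsHomLift.of_fac (AlgSt.fullSub 𝒳 (Q (i u))).p (𝟙 V) t₂ (hl_dom (p := 𝒳.p) hθ₂) (hl_cod (p := 𝒳.p) hθ₂) (hl_fac (p := 𝒳.p) hθ₂)
  have ht : t₁ = t₂ := hthin (i u) V t₁ t₂ ht₁ ht₂
  have : θ₁ = θ₂ := congrArg (fun t => t.hom) ht
  rw [← e₁, ← e₂, this]

/-- a map of sheaves which is representable by algebraic spaces with `RepWith P` is `RepWith P` -/
theorem repWith_of_repBySpWith (P : MorphismProperty Scheme.{u}) [P.IsStableUnderBaseChange]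
    {G F : Sp S} (g : G ⟶ F) (h : RepBySpWith (RepWith P) g.hom) : RepWith P g := by
  rw [repBySpWith_hom_iff] at h
  apply MorphismProperty.relative.of_exists
  intro T t
  have sq := IsPullback.of_hasPullback g t
  obtain ⟨-, hP⟩ := h t (pullback.fst g t) (pullback.snd g t) sq
  obtain ⟨V, s, fst, hpb⟩ := hP.1 (𝟙 ((yon S).obj T))
  have hs : P s.left := hP.2 (𝟙 _) fst s hpb
  have big := hpb.paste_horiz sq
  rw [Category.id_comp] at big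
  exact ⟨V, fst ≫ pullback.fst g t, s, big, hs⟩

section Core

variable (hW : FibCat.IsFibSetoid 𝒳.p) (h𝒳 : AlgSt.IsAlgStack Scheme.fppfPrecoverage 𝒳)

include h𝒳 in
/-- the presheaf of classes of an algebraic stack fibred in setoids is an fppf sheaf -/
theorem isSheaf_clsPsh : Presheaf.IsSheaf (AlgSp.J S) (CP.clsPsh hW.1) := by
  have hc := CP.cls_isEquivOver hW
  have h1 : Stk.IsStack (AlgSp.J S) (Stk.ofPsh (CP.clsPsh hW.1)) :=
    (Groth.Agent.S12793.result (AlgSp.J S) (CP.clsFunctor hW.1) hc).mp h𝒳.isStack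
  exact (isSheaf_iff_isSheaf_of_type _ _).mpr ((PSK.isStack_ofPsh_iff _ _).mp h1)

/-- the sheaf of classes -/
noncomputable def clsSp : AlgSp.Sp S := ⟨CP.clsPsh hW.1, isSheaf_clsPsh hW h𝒳⟩

variable (Q : 𝒳.obj → Prop) (G : AlgSp.Space S) (e : ofSp G.obj ⥤ᵇ AlgSt.fullSub 𝒳 Q)

/-- the functor from the category of the space of an open substack to the category of classes -/
noncomputable def Ωf : ofSp G.obj ⥤ᵇ ofSp (clsSp hW h𝒳) :=
  BasedFunctor.comp e (BasedFunctor.comp (AlgSt.subIncl 𝒳 Q) (CP.clsFunctor hW.1))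

/-- the map of sheaves from the space of an open substack to the sheaf of classes -/
noncomputable def gmap : G.obj ⟶ clsSp hW h𝒳 := ObjectProperty.homMk (PD.mapOf (Ωf hW h𝒳 Q G e))

/-- (C1) the map of sheaves of an open substack is an open immersion -/
theorem repWith_gmap (hQ : AlgSt.IsOpenSubstack 𝒳 Q Scheme.fppfPrecoverage)
    (he : FibCat.IsEquivOver e) : RepWith @IsOpenImmersion (gmap hW h𝒳 Q G e) := by
  have hc := CP.cls_isEquivOver hW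
  obtain ⟨c', ⟨c₁⟩, ⟨c₂⟩⟩ := id hc
  have hc' : FibCat.IsEquivOver c' := isEquivOver_symm _ c' c₁ c₂
  have h0 : AlgSt.RepByAlgSpWith (RepWith @IsOpenImmersion) (AlgSt.subIncl 𝒳 Q) := hQ.2.2
  have h1 : AlgSt.RepByAlgSpWith (RepWith @IsOpenImmersion)
      (Stk.ofPshMap (PD.mapOf (Ωf hW h𝒳 Q G e))) :=
    AC.repWith_ofPshMap_of_conj (RepWith @IsOpenImmersion) (AlgSt.subIncl 𝒳 Q) e c' he hc'
      (CP.clsFunctor hW.1) c₁ h0
  have h2 : AlgSt.RepByAlgSp1 (Stk.ofPshMap (PD.mapOf (Ωf hW h𝒳 Q G e))) := by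
    intro U y
    obtain ⟨F', e', he', -⟩ := h1 U y
    exact ⟨F', e', he'⟩
  have h3 : AlgSp.RepBySp (PD.mapOf (Ωf hW h𝒳 Q G e)) := (Groth.Agent.S12777.result _).mpr h2
  have h4 : AlgSp.RepBySpWith (RepWith @IsOpenImmersion) (PD.mapOf (Ωf hW h𝒳 Q G e)) :=
    (Groth.Agent.S12778.result _ _ h3).mpr h1
  exact repWith_of_repBySpWith @IsOpenImmersion (gmap hW h𝒳 Q G e) h4

/-- (KE) an object of the open substack over `T` is the image of a section of its space -/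
theorem exists_sec (he : FibCat.IsEquivOver e) {T : Over S} (x' : 𝒳.obj) (hx' : 𝒳.p.obj x' = T)
    (hQx : Q x') :
    ∃ l : G.obj.obj.obj (op T), (PD.mapOf (Ωf hW h𝒳 Q G e)).app (op T) l =
      Quotient.mk (Groth.Agent.S6406.fibSetoid hW.1 T) ⟨x', hx'⟩ := by
  obtain ⟨-, hess⟩ := (Groth.Agent.S5139.result e).mp he
  obtain ⟨ξ, iso, hiso⟩ := hess (⟨x', hQx⟩ : (AlgSt.fullSub 𝒳 Q).obj)
  obtain ⟨T', s⟩ := ξ
  have hb : T' = T := by
    have h1 := hl_dom hiso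
    have h2 := e.w_obj ⟨T', s⟩
    exact h2.symm.trans (h1.trans hx')
  subst hb
  refine ⟨s, ?_⟩
  rw [PD.mapOf_app]
  have hinv : (AlgSt.fullSub 𝒳 Q).p.IsHomLift (𝟙 ((AlgSt.fullSub 𝒳 Q).p.obj ⟨x', hQx⟩)) iso.inv :=
    IsHomLift.lift_id_inv _ _ iso
  have hfac := hl_fac' hinv
  change (CP.clsPsh hW.1).map (eqToHom (PD.base_eq (Ωf hW h𝒳 Q G e) ⟨T', s⟩).symm).op
    (Quotient.mk _ ⟨(e.obj ⟨T', s⟩).obj, rfl⟩) = _
  rw [CP.clsPsh_map, CP.clsMap_eq_iff, Groth.Agent.S6406.qRel_mk]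
  refine ⟨iso.inv.hom, ?_⟩
  apply IsHomLift.of_fac 𝒳.p _ iso.inv.hom hx' rfl
  change _ = _ ≫ 𝒳.p.map iso.inv.hom ≫ _
  have hfac' : 𝒳.p.map iso.inv.hom = eqToHom (hl_dom hinv) ≫ 𝟙 _ ≫ eqToHom (hl_cod hinv).symm := hfac
  rw [hfac']
  simp

end Core

section Cover

open Groth.Agent.Lib.Helper23.AlgSpMor

variable (hW : FibCat.IsFibSetoid 𝒳.p) (h𝒳 : AlgSt.IsAlgStack Scheme.fppfPrecoverage 𝒳)

/-- (ii) every map from a scheme to the sheaf of classes lifts, Zariski locally, to the space of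
one of the covering open substacks -/
theorem exists_local_lift {ι : Type w} (Q : ι → 𝒳.obj → Prop)
    (hQ : ∀ i, AlgSt.IsOpenSubstack 𝒳 (Q i) Scheme.fppfPrecoverage)
    (hcov : ⋃ i, Set.range (AlgSt.Points.map (AlgSt.subIncl 𝒳 (Q i))) = Set.univ)
    (G : ι → AlgSp.Space S) (e : ∀ i, ofSp (G i).obj ⥤ᵇ AlgSt.fullSub 𝒳 (Q i))
    (he : ∀ i, FibCat.IsEquivOver (e i))
    {Z : Over S} (g : (yon S).obj Z ⟶ clsSp hW h𝒳) (z : ↥Z.left) :
    ∃ (i : ι) (O : Z.left.Opens), z ∈ O ∧ ∃ l : (yon S).obj (overOpens Z O) ⟶ (G i).obj,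
      l ≫ gmap hW h𝒳 (Q i) (G i) (e i) = (yon S).map (overOpensι Z O) ≫ g := by
  have : 𝒳.p.IsFibered := TwoYoneda.isFibered_of_isFibGrpd hW.1
  obtain ⟨γ, rfl⟩ := (AlgSp.J S).uliftYonedaEquiv.symm.surjective g
  obtain ⟨x, rfl⟩ := Quotient.exists_rep (s := Groth.Agent.S6406.fibSetoid hW.1 Z) γ
  let ŷ : FibCat.overCat Z ⥤ᵇ 𝒳 := TwoYoneda.pbB x
  obtain ⟨i, O, hzO, hQO⟩ := exists_open_Q h𝒳 Q hQ hcov ŷ z
  have hQx' : Q i (ŷ.obj (Over.mk (overOpensι Z O))) := by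
    apply hQO (overOpens Z O) (overOpensι Z O)
    rintro _ ⟨v, rfl⟩
    change O.ι v ∈ (O : Set ↥Z.left)
    rw [← Scheme.Opens.range_ι]
    exact ⟨v, rfl⟩
  have hx' : 𝒳.p.obj (ŷ.obj (Over.mk (overOpensι Z O))) = overOpens Z O :=
    ŷ.w_obj (Over.mk (overOpensι Z O))
  obtain ⟨l₀, hl₀⟩ := exists_sec hW h𝒳 (Q i) (G i) (e i) (he i) _ hx' hQx'
  refine ⟨i, O, hzO, (AlgSp.J S).uliftYonedaEquiv.symm l₀, ?_⟩
  rw [GrothendieckTopology.uliftYonedaEquiv_symm_naturality_right,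
    GrothendieckTopology.uliftYonedaEquiv_symm_naturality_left]
  congr 1
  refine hl₀.trans ?_
  symm
  change (CP.clsPsh hW.1).map (overOpensι Z O).op (Quotient.mk _ x) = _
  rw [CP.clsPsh_map, CP.clsMap_eq_iff, Groth.Agent.S6406.qRel_mk]
  exact ⟨TwoYoneda.pbMap x (Over.mk (overOpensι Z O)),
    (TwoYoneda.pbMap_cart x (Over.mk (overOpensι Z O))).toIsHomLift⟩

end Cover

/-- a covering family of open substacks can be reindexed by a small type -/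
theorem exists_reindex (h𝒳 : AlgSt.IsAlgStack Scheme.fppfPrecoverage 𝒳) {ι : Type w}
    (Q : ι → 𝒳.obj → Prop)
    (hcov : ⋃ i, Set.range (AlgSt.Points.map (AlgSt.subIncl 𝒳 (Q i))) = Set.univ) :
    ∃ (ι' : Type u) (j : ι' → ι),
      ⋃ k, Set.range (AlgSt.Points.map (AlgSt.subIncl 𝒳 (Q (j k)))) = Set.univ := by
  obtain ⟨U₀, q, -, hqsurj⟩ := h𝒳.atlas
  have hqsj := ofChart_surjective q (isSurjective_of_repWith h𝒳.isStack.1 q hqsurj)
  have hmem : ∀ u : ↥U₀.left, ∃ i, AlgSt.Points.ofChart q u ∈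
      Set.range (AlgSt.Points.map (AlgSt.subIncl 𝒳 (Q i))) := by
    intro u
    have : AlgSt.Points.ofChart q u ∈
        ⋃ i, Set.range (AlgSt.Points.map (AlgSt.subIncl 𝒳 (Q i))) := by
      rw [hcov]; trivial
    exact Set.mem_iUnion.mp this
  choose j hj using hmem
  refine ⟨↥U₀.left, j, ?_⟩
  apply Set.eq_univ_of_forall
  intro p
  obtain ⟨u, rfl⟩ := hqsj p
  exact Set.mem_iUnion.mpr ⟨u, hj u⟩

end Groth.Agent.Lib.Helper10.OCS
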