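import Groth.Agent.Lib.Helper10.OpenCoverSp
import Groth.Agent.Lib.Helper5.ZarGlueSp

/-!
# Etale atlases of sheaves covered by algebraic spaces (helper10)

The map from a coproduct of schemes to a sheaf induced by a jointly surjective family of
representable etale maps is representable, etale and surjective (after helper5's `repWith_desc`).
-/

set_option autoImplicit false
universe u
open CategoryTheory CategoryTheory.Limits AlgebraicGeometry Opposite

namespace Groth.Agent.Lib.Helper10.OCS

open AlgSp Groth.Agent.Lib.Helper36.AlgSpCharts Groth.Agent.Lib.Helper23.AlgSpMor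
  Groth.Agent.Lib.Helper5.LocalRep Groth.Agent.Lib.Helper5.LocalRepB Groth.Agent.Lib.Helper5

variable {S : Scheme.{u}} {ι : Type u} {F : Sp S} {Fi : ι → Sp S} (f : ∀ i, Fi i ⟶ F)
  (het : ∀ i, RepWith @Etale (f i)) (c : Cofan Fi) (hc : IsColimit c)

include het in
/-- The map from the coproduct of a jointly surjective family of representable etale maps is
representable, etale and surjective. -/
theorem repWith_desc_of_etale
    (hcov : ∀ (T : Over S) (g : (yon S).obj T ⟶ F) (x : ↥T.left),
      ∃ i, x ∈ Set.range ((het i).rep.snd g).left) :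
    RepWith @Etale (Cofan.IsColimit.desc hc f) ∧ RepWith @Surjective (Cofan.IsColimit.desc hc f) := by
  set π := Cofan.IsColimit.desc hc f with hπ
  have hπi : ∀ i, c.inj i ≫ π = f i := fun i => Cofan.IsColimit.fac hc f i
  have key : ∀ (T : Over S) (g : (yon S).obj T ⟶ F), ∃ (V : Over S) (fst : (yon S).obj V ⟶ c.pt)
      (snd : V ⟶ T), IsPullback fst ((yon S).map snd) π g ∧ Etale snd.left ∧
        Surjective snd.left := by
    intro T g
    let Ti : ι → Over S := fun i => (het i).rep.pullback g
    let sndi : ∀ i, Ti i ⟶ T := fun i => (het i).rep.snd g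
    let fsti : ∀ i, (yon S).obj (Ti i) ⟶ Fi i := fun i => (het i).rep.fst g
    have sqi : ∀ i, IsPullback (fsti i) ((yon S).map (sndi i)) (f i) g := fun i =>
      (het i).rep.isPullback g
    have hoi : ∀ i, Etale (sndi i).left := fun i => (het i).property_snd g
    have comm : ∀ i, (fsti i ≫ c.inj i) ≫ π = (yon S).map (sndi i) ≫ g := fun i => by
      rw [Category.assoc, hπi, (sqi i).w]
    let a : ∀ i, (yon S).obj (Ti i) ⟶ pullback π g := fun i =>
      pullback.lift (fsti i ≫ c.inj i) ((yon S).map (sndi i)) (comm i)
    have ha1 : ∀ i, a i ≫ pullback.fst π g = fsti i ≫ c.inj i := fun i => pullback.lift_fst _ _ _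
    have ha2 : ∀ i, a i ≫ pullback.snd π g = (yon S).map (sndi i) := fun i =>
      pullback.lift_snd _ _ _
    have sqa : ∀ i, IsPullback (a i) (fsti i) (pullback.fst π g) (c.inj i) := by
      intro i
      refine IsPullback.of_right ?_ (ha1 i) (IsPullback.of_hasPullback π g).flip
      rw [ha2 i, hπi]
      exact (sqi i).flip
    obtain ⟨ε, hε⟩ := rep_of_cofan_pullbacks Fi c hc (pullback.fst π g) Ti a fsti sqa
    let d : sigmaOver Ti ⟶ T := (yon S).preimage (ε.hom ≫ pullback.snd π g)
    have hd : (yon S).map d = ε.hom ≫ pullback.snd π g := Functor.map_preimage _ _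
    have hdi : ∀ i, sigmaOverι Ti i ≫ d = sndi i := by
      intro i
      apply (yon S).map_injective
      rw [Functor.map_comp, hd, ← Category.assoc, hε, ha2]
    refine ⟨sigmaOver Ti, ε.hom ≫ pullback.fst π g, d, ?_, ?_, ?_⟩
    · rw [hd]
      exact IsPullback.of_iso_pullback ⟨by
        rw [Category.assoc, pullback.condition, Category.assoc]⟩ ε rfl rfl
    · refine (IsZariskiLocalAtSource.iff_of_openCover (P := @Etale)
        (sigmaOpenCover fun i => (Ti i).left)).2 ?_
      intro i
      change Etale ((sigmaOpenCover fun i => (Ti i).left).f i ≫ d.left)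
      have : (sigmaOpenCover fun i => (Ti i).left).f i ≫ d.left = (sndi i).left :=
        congrArg CommaMorphism.left (hdi i)
      rw [this]
      exact hoi i
    · refine ⟨fun x => ?_⟩
      obtain ⟨i, y, hy⟩ := hcov T g x
      refine ⟨(sigmaOverι Ti i).left y, ?_⟩
      have := congrArg (fun m : Ti i ⟶ T => m.left y) (hdi i)
      exact this.trans hy
  constructor
  · apply MorphismProperty.relative.of_exists
    intro T g
    obtain ⟨V, fst, snd, sq, h1, -⟩ := key T g
    exact ⟨V, fst, snd, sq, h1⟩
  · apply MorphismProperty.relative.of_exists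
    intro T g
    obtain ⟨V, fst, snd, sq, -, h2⟩ := key T g
    exact ⟨V, fst, snd, sq, h2⟩

end Groth.Agent.Lib.Helper10.OCS
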