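import Groth.Agent.Lib.Helper17.OpenSub
import Groth.Agent.Lib.Helper62.StkFullSub
import Groth.Agent.S12768
import Groth.Agent.S5139

/-!
# The open substack attached to an open subset of `|𝒳|` (helper10)

For an algebraic stack `𝒳` and a set `T` of points, `QT T` is the property of objects all of whose
field-valued points lie in `T`.  For `T` open, `QT T` is an open substack with `|QT T| = T`.
-/

set_option autoImplicit false
set_option backward.isDefEq.respectTransparency false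
set_option backward.isDefEq.respectTransparency.types false
universe u

namespace Groth.Agent.Lib.Helper10.OST

open CategoryTheory CategoryTheory.Limits AlgebraicGeometry Opposite AlgSp FibCat Stk AlgSt
open Groth.Agent.Lib.Helper17 Groth.Agent.Lib.Helper17.FP Groth.Agent.Lib.Helper17.EO
  Groth.Agent.Lib.Helper17.PD Groth.Agent.Lib.Helper17.AT Groth.Agent.Lib.Helper17.AB
  Groth.Agent.Lib.Helper17.AOS Groth.Agent.Lib.Helper17.ACP Groth.Agent.Lib.Helper17.PTS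

variable {S : Scheme.{u}} {𝒳 : AlgSt.Cat S}

/-- objects all of whose field-valued points lie in `T` -/
def QT (T : Set (AlgSt.Points 𝒳)) (y : 𝒳.obj) : Prop :=
  ∀ (p : AlgSt.FPt 𝒳) (_ : p.obj ⟶ y), AlgSt.Points.mk p ∈ T

theorem QT_of_hom {T : Set (AlgSt.Points 𝒳)} {z y : 𝒳.obj} (φ : z ⟶ y) (h : QT T y) : QT T z :=
  fun p a => h p (a ≫ φ)

theorem QT_iso (T : Set (AlgSt.Points 𝒳)) : ObjectProperty.IsClosedUnderIsomorphisms (QT T) :=
  ⟨fun e h => QT_of_hom e.inv h⟩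

theorem QT_mono {T T' : Set (AlgSt.Points 𝒳)} (h : T ⊆ T') {y : 𝒳.obj} (hy : QT T y) : QT T' y :=
  fun p a => h (hy p a)

/-- a field-valued point of the full subcategory -/
def subPt (Q : 𝒳.obj → Prop) (p : AlgSt.FPt 𝒳) (h : Q p.obj) : AlgSt.FPt (AlgSt.fullSub 𝒳 Q) :=
  { K := p.K, str := p.str, obj := ⟨p.obj, h⟩, lies := p.lies }

theorem map_subPt (Q : 𝒳.obj → Prop) (p : AlgSt.FPt 𝒳) (h : Q p.obj) :
    AlgSt.Points.map (AlgSt.subIncl 𝒳 Q) (AlgSt.Points.mk (subPt Q p h)) = AlgSt.Points.mk p := rfl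

theorem mem_range_subIncl_iff (Q : 𝒳.obj → Prop) (ξ : AlgSt.Points 𝒳) :
    ξ ∈ Set.range (AlgSt.Points.map (AlgSt.subIncl 𝒳 Q)) ↔
      ∃ p : AlgSt.FPt 𝒳, Q p.obj ∧ AlgSt.Points.mk p = ξ := by
  constructor
  · rintro ⟨ζ, rfl⟩
    obtain ⟨p, rfl⟩ := AlgSt.Points.mk_surjective ζ
    exact ⟨p.map (AlgSt.subIncl 𝒳 Q), p.obj.property, rfl⟩
  · rintro ⟨p, hp, rfl⟩
    exact ⟨AlgSt.Points.mk (subPt Q p hp), rfl⟩

theorem range_QT (T : Set (AlgSt.Points 𝒳)) :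
    Set.range (AlgSt.Points.map (AlgSt.subIncl 𝒳 (QT T))) = T := by
  ext ξ
  rw [mem_range_subIncl_iff]
  constructor
  · rintro ⟨p, hp, rfl⟩
    exact hp p (𝟙 _)
  · intro hξ
    obtain ⟨p, rfl⟩ := AlgSt.Points.mk_surjective ξ
    refine ⟨p, fun p' a => ?_, rfl⟩
    rw [mk_eq_of_hom p' p a]
    exact hξ

/-- the chart criterion, forward direction -/
theorem ofChart_mem_of_QT {T : Set (AlgSt.Points 𝒳)} {W : Over S} (x : FibCat.overCat W ⥤ᵇ 𝒳)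
    (B : Over W) (h : QT T (x.obj B)) (w : ↥B.left.left) :
    AlgSt.Points.ofChart x (B.hom.left w) ∈ T := by
  rw [← ofChart_overMap B.hom x w]
  let A₀ : Over B.left := Over.mk (Over.homMk (B.left.left.fromSpecResidueField w) rfl :
    Over.mk (B.left.left.fromSpecResidueField w ≫ B.left.hom) ⟶ B.left)
  let φ : (AlgSt.overMap B.hom).obj A₀ ⟶ B :=
    Over.homMk (Over.homMk (B.left.left.fromSpecResidueField w) rfl) rfl
  exact h _ (x.map φ)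

/-- the chart criterion, backward direction -/
theorem QT_of_ofChart_mem (hX : FibCat.IsFibGrpd 𝒳.p) {T : Set (AlgSt.Points 𝒳)} {W : Over S}
    (x : FibCat.overCat W ⥤ᵇ 𝒳) (B : Over W)
    (h : ∀ w : ↥B.left.left, AlgSt.Points.ofChart x (B.hom.left w) ∈ T) : QT T (x.obj B) := by
  intro p a
  have hB : 𝒳.p.obj (x.obj B) = B.left := x.w_obj B
  let g : Over.mk p.str ⟶ B.left := eqToHom p.lies.symm ≫ 𝒳.p.map a ≫ eqToHom hB
  have ha : 𝒳.p.IsHomLift g a := IsHomLift.of_fac 𝒳.p g a p.lies hB rfl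
  let A : Over W := Over.mk (g ≫ B.hom)
  let ψ : A ⟶ B := Over.homMk g rfl
  have hψ0 : (FibCat.overCat W).p.IsHomLift g ψ := hl_of_eq rfl
  have hψ : 𝒳.p.IsHomLift g (x.map ψ) := EO.map_lift'' x hψ0
  obtain ⟨θ, -, -, -⟩ := FG.exists_factor hX g (x.map ψ) hψ a ha
  let q' : AlgSt.FPt (FibCat.overCat B.left) :=
    { K := p.K, str := p.str, obj := Over.mk g, lies := rfl }
  obtain ⟨w, hw⟩ := exists_ofChart_id B.left (AlgSt.Points.mk q')
  have h1 : AlgSt.Points.mk p =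
      AlgSt.Points.map (BasedFunctor.comp (AlgSt.overMap B.hom) x) (AlgSt.Points.mk q') :=
    mk_eq_of_hom p (q'.map (BasedFunctor.comp (AlgSt.overMap B.hom) x)) θ
  rw [h1, hw, ← ofChart_eq_map, ofChart_overMap]
  exact h w

/-- lifting a functor over the base into a full subcategory -/
def liftSub {𝒜 : AlgSt.Cat S} (Q : 𝒳.obj → Prop) (G : 𝒜 ⥤ᵇ 𝒳) (hG : ∀ a, Q (G.obj a)) :
    𝒜 ⥤ᵇ AlgSt.fullSub 𝒳 Q where
  toFunctor := ObjectProperty.lift Q G.toFunctor hG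
  w := G.w

theorem liftSub_comp {𝒜 : AlgSt.Cat S} (Q : 𝒳.obj → Prop) (G : 𝒜 ⥤ᵇ 𝒳) (hG : ∀ a, Q (G.obj a)) :
    BasedFunctor.comp (liftSub Q G hG) (AlgSt.subIncl 𝒳 Q) = G :=
  DR.basedFunctor_ext rfl

section OpenImm

variable (h𝒳 : AlgSt.IsAlgStack Scheme.fppfPrecoverage 𝒳) (T : Set (AlgSt.Points 𝒳))
  (hT : IsOpen T) {U : Over S} (y : FibCat.overCat U ⥤ᵇ 𝒳)

/-- the open subscheme of a chart cut out by `T` -/
def UT : U.left.Opens :=
  ⟨AlgSt.Points.ofChart y ⁻¹' T, (continuous_ofChart h𝒳 y).isOpen_preimage T hT⟩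

/-- the open subscheme as a scheme over `S` -/
def U' : Over S := Over.mk ((UT h𝒳 T hT y).ι ≫ U.hom)

/-- its inclusion -/
def ι' : U' h𝒳 T hT y ⟶ U := Over.homMk (UT h𝒳 T hT y).ι rfl

theorem ι'_mem (u : ↥(U' h𝒳 T hT y).left) :
    AlgSt.Points.ofChart y ((ι' h𝒳 T hT y).left u) ∈ T := by
  have : (UT h𝒳 T hT y).ι u ∈ UT h𝒳 T hT y := by
    have := (UT h𝒳 T hT y).range_ι
    rw [← SetLike.mem_coe, ← this]
    exact ⟨u, rfl⟩
  exact this

theorem QT_restr (B : Over (U' h𝒳 T hT y)) :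
    QT T ((BasedFunctor.comp (AlgSt.overMap (ι' h𝒳 T hT y)) y).obj B) := by
  apply QT_of_ofChart_mem h𝒳.isStack.1
  intro w
  rw [ofChart_overMap]
  exact ι'_mem h𝒳 T hT y _

/-- the restricted chart, into the full subcategory -/
def yT : FibCat.overCat (U' h𝒳 T hT y) ⥤ᵇ AlgSt.fullSub 𝒳 (QT T) :=
  liftSub (QT T) (BasedFunctor.comp (AlgSt.overMap (ι' h𝒳 T hT y)) y) (QT_restr h𝒳 T hT y)

/-- the comparison functor `(Sch/U') ⟶ (Sch/U) ×_𝒳 𝒳_T` -/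
def e₀ : FibCat.overCat (U' h𝒳 T hT y) ⥤ᵇ FibCat.fp y (AlgSt.subIncl 𝒳 (QT T)) :=
  FibCat.fpLift (AlgSt.overMap (ι' h𝒳 T hT y)) (yT h𝒳 T hT y) (Iso.refl _)

theorem e₀_faithful : (e₀ h𝒳 T hT y).toFunctor.Faithful := by
  constructor
  intro A B h h' hh
  have h1 : (AlgSt.overMap (ι' h𝒳 T hT y)).map h = (AlgSt.overMap (ι' h𝒳 T hT y)).map h' :=
    congrArg (fun m => m.hom.fst) hh
  apply Over.OverMorphism.ext
  exact congrArg (fun m : (AlgSt.overMap (ι' h𝒳 T hT y)).obj A ⟶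
    (AlgSt.overMap (ι' h𝒳 T hT y)).obj B => CommaMorphism.left m) h1

theorem e₀_full : (e₀ h𝒳 T hT y).toFunctor.Full := by
  constructor
  intro A B m
  have hw := m.hom.w
  have h2 : m.hom.fst.left ≫ (B.hom ≫ ι' h𝒳 T hT y) = A.hom ≫ ι' h𝒳 T hT y := Over.w m.hom.fst
  have h3 : m.hom.fst.left ≫ B.hom = A.hom := by
    apply Over.OverMorphism.ext
    have h4 := congrArg (fun k => CommaMorphism.left k) h2
    change (m.hom.fst.left.left ≫ B.hom.left) ≫ (UT h𝒳 T hT y).ι = A.hom.left ≫ (UT h𝒳 T hT y).ι at h4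
    exact (cancel_mono _).mp h4
  refine ⟨Over.homMk m.hom.fst.left h3, ?_⟩
  apply FP.hom_ext
  · apply Over.OverMorphism.ext
    rfl
  · change y.map m.hom.fst ≫ 𝟙 _ = 𝟙 _ ≫ (AlgSt.subIncl 𝒳 (QT T)).map m.hom.snd at hw
    rw [Category.comp_id, Category.id_comp] at hw
    apply ObjectProperty.hom_ext
    refine Eq.trans ?_ hw
    change y.map _ = y.map _
    congr 1

theorem e₀_essSurj (η : (FibCat.fp y (AlgSt.subIncl 𝒳 (QT T))).obj) :
    ∃ (ξ : (FibCat.overCat (U' h𝒳 T hT y)).obj) (e : (e₀ h𝒳 T hT y).toFunctor.obj ξ ≅ η),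
      (FibCat.fp y (AlgSt.subIncl 𝒳 (QT T))).p.IsHomLift
        (𝟙 ((FibCat.fp y (AlgSt.subIncl 𝒳 (QT T))).p.obj η)) e.hom := by
  obtain ⟨A, z, θ, hθ, rfl⟩ : ∃ (A : Over U) (z : (AlgSt.fullSub 𝒳 (QT T)).obj)
      (θ : y.obj A ≅ (AlgSt.subIncl 𝒳 (QT T)).obj z)
      (hθ : 𝒳.p.IsHomLift (𝟙 ((FibCat.overCat U).p.obj A)) θ.hom),
      η = mkObj (F := y) (G := AlgSt.subIncl 𝒳 (QT T)) A z θ hθ :=
    ⟨η.obj.fst, η.obj.snd, η.obj.iso, iso_isHomLift η, rfl⟩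
  have hA : QT T (y.obj A) := QT_of_hom θ.hom z.property
  have hr : Set.range A.hom.left ⊆ (UT h𝒳 T hT y : Set ↥U.left) := by
    rintro _ ⟨w, rfl⟩
    exact ofChart_mem_of_QT y A hA w
  have hr' : Set.range A.hom.left ⊆ Set.range (UT h𝒳 T hT y).ι := by
    rw [Scheme.Opens.range_ι]; exact hr
  let l : A.left.left ⟶ (UT h𝒳 T hT y).toScheme :=
    IsOpenImmersion.lift (UT h𝒳 T hT y).ι A.hom.left hr'
  have hl : l ≫ (UT h𝒳 T hT y).ι = A.hom.left := IsOpenImmersion.lift_fac _ _ _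
  let l' : A.left ⟶ U' h𝒳 T hT y := Over.homMk l (by
    change l ≫ ((UT h𝒳 T hT y).ι ≫ U.hom) = A.left.hom
    rw [← Category.assoc, hl]
    exact Over.w A.hom)
  have hl' : l' ≫ ι' h𝒳 T hT y = A.hom := by
    apply Over.OverMorphism.ext
    exact hl
  let ξ : Over (U' h𝒳 T hT y) := Over.mk l'
  let α : (AlgSt.overMap (ι' h𝒳 T hT y)).obj ξ ≅ A := Over.isoMk (Iso.refl _) (by
    change 𝟙 _ ≫ A.hom = l' ≫ ι' h𝒳 T hT y
    rw [hl', Category.id_comp])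
  let β : (yT h𝒳 T hT y).obj ξ ≅ z :=
    ObjectProperty.isoMk _ (y.toFunctor.mapIso α ≪≫ θ)
  let e : (e₀ h𝒳 T hT y).toFunctor.obj ξ ≅ mkObj (F := y) (G := AlgSt.subIncl 𝒳 (QT T)) A z θ hθ :=
    mkIso (z := (e₀ h𝒳 T hT y).toFunctor.obj ξ)
      (z' := mkObj (F := y) (G := AlgSt.subIncl 𝒳 (QT T)) A z θ hθ) α β (by
      change y.map α.hom ≫ θ.hom = 𝟙 _ ≫ (y.map α.hom ≫ θ.hom)
      rw [Category.id_comp])
  refine ⟨ξ, e, ?_⟩
  rw [isHomLift_iff_fst]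
  change (FibCat.overCat U).p.IsHomLift (𝟙 A.left) α.hom
  exact hl_of_eq rfl

theorem e₀_isEquivOver : FibCat.IsEquivOver (e₀ h𝒳 T hT y) := by
  rw [Groth.Agent.S5139.result]
  exact ⟨⟨e₀_full h𝒳 T hT y, e₀_faithful h𝒳 T hT y⟩, e₀_essSurj h𝒳 T hT y⟩

end OpenImm

/-- **the inclusion of `QT T` is an open immersion, for `T` open** -/
theorem isOpenImm_subIncl_QT (h𝒳 : AlgSt.IsAlgStack Scheme.fppfPrecoverage 𝒳)
    (T : Set (AlgSt.Points 𝒳)) (hT : IsOpen T) : AlgSt.IsOpenImm (AlgSt.subIncl 𝒳 (QT T)) := by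
  intro U y
  refine ⟨⟨(yon S).obj (U' h𝒳 T hT y), IsAlgSpace.yon_obj _⟩,
    BasedFunctor.comp (toOverCat (U' h𝒳 T hT y)) (e₀ h𝒳 T hT y),
    isEquivOver_comp _ _ (AD.toOverCat_isEquivOver _) (e₀_isEquivOver h𝒳 T hT y), ?_⟩
  have e : BasedFunctor.comp (BasedFunctor.comp (toOverCat (U' h𝒳 T hT y)) (e₀ h𝒳 T hT y))
      (FibCat.fpFst y (AlgSt.subIncl 𝒳 (QT T))) =
      BasedFunctor.comp (toOverCat (U' h𝒳 T hT y)) (AlgSt.overMap (ι' h𝒳 T hT y)) :=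
    DR.basedFunctor_ext rfl
  rw [e, BRG.spMapOfOver_overMap, repWith_yon_map_iff]
  change IsOpenImmersion (UT h𝒳 T hT y).ι
  infer_instance

theorem isFibGrpd_fullSub_QT (hX : FibCat.IsFibGrpd 𝒳.p) (T : Set (AlgSt.Points 𝒳)) :
    FibCat.IsFibGrpd (AlgSt.fullSub 𝒳 (QT T)).p :=
  Groth.Agent.Lib.Helper62.StkFullSub.isFibGrpd_sub (Q := QT T) hX
    (fun y _ φ hx => ⟨y, Iso.refl y, QT_of_hom φ hx, by simp only [Iso.refl_hom]; infer_instance⟩)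

/-- **`QT T` is an open substack, for `T` open** -/
theorem isOpenSubstack_QT (h𝒳 : AlgSt.IsAlgStack Scheme.fppfPrecoverage 𝒳)
    (T : Set (AlgSt.Points 𝒳)) (hT : IsOpen T) :
    AlgSt.IsOpenSubstack 𝒳 (QT T) Scheme.fppfPrecoverage := by
  have hi := isOpenImm_subIncl_QT h𝒳 T hT
  refine ⟨QT_iso T, ?_, hi⟩
  refine Groth.Agent.S12768.result (isFibGrpd_fullSub_QT h𝒳.isStack.1 T) h𝒳
    (AlgSt.subIncl 𝒳 (QT T)) ?_
  intro U y
  obtain ⟨F, e, he, -⟩ := hi U y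
  exact ⟨F, e, he⟩

/-- a full, isomorphism-closed subcategory which is fibred in groupoids is closed under sources of
morphisms -/
theorem Q_of_hom (hX : FibCat.IsFibGrpd 𝒳.p) (Q : 𝒳.obj → Prop)
    (hiso : ObjectProperty.IsClosedUnderIsomorphisms Q)
    (hQf : FibCat.IsFibGrpd (AlgSt.fullSub 𝒳 Q).p) {z y : 𝒳.obj} (a : z ⟶ y) (hy : Q y) : Q z := by
  obtain ⟨z', φ, hφ⟩ := hQf.exists_lift (x := (⟨y, hy⟩ : (AlgSt.fullSub 𝒳 Q).obj)) (𝒳.p.map a)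
  have hφ' : 𝒳.p.IsHomLift (𝒳.p.map a) φ.hom :=
    IsHomLift.of_fac 𝒳.p (𝒳.p.map a) φ.hom (hl_dom (p := (AlgSt.fullSub 𝒳 Q).p) hφ)
      (hl_cod (p := (AlgSt.fullSub 𝒳 Q).p) hφ) (hl_fac (p := (AlgSt.fullSub 𝒳 Q).p) hφ)
  obtain ⟨θ, -, -, hθ⟩ := FG.exists_factor hX (𝒳.p.map a) φ.hom hφ' a inferInstance
  exact hiso.of_iso (asIso θ).symm z'.property

/-- an open substack is contained in the substack of its set of points -/
theorem QT_range_of_Q (hX : FibCat.IsFibGrpd 𝒳.p) (Q : 𝒳.obj → Prop)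
    (hiso : ObjectProperty.IsClosedUnderIsomorphisms Q)
    (hQf : FibCat.IsFibGrpd (AlgSt.fullSub 𝒳 Q).p) {y : 𝒳.obj} (hy : Q y) :
    QT (Set.range (AlgSt.Points.map (AlgSt.subIncl 𝒳 Q))) y := by
  intro p a
  rw [mem_range_subIncl_iff]
  exact ⟨p, Q_of_hom hX Q hiso hQf a hy, rfl⟩

end Groth.Agent.Lib.Helper10.OST
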