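import Groth.Agent.Lib.Helper10.OpenSubT2

/-!
# Cancellation of fully faithful functors; images of functors in `|𝒳|` (helper10)
-/

set_option autoImplicit false
set_option backward.isDefEq.respectTransparency false
set_option backward.isDefEq.respectTransparency.types false
universe u

namespace Groth.Agent.Lib.Helper10.OST

open CategoryTheory CategoryTheory.Limits AlgebraicGeometry Opposite AlgSp FibCat Stk AlgSt
open Groth.Agent.Lib.Helper17 Groth.Agent.Lib.Helper17.FP Groth.Agent.Lib.Helper17.EO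
  Groth.Agent.Lib.Helper17.PD Groth.Agent.Lib.Helper17.AT Groth.Agent.Lib.Helper17.AB
  Groth.Agent.Lib.Helper17.AOS Groth.Agent.Lib.Helper17.ACP Groth.Agent.Lib.Helper17.PTS
open Groth.Agent.Lib.Helper46 Groth.Agent.Lib.Helper46.LocPChart

variable {S : Scheme.{u}}

section Cancel

variable {𝒲 𝒳 𝒴 𝒵 : AlgSt.Cat S} (y : 𝒲 ⥤ᵇ 𝒴) (f : 𝒳 ⥤ᵇ 𝒴) (i : 𝒴 ⥤ᵇ 𝒵)

/-- the comparison `𝒲 ×_𝒴 𝒳 ⟶ 𝒲 ×_𝒵 𝒳` induced by `i : 𝒴 ⟶ 𝒵` -/
def KK : FibCat.fp y f ⥤ᵇ FibCat.fp (BasedFunctor.comp y i) (BasedFunctor.comp f i) :=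
  FibCat.fpLift (FibCat.fpFst y f) (FibCat.fpSnd y f)
    (BasedNatIso.mkNatIso
      (NatIso.ofComponents (fun z => i.toFunctor.mapIso z.obj.iso) (fun {z z'} k => by
        change i.map (y.map k.hom.fst) ≫ i.map z'.obj.iso.hom =
          i.map z.obj.iso.hom ≫ i.map (f.map k.hom.snd)
        rw [← i.toFunctor.map_comp, ← i.toFunctor.map_comp]
        exact congrArg i.toFunctor.map k.hom.w))
      (fun z => EO.map_lift'' i (iso_isHomLift z)))

theorem KK_fst : BasedFunctor.comp (KK y f i)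
    (FibCat.fpFst (BasedFunctor.comp y i) (BasedFunctor.comp f i)) = FibCat.fpFst y f :=
  DR.basedFunctor_ext rfl

theorem KK_isEquivOver [i.toFunctor.Full] [i.toFunctor.Faithful] :
    FibCat.IsEquivOver (KK y f i) := by
  rw [Groth.Agent.S5139.result]
  refine ⟨⟨⟨?_⟩, ⟨?_⟩⟩, ?_⟩
  · intro z z' m
    refine ⟨mkHom (z := z) (z' := z') m.hom.fst m.hom.snd ?_, ?_⟩
    · apply i.toFunctor.map_injective
      have hw := m.hom.w
      change i.map (y.map m.hom.fst) ≫ i.map z'.obj.iso.hom =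
        i.map z.obj.iso.hom ≫ i.map (f.map m.hom.snd) at hw
      rw [i.toFunctor.map_comp, i.toFunctor.map_comp]
      exact hw
    · apply hom_ext
      · rfl
      · rfl
  · intro z z' k k' h
    apply hom_ext
    · exact congrArg (fun m => m.hom.fst) h
    · exact congrArg (fun m => m.hom.snd) h
  · intro η
    obtain ⟨w, x, θ', hθ', rfl⟩ : ∃ (w : 𝒲.obj) (x : 𝒳.obj)
        (θ' : (BasedFunctor.comp y i).obj w ≅ (BasedFunctor.comp f i).obj x)
        (hθ' : 𝒵.p.IsHomLift (𝟙 (𝒲.p.obj w)) θ'.hom),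
        η = mkObj (F := BasedFunctor.comp y i) (G := BasedFunctor.comp f i) w x θ' hθ' :=
      ⟨η.obj.fst, η.obj.snd, η.obj.iso, iso_isHomLift η, rfl⟩
    let θ : y.obj w ≅ f.obj x := i.toFunctor.preimageIso θ'
    have hθ : 𝒴.p.IsHomLift (𝟙 (𝒲.p.obj w)) θ.hom := by
      rw [← BasedFunctor.isHomLift_iff i]
      change 𝒵.p.IsHomLift (𝟙 (𝒲.p.obj w)) (i.toFunctor.map (i.toFunctor.preimage θ'.hom))
      rw [Functor.map_preimage]
      exact hθ'
    refine ⟨mkObj (F := y) (G := f) w x θ hθ,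
      mkIso (z := (KK y f i).toFunctor.obj (mkObj (F := y) (G := f) w x θ hθ))
        (z' := mkObj (F := BasedFunctor.comp y i) (G := BasedFunctor.comp f i) w x θ' hθ')
        (Iso.refl w) (Iso.refl x) ?_, ?_⟩
    · change i.map (y.map (𝟙 w)) ≫ θ'.hom =
        i.toFunctor.map (i.toFunctor.preimage θ'.hom) ≫ i.map (f.map (𝟙 x))
      rw [Functor.map_preimage, y.toFunctor.map_id, f.toFunctor.map_id, i.toFunctor.map_id,
        i.toFunctor.map_id, Category.id_comp, Category.comp_id]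
    · rw [isHomLift_iff_fst]
      change 𝒲.p.IsHomLift (𝟙 (𝒲.p.obj w)) (𝟙 w)
      infer_instance

/-- **cancellation of a fully faithful functor**: if `f ≫ i` is representable by algebraic spaces
with `P` and `i` is fully faithful, then so is `f` -/
theorem repWith_of_comp_ff {𝒳 𝒴 𝒵 : AlgSt.Cat S} (P : MorphismProperty (AlgSp.Sp S))
    (f : 𝒳 ⥤ᵇ 𝒴) (i : 𝒴 ⥤ᵇ 𝒵) [i.toFunctor.Full] [i.toFunctor.Faithful]
    (h : AlgSt.RepByAlgSpWith P (BasedFunctor.comp f i)) : AlgSt.RepByAlgSpWith P f := by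
  intro U y
  exact transfer_inv P (KK y f i) (KK_isEquivOver y f i) (FibCat.fpFst y f) _ (KK_fst y f i)
    (h U (BasedFunctor.comp y i))

end Cancel

/-- objects in the image of a functor have all their points in the image on points -/
theorem QT_range_obj {𝒜 𝒳 : AlgSt.Cat S} (hA : FibCat.IsFibGrpd 𝒜.p) (hX : FibCat.IsFibGrpd 𝒳.p)
    (f : 𝒜 ⥤ᵇ 𝒳) (a : 𝒜.obj) : QT (Set.range (AlgSt.Points.map f)) (f.obj a) := by
  intro p m
  have hfa : 𝒳.p.obj (f.obj a) = 𝒜.p.obj a := f.w_obj a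
  let g : Over.mk p.str ⟶ 𝒜.p.obj a := eqToHom p.lies.symm ≫ 𝒳.p.map m ≫ eqToHom hfa
  have hm : 𝒳.p.IsHomLift g m := IsHomLift.of_fac 𝒳.p g m p.lies hfa rfl
  obtain ⟨a', φ, hφ⟩ := hA.exists_lift (x := a) g
  have hφ' : 𝒳.p.IsHomLift g (f.map φ) := EO.map_lift'' f hφ
  obtain ⟨θ, -, -, -⟩ := FG.exists_factor hX g (f.map φ) hφ' m hm
  let q : AlgSt.FPt 𝒜 := { K := p.K, str := p.str, obj := a', lies := hl_dom hφ }
  exact ⟨AlgSt.Points.mk q, (mk_eq_of_hom p (q.map f) θ).symm⟩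

/-- the inclusion of a full subcategory closed under sources of morphisms is injective on points -/
theorem map_subIncl_injective {𝒳 : AlgSt.Cat S} (hX : FibCat.IsFibGrpd 𝒳.p) (Q : 𝒳.obj → Prop)
    (hQ : ∀ {z y : 𝒳.obj} (_ : z ⟶ y), Q y → Q z) :
    Function.Injective (AlgSt.Points.map (AlgSt.subIncl 𝒳 Q)) := by
  intro ξ ξ' h
  obtain ⟨p, rfl⟩ := AlgSt.Points.mk_surjective ξ
  obtain ⟨p', rfl⟩ := AlgSt.Points.mk_surjective ξ'
  obtain ⟨r, α, β, -⟩ := (mk_eq_mk_iff hX _ _).mp h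
  have hr : Q r.obj := hQ α p.obj.property
  exact AlgSt.Points.sound ⟨subPt Q r hr, ObjectProperty.homMk α, ObjectProperty.homMk β, trivial⟩

end Groth.Agent.Lib.Helper10.OST
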