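import Groth.Agent.Lib.Helper10.IsoNatPts
import Groth.Agent.Lib.Helper10.OpenSubT3
import Groth.Agent.Lib.Helper17.SpQc
import Groth.Agent.Lib.Helper17.DiagComp
import Groth.Agent.Lib.Helper17.DiagMono
import Groth.Agent.Lib.Helper17.SelfRep
import Groth.Agent.Lib.Helper17.OpenSub

/-!
# Quasi-compact open substacks and quasi-compact morphisms (helper10)
-/

set_option autoImplicit false
set_option backward.isDefEq.respectTransparency false
set_option backward.isDefEq.respectTransparency.types false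
universe u

namespace Groth.Agent.Lib.Helper10.QCO

open CategoryTheory CategoryTheory.Limits AlgebraicGeometry Opposite AlgSp FibCat Stk AlgSt
open Groth.Agent.Lib.Helper17 Groth.Agent.Lib.Helper17.FP Groth.Agent.Lib.Helper17.EO
  Groth.Agent.Lib.Helper17.PD Groth.Agent.Lib.Helper17.AT Groth.Agent.Lib.Helper17.AB
  Groth.Agent.Lib.Helper17.AOS Groth.Agent.Lib.Helper17.ACP Groth.Agent.Lib.Helper17.PTS
open Groth.Agent.Lib.Helper10.OST

variable {S : Scheme.{u}}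

/-- **an equivalence is representable by algebraic spaces with every property containing the
identities of schemes** -/
theorem repWith_of_isEquivOver (P : MorphismProperty (AlgSp.Sp S))
    (hPid : ∀ U : Over S, P (𝟙 ((yon S).obj U))) {𝒜 ℬ : AlgSt.Cat S} (E : 𝒜 ⥤ᵇ ℬ)
    (hE : FibCat.IsEquivOver E) : AlgSt.RepByAlgSpWith P E := by
  intro U y
  have h2 : FibCat.IsEquivOver (FibCat.fpFst y E) := SR.fpFst_isEquivOver y E hE
  obtain ⟨k, ⟨u₁⟩, ⟨c₁⟩⟩ := id h2
  have hk : FibCat.IsEquivOver k := isEquivOver_symm _ k u₁ c₁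
  refine ⟨⟨(yon S).obj U, IsAlgSpace.yon_obj U⟩, BasedFunctor.comp (toOverCat U) k,
    isEquivOver_comp _ _ (AD.toOverCat_isEquivOver U) hk, ?_⟩
  have e1 : spMapOfOver (BasedFunctor.comp (BasedFunctor.comp (toOverCat U) k)
      (FibCat.fpFst y E)) =
      (yon S).map (Groth.Agent.S6443.fOf (BasedFunctor.comp k (FibCat.fpFst y E))) :=
    BRG.spMapOfOver_toOverCat (BasedFunctor.comp k (FibCat.fpFst y E))
  have e2 : Groth.Agent.S6443.fOf (BasedFunctor.comp k (FibCat.fpFst y E)) = 𝟙 U :=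
    (Groth.Agent.S6443.fOf_congr c₁).trans Groth.Agent.S6443.fOf_id
  rw [e1, e2, (yon S).map_id]
  exact hPid U

/-- **the diagonal of a fully faithful functor is an equivalence** -/
theorem diag_isEquivOver_of_ff {𝒜 ℬ : AlgSt.Cat S} (j : 𝒜 ⥤ᵇ ℬ) [j.toFunctor.Full]
    [hfaith : j.toFunctor.Faithful] : FibCat.IsEquivOver (FibCat.diag j) := by
  rw [Groth.Agent.S5139.result]
  refine ⟨⟨DM.diag_full j hfaith, ⟨?_⟩⟩, ?_⟩
  · intro a b φ ψ h
    have h1 : ((FibCat.diag j).toFunctor.map φ).hom.fst = ((FibCat.diag j).toFunctor.map ψ).hom.fst := by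
      rw [h]
    exact h1
  · intro z
    let α : z.obj.fst ≅ z.obj.snd := j.toFunctor.preimageIso z.obj.iso
    refine ⟨z.obj.fst, mkIso (z := (FibCat.diag j).obj z.obj.fst) (z' := z) (Iso.refl _) α ?_, ?_⟩
    · change j.map (𝟙 _) ≫ z.obj.iso.hom = 𝟙 _ ≫ j.map (j.toFunctor.preimageIso z.obj.iso).hom
      rw [j.map_id, Category.id_comp, Category.id_comp, Functor.preimageIso_hom]
      exact (j.toFunctor.map_preimage _).symm
    · rw [isHomLift_iff_fst]
      exact IsHomLift.id rfl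

theorem qc_id (X : Sp S) : IsQuasiCompactMor (𝟙 X) := by
  intro Z Z' hZ hZq g fst snd sq
  have hsnd : IsIso snd := sq.isIso_snd_of_isIso
  exact SQC.isQuasiCompactSp_of_iso (asIso snd).symm (hZ.of_iso (asIso snd).symm) hZq

theorem qc_cp : ACP.CP (IsQuasiCompactMor (S := S)) :=
  fun _ _ _ _ hY hZ a b ha hb =>
    Groth.Agent.Lib.Helper23.AlgSpMor.isQuasiCompactMor_comp hY hZ.diag a b ha hb

theorem qc_schLocal : ACov.SchLocal (IsQuasiCompactMor (S := S)) :=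
  ACov.schLocal_of_isLocalOnBase _ DDC.qc_local

/-- **a full subcategory of a category with quasi-compact diagonal has quasi-compact diagonal** -/
theorem repWith_qc_diag_fullSub {𝒳 : AlgSt.Cat S}
    (Q : 𝒳.obj → Prop) (hQf : FibCat.IsFibGrpd (AlgSt.fullSub 𝒳 Q).p)
    (hΔ : AlgSt.RepByAlgSpWith AlgSp.IsQuasiCompactMor (FibCat.diag (FibCat.toSelf 𝒳))) :
    AlgSt.RepByAlgSpWith AlgSp.IsQuasiCompactMor
      (FibCat.diag (FibCat.toSelf (AlgSt.fullSub 𝒳 Q))) := by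
  have h1 : AlgSt.RepByAlgSpWith AlgSp.IsQuasiCompactMor (FibCat.diag (AlgSt.subIncl 𝒳 Q)) :=
    repWith_of_isEquivOver _ (fun U => qc_id _) _ (diag_isEquivOver_of_ff (AlgSt.subIncl 𝒳 Q))
  have h2 := DC.repWith_diag_comp hQf SP.isFibGrpd_selfOver _ DDC.qc_bc qc_cp qc_schLocal
    (AlgSt.subIncl 𝒳 Q) (FibCat.toSelf 𝒳) h1 hΔ
  have e : BasedFunctor.comp (AlgSt.subIncl 𝒳 Q) (FibCat.toSelf 𝒳) =
      FibCat.toSelf (AlgSt.fullSub 𝒳 Q) := SST.toSelfOver_eq _ _
  rw [e] at h2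
  exact h2

/-- **a quasi-compact subset of the space of points of an algebraic stack lies in a quasi-compact
open subset** -/
theorem exists_qc_open_superset {𝒴 : AlgSt.Cat S}
    (h𝒴 : AlgSt.IsAlgStack Scheme.fppfPrecoverage 𝒴) (K : Set (AlgSt.Points 𝒴))
    (hK : IsCompact K) : ∃ T' : Set (AlgSt.Points 𝒴), IsOpen T' ∧ IsCompact T' ∧ K ⊆ T' := by
  have hY := h𝒴.isStack.1
  obtain ⟨U₀, x₀, hxs, hxsurj⟩ := h𝒴.atlas
  have hsj := ofChart_surjective x₀ (isSurjective_of_repWith hY x₀ hxsurj)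
  have hopen := isOpenMap_ofChart hY h𝒴.diag x₀ (flat_of_smooth _ hxs) (lfp_of_smooth _ hxs)
  have hcont := continuous_ofChart h𝒴 x₀
  choose O hOaff hOmem _ using fun v : ↥U₀.left =>
    exists_isAffineOpen_mem_and_subset (x := v) (U := ⊤) trivial
  obtain ⟨t, ht⟩ := hK.elim_finite_subcover
    (fun v : ↥U₀.left => AlgSt.Points.ofChart x₀ '' (O v : Set ↥U₀.left))
    (fun v => hopen _ (O v).2)
    (fun η _ => by
      obtain ⟨v, rfl⟩ := hsj η
      exact Set.mem_iUnion.mpr ⟨v, v, hOmem v, rfl⟩)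
  refine ⟨⋃ v ∈ t, AlgSt.Points.ofChart x₀ '' (O v : Set ↥U₀.left), ?_, ?_, ht⟩
  · exact isOpen_biUnion fun v _ => hopen _ (O v).2
  · exact t.isCompact_biUnion fun v _ => (hOaff v).isCompact.image hcont

/-- **the open substack of a quasi-compact open subset of the space of points is
quasi-compact** -/
theorem isQuasiCompact_fullSub_QT {𝒴 : AlgSt.Cat S}
    (h𝒴 : AlgSt.IsAlgStack Scheme.fppfPrecoverage 𝒴) (T : Set (AlgSt.Points 𝒴))
    (hT : IsOpen T) (hTc : IsCompact T) : AlgSt.IsQuasiCompact (AlgSt.fullSub 𝒴 (QT T)) := by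
  have hOS := isOpenSubstack_QT h𝒴 T hT
  rw [isQuasiCompact_iff_compactSpace hOS.2.1]
  have hinj : Function.Injective (AlgSt.Points.map (AlgSt.subIncl 𝒴 (QT T))) :=
    map_subIncl_injective h𝒴.isStack.1 (QT T) (fun φ h => QT_of_hom φ h)
  have hcont := continuous_map (𝒳 := AlgSt.fullSub 𝒴 (QT T)) h𝒴 (AlgSt.subIncl 𝒴 (QT T))
  have hopen := isOpenMap_map_of_isOpenImm hOS.2.1 h𝒴 _ hOS.2.2
  have hemb : Topology.IsOpenEmbedding (AlgSt.Points.map (AlgSt.subIncl 𝒴 (QT T))) :=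
    Topology.IsOpenEmbedding.of_continuous_injective_isOpenMap hcont hinj hopen
  rw [← isCompact_univ_iff, hemb.isEmbedding.isCompact_iff, Set.image_univ, range_QT]
  exact hTc

/-- **quasi-compactness of a morphism can be tested on the quasi-compact open substacks of the
target** (over a quasi-separated base, target with quasi-compact diagonal) -/
theorem isQuasiCompactMor_of_forall_QT [QuasiSeparatedSpace ↥S] {𝒳 𝒴 : AlgSt.Cat S}
    (h𝒳 : FibCat.IsFibGrpd 𝒳.p) (h𝒴 : AlgSt.IsAlgStack Scheme.fppfPrecoverage 𝒴)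
    (hΔ : AlgSt.RepByAlgSpWith AlgSp.IsQuasiCompactMor (FibCat.diag (FibCat.toSelf 𝒴)))
    (f : 𝒳 ⥤ᵇ 𝒴)
    (H : ∀ T : Set (AlgSt.Points 𝒴), IsOpen T → IsCompact T →
      AlgSt.IsQuasiCompact (FibCat.fp (AlgSt.subIncl 𝒴 (QT T)) f)) :
    AlgSt.IsQuasiCompactMor Scheme.fppfPrecoverage f := by
  intro 𝒵 h𝒵 hq g
  have hZ := h𝒵.isStack.1
  have hY := h𝒴.isStack.1
  have hc : CompactSpace (AlgSt.Points 𝒵) := (isQuasiCompact_iff_compactSpace h𝒵).mp hq
  have hK : IsCompact (Set.range (AlgSt.Points.map g)) := isCompact_range (continuous_map h𝒴 g)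
  obtain ⟨T, hTo, hTc, hKT⟩ := exists_qc_open_superset h𝒴 _ hK
  have hOS := isOpenSubstack_QT h𝒴 T hTo
  have hW := H T hTo hTc
  have hg : ∀ z, QT T (g.obj z) := fun z => QT_mono hKT (QT_range_obj hZ hY g z)
  have he : BasedFunctor.comp (liftSub (QT T) g hg) (AlgSt.subIncl 𝒴 (QT T)) = g :=
    liftSub_comp _ _ _
  have hY' : FibCat.IsFibGrpd (AlgSt.fullSub 𝒴 (QT T)).p := hOS.2.1.isStack.1
  have hWf : FibCat.IsFibGrpd (FibCat.fp (AlgSt.subIncl 𝒴 (QT T)) f).p :=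
    SP.isFibGrpd_fp _ f hY' h𝒳 hY
  have hΔ' := repWith_qc_diag_fullSub (QT T) hY' hΔ
  have hB : AlgSt.IsQuasiCompact (FibCat.fp
      (BasedFunctor.comp (liftSub (QT T) g hg) (FibCat.toSelf (AlgSt.fullSub 𝒴 (QT T))))
      (BasedFunctor.comp (FibCat.fpFst (AlgSt.subIncl 𝒴 (QT T)) f)
        (FibCat.toSelf (AlgSt.fullSub 𝒴 (QT T))))) :=
    QC4.isQuasiCompact_prod' hZ hWf hq hW _ _
  have h1 : AlgSt.IsQuasiCompact
      (FibCat.fp (liftSub (QT T) g hg) (FibCat.fpFst (AlgSt.subIncl 𝒴 (QT T)) f)) :=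
    QC3.isQuasiCompact_fp_of_diag hZ hWf hY' SP.isFibGrpd_selfOver
      (FibCat.fpFst (AlgSt.subIncl 𝒴 (QT T)) f) (FibCat.toSelf _) (liftSub (QT T) g hg) hΔ' hB
  have h2 : AlgSt.IsQuasiCompact
      (FibCat.fp (BasedFunctor.comp (liftSub (QT T) g hg) (AlgSt.subIncl 𝒴 (QT T))) f) :=
    QC3.isQuasiCompact_of_equiv' (PS.paste _ _ f) (PS.paste_isEquivOver _ _ f) h1
  rw [he] at h2
  exact h2

end Groth.Agent.Lib.Helper10.QCO
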