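import Groth.Agent.Lib.Helper10.QcOpen
import Groth.Agent.Lib.Helper17.AlgStFp
import Groth.Agent.Lib.Helper17.PointsQc2
import Groth.Agent.Lib.Helper17.QcCover

/-!
# Quasi-compact morphisms via preimages of quasi-compact opens (helper10)
-/

set_option autoImplicit false
set_option backward.isDefEq.respectTransparency false
set_option backward.isDefEq.respectTransparency.types false
universe u

namespace Groth.Agent.Lib.Helper10.QCO

open CategoryTheory CategoryTheory.Limits AlgebraicGeometry Opposite AlgSp FibCat Stk AlgSt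
open Groth.Agent.Lib.Helper17 Groth.Agent.Lib.Helper17.FP Groth.Agent.Lib.Helper17.EO
  Groth.Agent.Lib.Helper17.PD Groth.Agent.Lib.Helper17.AT Groth.Agent.Lib.Helper17.AB
  Groth.Agent.Lib.Helper17.AOS Groth.Agent.Lib.Helper17.ACP Groth.Agent.Lib.Helper17.PTS
open Groth.Agent.Lib.Helper10.OST

variable {S : Scheme.{u}}

/-- objects all of whose points lie in the preimage of `T` map to objects all of whose points
lie in `T` -/
theorem QT_map {𝒳 𝒴 : AlgSt.Cat S} (hX : FibCat.IsFibGrpd 𝒳.p) (hY : FibCat.IsFibGrpd 𝒴.p)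
    (f : 𝒳 ⥤ᵇ 𝒴) (T : Set (AlgSt.Points 𝒴)) (x : 𝒳.obj)
    (hx : QT (AlgSt.Points.map f ⁻¹' T) x) : QT T (f.obj x) := by
  intro p m
  have hfa : 𝒴.p.obj (f.obj x) = 𝒳.p.obj x := f.w_obj x
  let g : Over.mk p.str ⟶ 𝒳.p.obj x := eqToHom p.lies.symm ≫ 𝒴.p.map m ≫ eqToHom hfa
  have hm : 𝒴.p.IsHomLift g m := IsHomLift.of_fac 𝒴.p g m p.lies hfa rfl
  obtain ⟨a', φ, hφ⟩ := hX.exists_lift (x := x) g
  have hφ' : 𝒴.p.IsHomLift g (f.map φ) := EO.map_lift'' f hφ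
  obtain ⟨θ, -, -, -⟩ := FG.exists_factor hY g (f.map φ) hφ' m hm
  let q : AlgSt.FPt 𝒳 := { K := p.K, str := p.str, obj := a', lies := hl_dom hφ }
  have h1 : AlgSt.Points.mk q ∈ AlgSt.Points.map f ⁻¹' T := hx q φ
  have h2 : AlgSt.Points.mk p = AlgSt.Points.mk (q.map f) := mk_eq_of_hom p (q.map f) θ
  rw [h2]
  exact h1

/-- the image on points of the projection from the base change to an open substack -/
theorem range_fpSnd_QT {𝒳 𝒴 : AlgSt.Cat S} (hX : FibCat.IsFibGrpd 𝒳.p)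
    (hY : FibCat.IsFibGrpd 𝒴.p) (f : 𝒳 ⥤ᵇ 𝒴) (T : Set (AlgSt.Points 𝒴))
    (hT : FibCat.IsFibGrpd (AlgSt.fullSub 𝒴 (QT T)).p) :
    Set.range (AlgSt.Points.map (FibCat.fpSnd (AlgSt.subIncl 𝒴 (QT T)) f)) =
      AlgSt.Points.map f ⁻¹' T := by
  ext ξ
  constructor
  · rintro ⟨ω, rfl⟩
    change AlgSt.Points.map f (AlgSt.Points.map (FibCat.fpSnd (AlgSt.subIncl 𝒴 (QT T)) f) ω) ∈ T
    rw [← map_comp, ← map_congr (FibCat.fpIso (AlgSt.subIncl 𝒴 (QT T)) f), map_comp]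
    have h0 : AlgSt.Points.map (AlgSt.subIncl 𝒴 (QT T))
        (AlgSt.Points.map (FibCat.fpFst (AlgSt.subIncl 𝒴 (QT T)) f) ω) ∈
        Set.range (AlgSt.Points.map (AlgSt.subIncl 𝒴 (QT T))) := ⟨_, rfl⟩
    rw [range_QT] at h0
    exact h0
  · intro hξ
    have hξ' : AlgSt.Points.map f ξ ∈ Set.range (AlgSt.Points.map (AlgSt.subIncl 𝒴 (QT T))) := by
      rw [range_QT]
      exact hξ
    obtain ⟨ζ, hζ⟩ := hξ'
    obtain ⟨ω, -, hω⟩ := exists_point_fp hX hY hT f (AlgSt.subIncl 𝒴 (QT T)) ζ ξ hζ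
    exact ⟨ω, hω⟩

/-- the comparison functor from the open substack of the preimage to the base change -/
def preimComp {𝒳 𝒴 : AlgSt.Cat S} (hX : FibCat.IsFibGrpd 𝒳.p) (hY : FibCat.IsFibGrpd 𝒴.p)
    (f : 𝒳 ⥤ᵇ 𝒴) (T : Set (AlgSt.Points 𝒴)) :
    AlgSt.fullSub 𝒳 (QT (AlgSt.Points.map f ⁻¹' T)) ⥤ᵇ
      FibCat.fp (AlgSt.subIncl 𝒴 (QT T)) f :=
  FibCat.fpLift
    (liftSub (QT T) (BasedFunctor.comp (AlgSt.subIncl 𝒳 (QT (AlgSt.Points.map f ⁻¹' T))) f)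
      (fun z => QT_map hX hY f T z.obj z.property))
    (AlgSt.subIncl 𝒳 (QT (AlgSt.Points.map f ⁻¹' T)))
    (Iso.refl _)

theorem preimComp_surjective {𝒳 𝒴 : AlgSt.Cat S} (hX : FibCat.IsFibGrpd 𝒳.p)
    (hY : FibCat.IsFibGrpd 𝒴.p) (f : 𝒳 ⥤ᵇ 𝒴) (T : Set (AlgSt.Points 𝒴)) :
    AlgSt.IsSurjective (preimComp hX hY f T) := by
  intro ω
  obtain ⟨q, rfl⟩ := AlgSt.Points.mk_surjective ω
  have hx : QT (AlgSt.Points.map f ⁻¹' T) q.obj.obj.snd := by
    intro p' m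
    exact q.obj.obj.fst.property (p'.map f) (f.map m ≫ q.obj.obj.iso.inv)
  let r : AlgSt.FPt (AlgSt.fullSub 𝒳 (QT (AlgSt.Points.map f ⁻¹' T))) :=
    subPt _ (q.map (FibCat.fpSnd (AlgSt.subIncl 𝒴 (QT T)) f)) hx
  refine ⟨AlgSt.Points.mk r, ?_⟩
  change AlgSt.Points.mk (r.map (preimComp hX hY f T)) = AlgSt.Points.mk q
  refine (mk_eq_of_hom q (r.map (preimComp hX hY f T)) ?_).symm
  refine mkHom (z := q.obj) (z' := (preimComp hX hY f T).obj r.obj)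
    (ObjectProperty.homMk q.obj.obj.iso.hom) (𝟙 _) ?_
  have h1 : ((preimComp hX hY f T).obj r.obj).obj.iso.hom = 𝟙 (f.obj q.obj.obj.snd) := rfl
  rw [h1, f.toFunctor.map_id, Category.comp_id]
  exact Category.comp_id _

/-- **the base change of `f` to the open substack of a open set `T` of points is quasi-compact
exactly when the preimage of `T` on points is quasi-compact** -/
theorem isQuasiCompact_fp_QT_iff {𝒳 𝒴 : AlgSt.Cat S}
    (h𝒳 : AlgSt.IsAlgStack Scheme.fppfPrecoverage 𝒳)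
    (h𝒴 : AlgSt.IsAlgStack Scheme.fppfPrecoverage 𝒴) (f : 𝒳 ⥤ᵇ 𝒴)
    (T : Set (AlgSt.Points 𝒴)) (hT : IsOpen T) :
    AlgSt.IsQuasiCompact (FibCat.fp (AlgSt.subIncl 𝒴 (QT T)) f) ↔
      IsCompact (AlgSt.Points.map f ⁻¹' T) := by
  have hX := h𝒳.isStack.1
  have hY := h𝒴.isStack.1
  have hOS := isOpenSubstack_QT h𝒴 T hT
  have hT' : FibCat.IsFibGrpd (AlgSt.fullSub 𝒴 (QT T)).p := hOS.2.1.isStack.1
  have hfp : AlgSt.IsAlgStack Scheme.fppfPrecoverage (FibCat.fp (AlgSt.subIncl 𝒴 (QT T)) f) :=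
    AFP.isAlgStack_fp h𝒴.isStack h𝒴.diag hOS.2.1 h𝒳 _ f
  constructor
  · intro hq
    have hc : CompactSpace (AlgSt.Points (FibCat.fp (AlgSt.subIncl 𝒴 (QT T)) f)) :=
      (isQuasiCompact_iff_compactSpace hfp).mp hq
    rw [← range_fpSnd_QT hX hY f T hT']
    exact isCompact_range (continuous_map h𝒳 _)
  · intro hc
    have hAo : IsOpen (AlgSt.Points.map f ⁻¹' T) := (continuous_map h𝒴 f).isOpen_preimage T hT
    have hq := isQuasiCompact_fullSub_QT h𝒳 _ hAo hc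
    have hOS' := isOpenSubstack_QT h𝒳 _ hAo
    exact isQuasiCompact_of_isSurjective hOS'.2.1.isStack.1 hfp (preimComp hX hY f T)
      (preimComp_surjective hX hY f T) hq

end Groth.Agent.Lib.Helper10.QCO
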