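import Mathlib
import Groth.Prelude.Def_DRing3

/-!
# Vanishing of `RΓ_I` on complexes on which some `f ∈ I` acts bijectively (helper10)

Abstract argument: `E₀ K = fibre of K → K_f` descends to an endofunctor `E'` of `D(A)` with a map
`γ' : E' ⟶ 𝟭`; since `Γ_I(E₀ K) ≅ Γ_I(K)` termwise, the universal property of the total right derived
functor makes `RΓ_I(X)` a retract of `RΓ_I(E' X)`, and `E' X = 0` when `f` is bijective on `X`.
-/

set_option autoImplicit false
universe u
open CategoryTheory CategoryTheory.Limits CochainComplex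
attribute [local instance] HasDerivedCategory.standard

namespace Groth.Agent.Lib.Helper10.RGammaLoc

variable {A : Type u} [CommRing A]

/-- localization functor on ModuleCat A -/
noncomputable def loc (S : Submonoid A) : ModuleCat.{u} A ⥤ ModuleCat.{u} A where
  obj M := ModuleCat.of A (LocalizedModule S M)
  map {M N} g := ModuleCat.ofHom
    (IsLocalizedModule.map S (LocalizedModule.mkLinearMap S M) (LocalizedModule.mkLinearMap S N) g.hom)
  map_id M := by
    ext : 1
    simp
  map_comp {X Y Z} g h := by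
    ext : 1
    simp [IsLocalizedModule.map_comp' S _ (LocalizedModule.mkLinearMap S Y)]

instance (S : Submonoid A) : (loc S).Additive where
  map_add := by
    intro M N g h
    ext : 1
    simp [loc]
    rfl

noncomputable def η (S : Submonoid A) : 𝟭 (ModuleCat.{u} A) ⟶ loc S where
  app M := ModuleCat.ofHom (LocalizedModule.mkLinearMap S M)
  naturality M N g := by
    ext x
    simp only [loc, Functor.id_obj, Functor.id_map, ModuleCat.hom_comp, ModuleCat.hom_ofHom,
      LinearMap.comp_apply]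
    exact (IsLocalizedModule.map_apply S (LocalizedModule.mkLinearMap S M)
      (LocalizedModule.mkLinearMap S N) g.hom x).symm

lemma loc_map_exact (S : Submonoid A) (T : ShortComplex (ModuleCat.{u} A)) (h : T.Exact) :
    (T.map (loc S)).Exact := by
  rw [CategoryTheory.ShortComplex.ShortExact.moduleCat_exact_iff_function_exact] at h ⊢
  exact IsLocalizedModule.map_exact S (LocalizedModule.mkLinearMap S T.X₁)
    (LocalizedModule.mkLinearMap S T.X₂) (LocalizedModule.mkLinearMap S T.X₃) _ _ h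

instance (S : Submonoid A) : (loc S).PreservesHomology :=
  ((Functor.exact_tfae (loc S)).out 1 2).mp (loc_map_exact S)

/-- `Γ_I` kills localizations at `f ∈ I`. -/
lemma isZero_gammaI_loc (I : Ideal A) (f : A) (hf : f ∈ I) (M : ModuleCat.{u} A) :
    IsZero ((DRing.gammaI I).obj ((loc (Submonoid.powers f)).obj M)) := by
  haveI : Subsingleton (DRing.torsionSub I (LocalizedModule (Submonoid.powers f) M)) := by
    constructor
    rintro ⟨x, n, hn⟩ ⟨y, n', hn'⟩
    have key : ∀ (z : LocalizedModule (Submonoid.powers f) M) (k : ℕ),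
        (∀ a ∈ I ^ k, a • z = 0) → z = 0 := by
      intro z k hz
      have h1 : (f ^ k) • z = 0 := hz _ (Ideal.pow_mem_pow hf k)
      have h2 := IsLocalizedModule.smul_injective
        (LocalizedModule.mkLinearMap (Submonoid.powers f) M)
        (⟨f ^ k, k, rfl⟩ : Submonoid.powers f)
      apply h2
      change (f ^ k) • z = (f ^ k) • (0 : LocalizedModule (Submonoid.powers f) M)
      rw [h1, smul_zero]
    apply Subtype.ext
    change x = y
    rw [key x n hn, key y n' hn']
  exact @ModuleCat.isZero_of_subsingleton _ _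
    (ModuleCat.of A (DRing.torsionSub I (LocalizedModule (Submonoid.powers f) M))) this

/-- If all elements of `S` act bijectively on `M`, then `M → S⁻¹M` is an isomorphism. -/
lemma isIso_η_app (S : Submonoid A) (M : ModuleCat.{u} A)
    (hM : ∀ s ∈ S, Function.Bijective (fun x : M => s • x)) : IsIso ((η S).app M) := by
  rw [ConcreteCategory.isIso_iff_bijective]
  constructor
  · intro x y hxy
    change LocalizedModule.mkLinearMap S M x = LocalizedModule.mkLinearMap S M y at hxy
    rw [LocalizedModule.mkLinearMap_apply, LocalizedModule.mkLinearMap_apply,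
      LocalizedModule.mk_eq] at hxy
    obtain ⟨u, hu⟩ := hxy
    simp only [one_smul] at hu
    exact (hM u u.2).1 hu
  · intro z
    induction z using LocalizedModule.induction_on with
    | h m s =>
      obtain ⟨m', hm'⟩ := (hM s s.2).2 m
      refine ⟨m', ?_⟩
      change LocalizedModule.mkLinearMap S M m' = _
      rw [LocalizedModule.mkLinearMap_apply, LocalizedModule.mk_eq]
      refine ⟨1, ?_⟩
      simp only [one_smul]
      exact hm'

lemma bijective_powers (f : A) (M : Type u) [AddCommGroup M] [Module A M]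
    (h : Function.Bijective (fun x : M => f • x)) :
    ∀ s ∈ Submonoid.powers f, Function.Bijective (fun x : M => s • x) := by
  rintro _ ⟨n, rfl⟩
  induction n with
  | zero =>
    have : (fun x : M => f ^ 0 • x) = id := by funext x; simp
    rw [this]; exact Function.bijective_id
  | succ n ih =>
    have : (fun x : M => f ^ (n + 1) • x) = (fun x : M => f ^ n • x) ∘ (fun x : M => f • x) := by
      funext x
      simp [pow_succ, mul_smul]
    rw [this]
    exact ih.comp h


variable {A : Type u} [CommRing A] (S : Submonoid A)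

/-- termwise localization of complexes -/
noncomputable abbrev locC : CochainComplex (ModuleCat.{u} A) ℤ ⥤ CochainComplex (ModuleCat.{u} A) ℤ :=
  (loc S).mapHomologicalComplex (ComplexShape.up ℤ)

/-- the localization map of complexes -/
noncomputable def ηc (K : CochainComplex (ModuleCat.{u} A) ℤ) : K ⟶ (locC S).obj K where
  f i := (η S).app (K.X i)
  comm' i j _ := ((η S).naturality (K.d i j)).symm

@[reassoc]
lemma ηc_naturality {K K' : CochainComplex (ModuleCat.{u} A) ℤ} (a : K ⟶ K') :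
    ηc S K ≫ (locC S).map a = a ≫ ηc S K' := by
  ext i : 1
  exact ((η S).naturality (a.f i)).symm

/-- the fibre of `K → S⁻¹K` -/
noncomputable def E₀ : CochainComplex (ModuleCat.{u} A) ℤ ⥤ CochainComplex (ModuleCat.{u} A) ℤ where
  obj K := mappingCocone (ηc S K)
  map {K K'} a := (mappingCone.map (ηc S K) (ηc S K') a ((locC S).map a) (ηc_naturality S a))⟦(-1 : ℤ)⟧'
  map_id K := by
    have : ∀ (b : (locC S).obj K ⟶ (locC S).obj K) (hb : b = 𝟙 _) (comm : ηc S K ≫ b = 𝟙 K ≫ ηc S K),
        mappingCone.map (ηc S K) (ηc S K) (𝟙 K) b comm = 𝟙 _ := by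
      rintro _ rfl _
      exact mappingCone.map_id _
    rw [this _ ((locC S).map_id K)]
    exact (CategoryTheory.shiftFunctor _ (-1 : ℤ)).map_id _
  map_comp {K K' K''} a b := by
    have : ∀ (c : (locC S).obj K ⟶ (locC S).obj K'') (hc : c = (locC S).map a ≫ (locC S).map b)
        (comm : ηc S K ≫ c = (a ≫ b) ≫ ηc S K''),
        mappingCone.map (ηc S K) (ηc S K'') (a ≫ b) c comm =
          mappingCone.map (ηc S K) (ηc S K') a ((locC S).map a) (ηc_naturality S a) ≫
          mappingCone.map (ηc S K') (ηc S K'') b ((locC S).map b) (ηc_naturality S b) := by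
      rintro _ rfl _
      exact mappingCone.map_comp _ _ _ _ _ _ _ _ _
    rw [this _ ((locC S).map_comp a b)]
    exact (CategoryTheory.shiftFunctor _ (-1 : ℤ)).map_comp _ _

open HomComplex in
lemma map_fst_v {K₁ L₁ K₂ L₂ : CochainComplex (ModuleCat.{u} A) ℤ} (φ₁ : K₁ ⟶ L₁) (φ₂ : K₂ ⟶ L₂)
    (a : K₁ ⟶ K₂) (b : L₁ ⟶ L₂) (comm : φ₁ ≫ b = a ≫ φ₂) (p q : ℤ) (hpq : p + 1 = q) :
    (mappingCone.map φ₁ φ₂ a b comm).f p ≫ (mappingCone.fst φ₂).1.v p q hpq =
      (mappingCone.fst φ₁).1.v p q hpq ≫ a.f q := by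
  subst hpq
  simp [mappingCone.map, mappingCone.ext_from_iff _ (p + 1) p rfl]

open HomComplex in
lemma shift_map_fst {K₁ L₁ K₂ L₂ : CochainComplex (ModuleCat.{u} A) ℤ} (φ₁ : K₁ ⟶ L₁) (φ₂ : K₂ ⟶ L₂)
    (a : K₁ ⟶ K₂) (b : L₁ ⟶ L₂) (comm : φ₁ ≫ b = a ≫ φ₂) :
    ((mappingCone.map φ₁ φ₂ a b comm)⟦(-1 : ℤ)⟧' : mappingCocone φ₁ ⟶ mappingCocone φ₂) ≫
      mappingCocone.fst φ₂ = mappingCocone.fst φ₁ ≫ a := by
  ext p : 1
  simp [mappingCocone.fst, Cochain.leftShift_v (n := 1) _ _ _ _ p p _ (p + -1) (by lia)]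
  erw [Category.id_comp, Category.id_comp]
  have key := map_fst_v φ₁ φ₂ a b comm (p + -1) p (by lia)
  change -((mappingCone.map φ₁ φ₂ a b comm).f (p + -1) ≫
      (-(mappingCone.fst φ₂).1.v (p + -1) p (by lia))) =
    (- -(mappingCone.fst φ₁).1.v (p + -1) p (by lia)) ≫ a.f p
  rw [Preadditive.comp_neg, neg_neg, neg_neg, key]

/-- the natural map `E₀ K → K` -/
noncomputable def γ₀ : E₀ S ⟶ 𝟭 _ where
  app K := mappingCocone.fst (ηc S K)
  naturality K K' a := shift_map_fst _ _ _ _ _

lemma quasiIso_E₀_map {K K' : CochainComplex (ModuleCat.{u} A) ℤ} (a : K ⟶ K') [QuasiIso a] :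
    QuasiIso ((E₀ S).map a) := by
  haveI : QuasiIso ((locC S).map a) := inferInstance
  have h1 : IsIso (DerivedCategory.Q.map (mappingCone.map (ηc S K) (ηc S K') a ((locC S).map a)
      (ηc_naturality S a))) := by
    let φ := DerivedCategory.Q.mapTriangle.map
      (mappingCone.triangleMap (ηc S K) (ηc S K') a ((locC S).map a) (ηc_naturality S a))
    exact Pretriangulated.isIso₃_of_isIso₁₂ φ
      (DerivedCategory.mappingCone_triangle_distinguished _)
      (DerivedCategory.mappingCone_triangle_distinguished _)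
      (by change IsIso (DerivedCategory.Q.map a); infer_instance)
      (by change IsIso (DerivedCategory.Q.map ((locC S).map a)); infer_instance)
  rw [DerivedCategory.isIso_Q_map_iff_quasiIso] at h1
  exact (CochainComplex.quasiIso_shift_iff _ (-1 : ℤ)).mpr h1

/-- `Q(E₀ K)` is zero when `K → S⁻¹K` is an isomorphism -/
lemma isZero_Q_E₀ (K : CochainComplex (ModuleCat.{u} A) ℤ) [IsIso (ηc S K)] :
    IsZero (DerivedCategory.Q.obj ((E₀ S).obj K)) := by
  have hT := DerivedCategory.mappingCocone_triangle_distinguished (ηc S K)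
  refine (Pretriangulated.Triangle.isZero₁_iff_isIso₂ _ hT).mpr ?_
  change IsIso (DerivedCategory.Q.map (ηc S K))
  infer_instance

lemma isIso_ηc (K : CochainComplex (ModuleCat.{u} A) ℤ)
    (hK : ∀ n : ℤ, ∀ s ∈ S, Function.Bijective (fun x : K.X n => s • x)) : IsIso (ηc S K) := by
  haveI : ∀ n, IsIso ((ηc S K).f n) := fun n => isIso_η_app S (K.X n) (hK n)
  exact HomologicalComplex.Hom.isIso_of_components _

open HomComplex in
lemma isIso_map_fst_f {K L : CochainComplex (ModuleCat.{u} A) ℤ} (φ : K ⟶ L)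
    (G : ModuleCat.{u} A ⥤ ModuleCat.{u} A) [G.Additive] (hG : ∀ q, IsZero (G.obj (L.X q))) (n : ℤ) :
    IsIso (G.map ((mappingCocone.fst φ).f n)) := by
  refine ⟨G.map ((mappingCocone.inl φ).v n n (add_zero n)), ?_, ?_⟩
  · have h := mappingCocone.id_X φ n (n + -1) rfl
    have h2 : G.map ((mappingCocone.snd φ).v n (n + -1) rfl) = 0 := (hG _).eq_of_tgt _ _
    rw [← G.map_comp, ← G.map_id, ← h, G.map_add, G.map_comp, G.map_comp, h2, zero_comp, add_zero]
  · rw [← G.map_comp, mappingCocone.inl_v_fst_f, G.map_id]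

/-- An additive functor killing the terms of `L` turns `fst : mappingCocone φ ⟶ K` into a
termwise isomorphism. -/
lemma isIso_map_fst {K L : CochainComplex (ModuleCat.{u} A) ℤ} (φ : K ⟶ L)
    (G : ModuleCat.{u} A ⥤ ModuleCat.{u} A) [G.Additive] (hG : ∀ q, IsZero (G.obj (L.X q))) :
    IsIso ((G.mapHomologicalComplex (ComplexShape.up ℤ)).map (mappingCocone.fst φ)) := by
  haveI : ∀ n, IsIso (((G.mapHomologicalComplex (ComplexShape.up ℤ)).map (mappingCocone.fst φ)).f n) := by
    intro n
    exact isIso_map_fst_f φ G hG n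
  exact HomologicalComplex.Hom.isIso_of_components _

lemma isIso_Γ_γ₀ (I : Ideal A) (f : A) (hf : f ∈ I) (K : CochainComplex (ModuleCat.{u} A) ℤ) :
    IsIso (((DRing.gammaI I).mapHomologicalComplex (ComplexShape.up ℤ)).map
      ((γ₀ (Submonoid.powers f)).app K)) :=
  isIso_map_fst _ _ (fun q => isZero_gammaI_loc I f hf (K.X q))



section Abstract
variable {C D H : Type*} [Category C] [Category D] [Category H]
  (RF : D ⥤ H) {F : C ⥤ H} {L : C ⥤ D} (α : F ⟶ L ⋙ RF) (W : MorphismProperty C)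
  [L.IsLocalization W] [RF.IsRightDerivedFunctor α W]

include W in
lemma retract_of_coaug (E' : D ⥤ D) (γ' : E' ⟶ 𝟭 D) (β : F ⟶ L ⋙ (E' ⋙ RF))
    (hβ : ∀ X, β.app X ≫ RF.map (γ'.app (L.obj X)) = α.app X) (Y : D) :
    ∃ s : RF.obj Y ⟶ RF.obj (E'.obj Y), s ≫ RF.map (γ'.app Y) = 𝟙 _ := by
  let φ := RF.rightDerivedDesc α W (E' ⋙ RF) β
  let ψ : E' ⋙ RF ⟶ RF := Functor.whiskerRight γ' RF ≫ (Functor.leftUnitor RF).hom
  have h : φ ≫ ψ = 𝟙 RF := by
    apply RF.rightDerived_ext α W
    ext X
    simp [φ, ψ, hβ]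
  refine ⟨φ.app Y, ?_⟩
  have := congrArg (fun t => t.app Y) h
  simpa [ψ] using this

include W α in
lemma isZero_RF_obj [HasZeroMorphisms C] [HasZeroMorphisms D] [HasZeroMorphisms H]
    [F.PreservesZeroMorphisms] [L.PreservesZeroMorphisms] (Z : D) (hZ : IsZero Z) :
    IsZero (RF.obj Z) := by
  let θ : RF ⟶ RF :=
    { app := fun Y => RF.map (0 : Y ⟶ Y)
      naturality := fun Y Y' g => by rw [← RF.map_comp, ← RF.map_comp, comp_zero, zero_comp] }
  let θ' : RF ⟶ RF :=
    { app := fun Y => 0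
      naturality := fun Y Y' g => by rw [comp_zero, zero_comp] }
  have h : θ = θ' := by
    apply RF.rightDerived_ext α W
    ext X
    have h0 : (0 : L.obj X ⟶ L.obj X) = L.map (0 : X ⟶ X) := by simp
    have hn := α.naturality (0 : X ⟶ X)
    simp only [Functor.comp_map] at hn
    simp only [NatTrans.comp_app, Functor.whiskerLeft_app, θ, θ', comp_zero]
    rw [h0, ← hn, F.map_zero, zero_comp]
  rw [IsZero.iff_id_eq_zero, ← RF.map_id, hZ.eq_of_src (𝟙 Z) 0]
  exact congrArg (fun t => t.app Z) h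

end Abstract

section Concrete
variable {A : Type u} [CommRing A] (S : Submonoid A)

abbrev Cpx (A : Type u) [CommRing A] := CochainComplex (ModuleCat.{u} A) ℤ

/-- `quotient ⋙ Qh` -/
noncomputable def Q' (A : Type u) [CommRing A] : Cpx A ⥤ DerivedCategory (ModuleCat.{u} A) :=
  HomotopyCategory.quotient (ModuleCat.{u} A) (ComplexShape.up ℤ) ⋙ DerivedCategory.Qh

abbrev Wc (A : Type u) [CommRing A] : MorphismProperty (Cpx A) :=
  HomologicalComplex.quasiIso (ModuleCat.{u} A) (ComplexShape.up ℤ)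

instance : (Q' A).IsLocalization (Wc A) :=
  Functor.IsLocalization.of_iso _ (DerivedCategory.quotientCompQhIso (ModuleCat.{u} A)).symm

lemma inverts_E₀ : (Wc A).IsInvertedBy (E₀ S ⋙ Q' A) := by
  intro K K' a ha
  haveI : QuasiIso a := ha
  haveI := quasiIso_E₀_map S a
  exact Localization.inverts (Q' A) (Wc A) ((E₀ S).map a) (quasiIso_E₀_map S a)

/-- the descended functor on `D(A)` -/
noncomputable def E' : DerivedCategory (ModuleCat.{u} A) ⥤ DerivedCategory (ModuleCat.{u} A) :=
  Localization.lift (E₀ S ⋙ Q' A) (inverts_E₀ S) (Q' A)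

noncomputable instance : Localization.Lifting (Q' A) (Wc A) (E₀ S ⋙ Q' A) (E' S) :=
  Localization.liftingLift _ _ _

noncomputable def e : Q' A ⋙ E' S ≅ E₀ S ⋙ Q' A :=
  Localization.Lifting.iso (Q' A) (Wc A) _ _

noncomputable def γ' : E' S ⟶ 𝟭 _ :=
  Localization.liftNatTrans (Q' A) (Wc A) (E₀ S ⋙ Q' A) (Q' A) (E' S) (𝟭 _)
    (Functor.whiskerRight (γ₀ S) (Q' A) ≫ (Functor.leftUnitor _).hom)

lemma γ'_app (K : Cpx A) :
    (γ' S).app ((Q' A).obj K) = (e S).hom.app K ≫ (Q' A).map ((γ₀ S).app K) := by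
  rw [γ', Localization.liftNatTrans_app]
  simp [e]

section Main
variable (I : Ideal A) (f : A) (hf : f ∈ I)

noncomputable abbrev qq (A : Type u) [CommRing A] :=
  HomotopyCategory.quotient (ModuleCat.{u} A) (ComplexShape.up ℤ)
abbrev Wh (A : Type u) [CommRing A] :=
  HomotopyCategory.quasiIso (ModuleCat.{u} A) (ComplexShape.up ℤ)
noncomputable abbrev Γc := (DRing.gammaI I).mapHomologicalComplex (ComplexShape.up ℤ)

example (K : Cpx A) : DerivedCategory.Q.obj K = DerivedCategory.Qh.obj ((qq A).obj K) := rfl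

noncomputable def eInv (K : Cpx A) : DerivedCategory.Qh.obj ((qq A).obj ((E₀ S).obj K)) ⟶
    (E' S).obj (DerivedCategory.Qh.obj ((qq A).obj K)) := (e S).inv.app K

noncomputable def eHom (K : Cpx A) : (E' S).obj (DerivedCategory.Qh.obj ((qq A).obj K)) ⟶
    DerivedCategory.Qh.obj ((qq A).obj ((E₀ S).obj K)) := (e S).hom.app K

@[reassoc]
lemma eInv_eHom (K : Cpx A) : eInv S K ≫ eHom S K = 𝟙 _ := (e S).inv_hom_id_app K

@[reassoc]
lemma eHom_eInv (K : Cpx A) : eHom S K ≫ eInv S K = 𝟙 _ := (e S).hom_inv_id_app K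

@[reassoc]
lemma eInv_naturality {K K' : Cpx A} (a : K ⟶ K') :
    DerivedCategory.Qh.map ((qq A).map ((E₀ S).map a)) ≫ eInv S K' =
      eInv S K ≫ (E' S).map (DerivedCategory.Qh.map ((qq A).map a)) :=
  (e S).inv.naturality a

lemma γ'_app' (K : Cpx A) : (γ' S).app (DerivedCategory.Qh.obj ((qq A).obj K)) =
    eHom S K ≫ DerivedCategory.Qh.map ((qq A).map ((γ₀ S).app K)) := γ'_app S K

lemma F_map_q {K K' : Cpx A} (g : K ⟶ K') :
    (DRing.gammaIKh I).map ((qq A).map g) = DerivedCategory.Qh.map ((qq A).map ((Γc I).map g)) := by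
  change DerivedCategory.Qh.map (((DRing.gammaI I).mapHomotopyCategory _).map ((qq A).map g)) = _
  rw [Functor.mapHomotopyCategory_map]
  rfl

include hf in
lemma isIso_F_γ₀ (K : Cpx A) :
    IsIso ((DRing.gammaIKh I).map ((qq A).map ((γ₀ (Submonoid.powers f)).app K))) := by
  rw [F_map_q]
  have h : IsIso ((Γc I).map ((γ₀ (Submonoid.powers f)).app K)) := isIso_Γ_γ₀ I f hf K
  exact (DerivedCategory.Qh.mapIso ((qq A).mapIso (@asIso _ _ _ _ _ h))).isIso_hom

/-- `F(E₀ K) ≅ F(K)` -/
noncomputable def isoFγ (K : Cpx A) :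
    (DRing.gammaIKh I).obj ((qq A).obj ((E₀ (Submonoid.powers f)).obj K)) ≅
      (DRing.gammaIKh I).obj ((qq A).obj K) :=
  @asIso _ _ _ _ ((DRing.gammaIKh I).map ((qq A).map ((γ₀ (Submonoid.powers f)).app K)))
    (isIso_F_γ₀ I f hf K)

lemma isoFγ_hom (K : Cpx A) :
    (isoFγ I f hf K).hom =
      (DRing.gammaIKh I).map ((qq A).map ((γ₀ (Submonoid.powers f)).app K)) := rfl

variable [DRing.HasRgammaI I]

/-- the unit of the derived functor -/
noncomputable abbrev αα : DRing.gammaIKh I ⟶ DerivedCategory.Qh ⋙ DRing.RgammaI I :=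
  (DRing.gammaIKh I).totalRightDerivedUnit DerivedCategory.Qh (Wh A)

noncomputable def β₀ :
    qq A ⋙ DRing.gammaIKh I ⟶
      qq A ⋙ (DerivedCategory.Qh ⋙ (E' (Submonoid.powers f) ⋙ DRing.RgammaI I)) where
  app K := (isoFγ I f hf K).inv ≫ (αα I).app ((qq A).obj ((E₀ (Submonoid.powers f)).obj K)) ≫
    (DRing.RgammaI I).map (eInv (Submonoid.powers f) K)
  naturality K K' a := by
    have h1 : (DRing.gammaIKh I).map ((qq A).map a) ≫ (isoFγ I f hf K').inv =
        (isoFγ I f hf K).inv ≫
          (DRing.gammaIKh I).map ((qq A).map ((E₀ (Submonoid.powers f)).map a)) := by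
      rw [Iso.eq_inv_comp, ← Category.assoc, Iso.comp_inv_eq, isoFγ_hom, isoFγ_hom,
        ← Functor.map_comp, ← Functor.map_comp, ← Functor.map_comp, ← Functor.map_comp]
      congr 2
      exact ((γ₀ (Submonoid.powers f)).naturality a).symm
    have h2 : (DRing.gammaIKh I).map ((qq A).map ((E₀ (Submonoid.powers f)).map a)) ≫
          (αα I).app ((qq A).obj ((E₀ (Submonoid.powers f)).obj K')) =
        (αα I).app ((qq A).obj ((E₀ (Submonoid.powers f)).obj K)) ≫
          (DRing.RgammaI I).map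
            (DerivedCategory.Qh.map ((qq A).map ((E₀ (Submonoid.powers f)).map a))) :=
      (αα I).naturality ((qq A).map ((E₀ (Submonoid.powers f)).map a))
    have h3 : (DRing.RgammaI I).map
          (DerivedCategory.Qh.map ((qq A).map ((E₀ (Submonoid.powers f)).map a))) ≫
          (DRing.RgammaI I).map (eInv (Submonoid.powers f) K') =
        (DRing.RgammaI I).map (eInv (Submonoid.powers f) K) ≫
          (DRing.RgammaI I).map
            ((E' (Submonoid.powers f)).map (DerivedCategory.Qh.map ((qq A).map a))) := by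
      rw [← (DRing.RgammaI I).map_comp, ← (DRing.RgammaI I).map_comp, eInv_naturality]
    simp only [Functor.comp_map, Category.assoc]
    rw [reassoc_of% h1, reassoc_of% h2, h3]

noncomputable def ββ : DRing.gammaIKh I ⟶
    DerivedCategory.Qh ⋙ (E' (Submonoid.powers f) ⋙ DRing.RgammaI I) :=
  Quotient.natTransLift _ (β₀ I f hf)

lemma ββ_prop (X : HomotopyCategory (ModuleCat.{u} A) (ComplexShape.up ℤ)) :
    (ββ I f hf).app X ≫
      (DRing.RgammaI I).map ((γ' (Submonoid.powers f)).app (DerivedCategory.Qh.obj X)) =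
    (αα I).app X := by
  obtain ⟨K, rfl⟩ := HomotopyCategory.quotient_obj_surjective X
  have h1 : (ββ I f hf).app ((qq A).obj K) = (β₀ I f hf).app K := rfl
  have h3 : (DRing.gammaIKh I).map ((qq A).map ((γ₀ (Submonoid.powers f)).app K)) ≫
      (αα I).app ((qq A).obj K) =
      (αα I).app ((qq A).obj ((E₀ (Submonoid.powers f)).obj K)) ≫
      (DRing.RgammaI I).map
        (DerivedCategory.Qh.map ((qq A).map ((γ₀ (Submonoid.powers f)).app K))) :=
    (αα I).naturality ((qq A).map ((γ₀ (Submonoid.powers f)).app K))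
  rw [h1, γ'_app']
  simp only [β₀, Category.assoc]
  rw [← (DRing.RgammaI I).map_comp, eInv_eHom_assoc, ← h3, ← isoFγ_hom I f hf K,
    Iso.inv_hom_id_assoc]

end Main

end Concrete

theorem main (A : Type u) [CommRing A] (I : Ideal A) (hI : I.FG) [DRing.HasRgammaI I]
    (K : CochainComplex (ModuleCat.{u} A) ℤ) (f : A) (hf : f ∈ I)
    (hK : ∀ n : ℤ, Function.Bijective (fun x : K.X n => f • x)) :
    IsZero ((DRing.RgammaI I).obj (DerivedCategory.Q.obj K)) := by
  haveI : IsIso (ηc (Submonoid.powers f) K) :=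
    isIso_ηc (Submonoid.powers f) K (fun n => bijective_powers f (K.X n) (hK n))
  have hz1 : IsZero (DerivedCategory.Q.obj ((E₀ (Submonoid.powers f)).obj K)) :=
    isZero_Q_E₀ (Submonoid.powers f) K
  have hz2 : IsZero ((E' (Submonoid.powers f)).obj (DerivedCategory.Qh.obj ((qq A).obj K))) :=
    IsZero.of_iso hz1 ⟨eHom (Submonoid.powers f) K, eInv (Submonoid.powers f) K,
      eHom_eInv (Submonoid.powers f) K, eInv_eHom (Submonoid.powers f) K⟩
  have hz3 : IsZero ((DRing.RgammaI I).obj
      ((E' (Submonoid.powers f)).obj (DerivedCategory.Qh.obj ((qq A).obj K)))) :=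
    isZero_RF_obj (DRing.RgammaI I) (αα I) (Wh A) _ hz2
  obtain ⟨s, hs⟩ := retract_of_coaug (DRing.RgammaI I) (αα I) (Wh A) (E' (Submonoid.powers f))
    (γ' (Submonoid.powers f)) (ββ I f hf) (ββ_prop I f hf)
    (DerivedCategory.Qh.obj ((qq A).obj K))
  change IsZero ((DRing.RgammaI I).obj (DerivedCategory.Qh.obj ((qq A).obj K)))
  rw [IsZero.iff_id_eq_zero, ← hs, hz3.eq_of_tgt s 0, zero_comp]


end Groth.Agent.Lib.Helper10.RGammaLoc
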