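import Mathlib.CategoryTheory.Triangulated.Pretriangulated
import Mathlib.CategoryTheory.Shift.Basic
import Mathlib.CategoryTheory.Limits.Shapes.Products

/-!
# Milnor sequence consequences for a derived limit in a pretriangulated category
-/

set_option autoImplicit false

namespace Groth.Agent.Lib.Helper10.RlimTri

open CategoryTheory CategoryTheory.Limits Pretriangulated

universe v u

variable {T : Type u} [Category.{v} T] [Preadditive T] [HasZeroObject T] [HasShift T ℤ]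
  [∀ n : ℤ, (shiftFunctor T n).Additive] [Pretriangulated T]

variable (K : ℕ → T) (t : ∀ n, K (n + 1) ⟶ K n) [HasProduct K] (L : T) (a : ∀ n, L ⟶ K n)
  (c : ∏ᶜ K ⟶ L⟦(1 : ℤ)⟧)
  (hT : Triangle.mk (Pi.lift a) (Pi.lift fun n => Pi.π K n - Pi.π K (n + 1) ≫ t n) c ∈
    distinguishedTriangles)

include hT

/-- compatible families lift to the derived limit -/
lemma exists_lift {B : T} (x : ∀ n, B ⟶ K n) (hx : ∀ n, x (n + 1) ≫ t n = x n) :
    ∃ y : B ⟶ L, ∀ n, y ≫ a n = x n := by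
  have h0 : Pi.lift x ≫ (Pi.lift fun n => Pi.π K n - Pi.π K (n + 1) ≫ t n) = 0 := by
    apply Pi.hom_ext
    intro n
    rw [Category.assoc, Pi.lift_π, Preadditive.comp_sub, Pi.lift_π, ← Category.assoc, Pi.lift_π,
      hx, sub_self, zero_comp]
  obtain ⟨y, hy⟩ := Triangle.coyoneda_exact₂ _ hT (Pi.lift x) h0
  refine ⟨y, fun n => ?_⟩
  have h1 : Pi.lift x ≫ Pi.π K n = (y ≫ Pi.lift a) ≫ Pi.π K n := congrArg (· ≫ Pi.π K n) hy
  rw [Pi.lift_π, Category.assoc, Pi.lift_π] at h1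
  exact h1.symm

/-- if `lim^1` of `Hom(B, K n)` vanishes then a map `B ⟶ L⟦1⟧` killed by all `a n` is zero. -/
lemma eq_zero_of_limOne {B : T}
    (hsurj : Function.Surjective
      (fun (b : ∀ n, B ⟶ K n) (n : ℕ) => b n - b (n + 1) ≫ t n))
    (f : B ⟶ L⟦(1 : ℤ)⟧) (hf : f ≫ (Pi.lift a)⟦(1 : ℤ)⟧' = 0) : f = 0 := by
  obtain ⟨g, hg⟩ := Triangle.coyoneda_exact₁ _ hT f hf
  obtain ⟨b, hb⟩ := hsurj (fun n => g ≫ Pi.π K n)
  have hgb : g = Pi.lift b ≫ (Pi.lift fun n => Pi.π K n - Pi.π K (n + 1) ≫ t n) := by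
    apply Pi.hom_ext
    intro n
    rw [Category.assoc, Pi.lift_π, Preadditive.comp_sub, Pi.lift_π, ← Category.assoc, Pi.lift_π]
    exact (congrFun hb n).symm
  have hz := comp_distTriang_mor_zero₂₃ _ hT
  simp only [Triangle.mk_mor₂, Triangle.mk_mor₃] at hz
  rw [hg, hgb]
  change (Pi.lift b ≫ Pi.lift fun n => Pi.π K n - Pi.π K (n + 1) ≫ t n) ≫ c = 0
  exact (Category.assoc _ _ _).trans ((congrArg (Pi.lift b ≫ ·) hz).trans comp_zero)

end Groth.Agent.Lib.Helper10.RlimTri
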