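import Groth.Prelude.Def_W4stktopologysheavesBas

set_option autoImplicit false

namespace Groth.Agent.Lib.Helper10

open TopologicalSpace

universe u

section
variable {X : Type u} [TopologicalSpace X] {B : Set (Opens X)}

/-- the cofinality hypothesis used in the statements -/
def Cofinal (C : ∀ U : B, Set (ShB.Cover B)) : Prop :=
  ∀ (U : B) (ι : Type u) (V : ι → B), (∀ i, (V i : Opens X) ≤ (U : Opens X)) →
      (U : Opens X) ≤ ⨆ i, (V i : Opens X) →
      ∃ c ∈ C U, ∀ i' : c.ι, ∃ i, (c.V i' : Opens X) ≤ (V i : Opens X)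

/-- separatedness from unique gluing on a cofinal system -/
theorem sep_of_cofinal (F : ShB.Pre B)
    (C : ∀ U : B, Set (ShB.Cover B)) (hCU : ∀ U, ∀ c ∈ C U, c.U = U) (hC : Cofinal C)
    (H : ∀ U, ∀ c ∈ C U, ∀ s : ∀ i, F.obj (c.V i), ∀ t t' : F.obj c.U,
      (∀ i, F.res (c.V_le i) t = s i) → (∀ i, F.res (c.V_le i) t' = s i) → t = t')
    (U : B) (ι : Type u) (V : ι → B) (hle : ∀ i, (V i : Opens X) ≤ (U : Opens X))
    (hcov : (U : Opens X) ≤ ⨆ i, (V i : Opens X)) (a b : F.obj U)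
    (hab : ∀ i, F.res (hle i) a = F.res (hle i) b) : a = b := by
  obtain ⟨c, hc, href⟩ := hC U ι V hle hcov
  have hcU := hCU U c hc
  subst hcU
  apply H c.U c hc (fun i' => F.res (c.V_le i') a) a b (fun _ => rfl)
  intro i'
  obtain ⟨i, hi⟩ := href i'
  have h1 : F.res (c.V_le i') b = F.res hi (F.res (hle i) b) := (F.res_comp _ _ _).symm
  have h2 : F.res (c.V_le i') a = F.res hi (F.res (hle i) a) := (F.res_comp _ _ _).symm
  rw [h1, h2, hab i]

/-- separatedness with respect to all coverings by members of the basis -/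
def Sep (F : ShB.Pre B) : Prop :=
  ∀ (U : B) (ι : Type u) (V : ι → B) (hle : ∀ i, (V i : Opens X) ≤ (U : Opens X)),
    (U : Opens X) ≤ ⨆ i, (V i : Opens X) → ∀ a b : F.obj U,
    (∀ i, F.res (hle i) a = F.res (hle i) b) → a = b

theorem res_res (F : ShB.Pre B) {U V W : B} (h₁ : (V : Opens X) ≤ (U : Opens X))
    (h₂ : (W : Opens X) ≤ (V : Opens X)) (h₃ : (W : Opens X) ≤ (U : Opens X)) (s : F.obj U) :
    F.res h₂ (F.res h₁ s) = F.res h₃ s := F.res_comp h₁ h₂ s

theorem isSheaf_of_cofinal (hB : Opens.IsBasis B) (F : ShB.Pre B)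
    (C : ∀ U : B, Set (ShB.Cover B)) (hCU : ∀ U, ∀ c ∈ C U, c.U = U) (hC : Cofinal C)
    (sep : Sep F)
    (ex : ∀ U, ∀ c ∈ C U, ∀ s : ∀ i, F.obj (c.V i),
      (∀ i j (N : B) (h1 : (N : Opens X) ≤ (c.V i : Opens X))
        (h2 : (N : Opens X) ≤ (c.V j : Opens X)), F.res h1 (s i) = F.res h2 (s j)) →
      ∃ t : F.obj c.U, ∀ i, F.res (c.V_le i) t = s i) :
    ShB.IsSheaf F := by
  rintro ⟨U, ι, V, V_le, V_cover, κ, W, Wl, Wr, Wc⟩ s hs
  dsimp only at s hs ⊢
  obtain ⟨c, hc, href⟩ := hC U ι V V_le V_cover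
  have hcU := hCU U c hc
  subst hcU
  choose α hα using href
  have hnb : ∀ (U : Opens X) (x : X), x ∈ U → ∃ U' ∈ B, x ∈ U' ∧ U' ≤ U :=
    fun U x hx => Opens.isBasis_iff_nbhd.mp hB hx
  -- strong compatibility of the refined family
  have hcompat : ∀ i' j' (N : B) (h1 : (N : Opens X) ≤ (c.V i' : Opens X))
      (h2 : (N : Opens X) ≤ (c.V j' : Opens X)),
      F.res h1 (F.res (hα i') (s (α i'))) = F.res h2 (F.res (hα j') (s (α j'))) := by
    intro i' j' N h1 h2
    apply sep N {N' : B // ∃ k, (N' : Opens X) ≤ (N : Opens X) ⊓ (W (α i') (α j') k : Opens X)}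
      (fun N' => N'.1) (fun N' => by
        obtain ⟨k, hk⟩ := N'.2
        exact hk.trans inf_le_left)
    · intro x hx
      have hx1 : x ∈ (V (α i') : Opens X) ⊓ (V (α j') : Opens X) :=
        ⟨hα i' (h1 hx), hα j' (h2 hx)⟩
      have hx2 := Wc (α i') (α j') hx1
      rw [Opens.mem_iSup] at hx2
      obtain ⟨k, hk⟩ := hx2
      have hx3 : x ∈ (N : Opens X) ⊓ (W (α i') (α j') k : Opens X) := ⟨hx, hk⟩
      obtain ⟨N', hN'B, hxN', hN'le⟩ := hnb _ _ hx3
      rw [Opens.mem_iSup]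
      exact ⟨⟨⟨N', hN'B⟩, k, hN'le⟩, hxN'⟩
    · rintro ⟨N', k, hk⟩
      have hN'W : (N' : Opens X) ≤ (W (α i') (α j') k : Opens X) := hk.trans inf_le_right
      have hN'N : (N' : Opens X) ≤ (N : Opens X) := hk.trans inf_le_left
      have e1 : F.res hN'N (F.res h1 (F.res (hα i') (s (α i')))) =
          F.res hN'W (F.res (Wl (α i') (α j') k) (s (α i'))) := by
        rw [res_res F _ _ (hN'N.trans (h1.trans (hα i'))), res_res F _ _ (hN'N.trans h1),
          res_res F _ _ (hN'N.trans (h1.trans (hα i')))]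
      have e2 : F.res hN'N (F.res h2 (F.res (hα j') (s (α j')))) =
          F.res hN'W (F.res (Wr (α i') (α j') k) (s (α j'))) := by
        rw [res_res F _ _ (hN'N.trans (h2.trans (hα j'))), res_res F _ _ (hN'N.trans h2),
          res_res F _ _ (hN'N.trans (h2.trans (hα j')))]
      show F.res hN'N _ = F.res hN'N _
      rw [e1, e2, hs]
  obtain ⟨t, ht⟩ := ex c.U c hc (fun i' => F.res (hα i') (s (α i'))) hcompat
  -- t restricts correctly
  have hres : ∀ i, F.res (V_le i) t = s i := by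
    intro i
    apply sep (V i)
      {N' : B // ∃ i' k, (N' : Opens X) ≤
        ((V i : Opens X) ⊓ (c.V i' : Opens X)) ⊓ (W i (α i') k : Opens X)}
      (fun N' => N'.1) (fun N' => by
        obtain ⟨i', k, hk⟩ := N'.2
        exact hk.trans (inf_le_left.trans inf_le_left))
    · intro x hx
      have hxU : x ∈ (c.U : Opens X) := V_le i hx
      have hx1 := c.V_cover hxU
      rw [Opens.mem_iSup] at hx1
      obtain ⟨i', hi'⟩ := hx1
      have hx2 : x ∈ (V i : Opens X) ⊓ (V (α i') : Opens X) := ⟨hx, hα i' hi'⟩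
      have hx3 := Wc i (α i') hx2
      rw [Opens.mem_iSup] at hx3
      obtain ⟨k, hk⟩ := hx3
      have hx4 : x ∈ ((V i : Opens X) ⊓ (c.V i' : Opens X)) ⊓ (W i (α i') k : Opens X) :=
        ⟨⟨hx, hi'⟩, hk⟩
      obtain ⟨N', hN'B, hxN', hN'le⟩ := hnb _ _ hx4
      rw [Opens.mem_iSup]
      exact ⟨⟨⟨N', hN'B⟩, i', k, hN'le⟩, hxN'⟩
    · rintro ⟨N', i', k, hk⟩
      have hN'Vi : (N' : Opens X) ≤ (V i : Opens X) := hk.trans (inf_le_left.trans inf_le_left)
      have hN'c : (N' : Opens X) ≤ (c.V i' : Opens X) := hk.trans (inf_le_left.trans inf_le_right)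
      have hN'W : (N' : Opens X) ≤ (W i (α i') k : Opens X) := hk.trans inf_le_right
      have e1 : F.res hN'Vi (F.res (V_le i) t) =
          F.res hN'W (F.res (Wr i (α i') k) (s (α i'))) := by
        rw [res_res F _ _ (hN'c.trans (c.V_le i')), ← res_res F (c.V_le i') hN'c, ht i',
          res_res F _ _ (hN'c.trans (hα i')), res_res F _ _ (hN'c.trans (hα i'))]
      have e2 : F.res hN'Vi (s i) = F.res hN'W (F.res (Wl i (α i') k) (s i)) := by
        rw [res_res F _ _ hN'Vi]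
      show F.res hN'Vi _ = F.res hN'Vi _
      rw [e1, e2, hs]
  refine ⟨t, hres, ?_⟩
  intro t' ht'
  apply sep c.U ι V V_le V_cover
  intro i
  rw [ht' i, hres i]

end

end Groth.Agent.Lib.Helper10
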