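import Groth.Agent.S7587
import Mathlib.Topology.Sheaves.Sheaf
import Mathlib.Topology.Sheaves.LocalPredicate
import Mathlib.Topology.Sheaves.SheafCondition.Sites
set_option autoImplicit false
universe u
open CategoryTheory TopologicalSpace Opposite
namespace Groth.Agent.Lib.Helper10

variable {X : Type u} [TopologicalSpace X] {B : Set (Opens X)}

/-- the local predicate: families of germs locally induced by sections on basis members -/
def germPred (hB : Opens.IsBasis B) (F : ShB.Pre B) :
    TopCat.LocalPredicate (X := TopCat.of X) (fun x => ShB.Stalk F x) where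
  pred {U} f := ∀ x : U, ∃ (V : B) (_ : x.1 ∈ (V : Opens X))
      (hVU : (V : Opens X) ≤ U) (σ : F.obj V),
      ∀ (y : X) (hy : y ∈ (V : Opens X)), ShB.germ F y hy σ = f ⟨y, hVU hy⟩
  res {U V} i f hf := by
    intro x
    obtain ⟨W, hxW, hWV, σ, hσ⟩ := hf ⟨x.1, i.le x.2⟩
    obtain ⟨W', hW'B, hxW', hW'le⟩ :=
      Opens.isBasis_iff_nbhd.mp hB (show x.1 ∈ (W : Opens X) ⊓ U from ⟨hxW, x.2⟩)
    have h1 : ((⟨W', hW'B⟩ : B) : Opens X) ≤ (W : Opens X) := hW'le.trans inf_le_left
    refine ⟨⟨W', hW'B⟩, hxW', hW'le.trans inf_le_right, F.res h1 σ, ?_⟩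
    intro y hy
    rw [Lib.Helper10.germ_res]
    exact hσ y (h1 hy)
  locality {U} f hf := by
    intro x
    obtain ⟨V, hxV, i, hV⟩ := hf x
    obtain ⟨W, hxW, hWV, σ, hσ⟩ := hV ⟨x.1, hxV⟩
    exact ⟨W, hxW, hWV.trans i.le, σ, fun y hy => hσ y hy⟩

/-- the extension sheaf -/
noncomputable def extSheaf (hB : Opens.IsBasis B) (F : ShB.Pre B) :
    TopCat.Sheaf (Type u) (TopCat.of X) :=
  TopCat.subsheafToTypes (germPred hB F)

theorem extSheaf_iso (hB : Opens.IsBasis B) (F : ShB.Pre B) (hF : ShB.IsSheaf F) :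
    Nonempty (ShB.Iso (ShB.restrict B (extSheaf hB F).presheaf) F) := by
  have key := fun U : B => Groth.Agent.S7587.result hB F hF U
  -- inverse map
  let invApp : ∀ U : B, F.obj U → (ShB.restrict B (extSheaf hB F).presheaf).obj U :=
    fun U s => ⟨fun x => ShB.germ F x.1 x.2 s, fun x => ⟨U, x.2, le_rfl, s, fun y hy => rfl⟩⟩
  have hex : ∀ (U : B) (f : (ShB.restrict B (extSheaf hB F).presheaf).obj U),
      ∃ s : F.obj U, invApp U s = f := by
    intro U f
    obtain ⟨s, hs⟩ := ((key U).2 f.1).mpr f.2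
    exact ⟨s, Subtype.ext (funext hs)⟩
  choose homApp hhom using hex
  have hinj : ∀ U : B, Function.Injective (invApp U) := by
    intro U s s' h
    apply (key U).1
    exact congrArg Subtype.val h
  have hinvnat : ∀ {U V : B} (h : (V : Opens X) ≤ (U : Opens X)) (s : F.obj U),
      (ShB.restrict B (extSheaf hB F).presheaf).res h (invApp U s) = invApp V (F.res h s) := by
    intro U V h s
    apply Subtype.ext
    funext x
    exact (Lib.Helper10.germ_res F h x.1 x.2 s).symm
  refine ⟨⟨⟨homApp, ?_⟩, ⟨invApp, ?_⟩, ?_, ?_⟩⟩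
  · intro U V h f
    apply hinj V
    rw [hhom, ← hinvnat, hhom]
  · intro U V h s
    exact hinvnat h s
  · intro U f
    exact hhom U f
  · intro U s
    apply hinj U
    exact hhom U _

end Groth.Agent.Lib.Helper10

namespace Groth.Agent.Lib.Helper10

variable {X : Type u} [TopologicalSpace X] {B : Set (Opens X)}

theorem ext_unique (hB : Opens.IsBasis B) (F : ShB.Pre B)
    (G G' : TopCat.Sheaf (Type u) (TopCat.of X)) (e : ShB.Iso (ShB.restrict B G.presheaf) F)
    (e' : ShB.Iso (ShB.restrict B G'.presheaf) F) :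
    ∃! φ : G ⟶ G', IsIso φ ∧ ∀ (U : B) (s : G.presheaf.obj (Opposite.op (U : Opens X))),
        e'.hom.app U (φ.1.app (Opposite.op (U : Opens X)) s) = e.hom.app U s := by
  let Bf : B → Opens (TopCat.of X) := Subtype.val
  have hBf : Opens.IsBasis (Set.range Bf) := by
    have : Set.range Bf = B := Subtype.range_coe
    rw [this]
    exact hB
  let asB : InducedCategory (Opens (TopCat.of X)) Bf → B := fun i => i
  let α : (inducedFunctor Bf).op ⋙ G.presheaf ⟶ (inducedFunctor Bf).op ⋙ G'.presheaf :=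
    { app := fun i => TypeCat.ofHom (fun s => e'.inv.app (asB i.unop) (e.hom.app (asB i.unop) s))
      naturality := by
        intro i j f
        ext s
        have hle : ((asB j.unop : B) : Opens X) ≤ ((asB i.unop : B) : Opens X) := f.unop.hom.le
        have h1 := e.hom.natural hle s
        have h2 := e'.inv.natural hle (e.hom.app (asB i.unop) s)
        simp only [Functor.comp_obj, Functor.op_obj, Functor.comp_map, Functor.op_map]
        change e'.inv.app (asB j.unop) (e.hom.app (asB j.unop)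
            ((ShB.restrict B G.presheaf).res hle s)) =
          (ShB.restrict B G'.presheaf).res hle (e'.inv.app (asB i.unop) (e.hom.app (asB i.unop) s))
        rw [h2, h1] }
  let φ₀ : G.presheaf ⟶ G'.1 := TopCat.Sheaf.restrictHomEquivHom G.presheaf G' hBf α
  have hφ₀ : ∀ i : B, φ₀.app (op (Bf i)) = α.app (op i) :=
    fun i => TopCat.Sheaf.extend_hom_app G.presheaf G' hBf α i
  let φ : G ⟶ G' := ObjectProperty.homMk φ₀
  have hinj' : ∀ U : B, Function.Injective (e'.hom.app U) := by
    intro U a b hab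
    rw [← e'.hom_inv U a, ← e'.hom_inv U b, hab]
  refine ⟨φ, ⟨?_, ?_⟩, ?_⟩
  · apply TopCat.Sheaf.isIso_iff_isIso_basis hBf
    intro i
    change IsIso (φ₀.app (op (Bf i)))
    rw [hφ₀ i, isIso_iff_bijective]
    constructor
    · intro a b hab
      have h1 : e'.inv.app i (e.hom.app i a) = e'.inv.app i (e.hom.app i b) := hab
      have h2 := congrArg (e'.hom.app i) h1
      rw [e'.inv_hom, e'.inv_hom] at h2
      rw [← e.hom_inv i a, ← e.hom_inv i b, h2]
    · intro b
      refine ⟨e.inv.app i (e'.hom.app i b), ?_⟩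
      change e'.inv.app i (e.hom.app i (e.inv.app i (e'.hom.app i b))) = b
      rw [e.inv_hom, e'.hom_inv]
  · intro U s
    change e'.hom.app U (φ₀.app (op (Bf U)) s) = e.hom.app U s
    rw [hφ₀ U]
    exact e'.inv_hom U _
  · rintro ψ ⟨-, hψ⟩
    apply CategoryTheory.Sheaf.hom_ext
    change ψ.hom = φ₀
    apply TopCat.Sheaf.hom_ext G.presheaf G' hBf
    intro i
    ext s
    apply hinj' i
    change e'.hom.app i (ψ.1.app (op (i : Opens X)) s) = e'.hom.app i (φ₀.app (op (Bf i)) s)
    rw [hψ i s, hφ₀ i]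
    exact (e'.inv_hom i _).symm

end Groth.Agent.Lib.Helper10
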