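import Groth.Agent.Lib.Helper10.ShBAux
import Mathlib.Logic.Relation

set_option autoImplicit false

namespace Groth.Agent.Lib.Helper10

open TopologicalSpace

universe u

section
variable {X : Type u} [TopologicalSpace X] {B : Set (Opens X)}

theorem sep_of_isSheaf (hB : Opens.IsBasis B) (F : ShB.Pre B) (hF : ShB.IsSheaf F) : Sep F := by
  intro U ι V hle hcov a b hab
  have hnb : ∀ (U : Opens X) (x : X), x ∈ U → ∃ U' ∈ B, x ∈ U' ∧ U' ≤ U :=
    fun U x hx => Opens.isBasis_iff_nbhd.mp hB hx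
  let c : ShB.Cover B :=
    { U := U
      ι := ι
      V := V
      V_le := hle
      V_cover := hcov
      κ := fun i j => {N : B // (N : Opens X) ≤ (V i : Opens X) ⊓ (V j : Opens X)}
      W := fun i j N => N.1
      W_le_left := fun i j N => N.2.trans inf_le_left
      W_le_right := fun i j N => N.2.trans inf_le_right
      W_cover := by
        intro i j x hx
        obtain ⟨N, hNB, hxN, hNle⟩ := hnb _ _ hx
        rw [Opens.mem_iSup]
        exact ⟨⟨⟨N, hNB⟩, hNle⟩, hxN⟩ }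
  have hc := hF c (fun i => F.res (hle i) a) (by
    intro i j k
    rw [F.res_comp, F.res_comp])
  obtain ⟨t, -, huniq⟩ := hc
  have h1 : a = t := huniq a (fun _ => rfl)
  have h2 : b = t := huniq b (fun i => (hab i).symm)
  rw [h1, h2]

theorem germ_res (F : ShB.Pre B) {U V : B} (h : (V : Opens X) ≤ (U : Opens X)) (y : X)
    (hy : y ∈ (V : Opens X)) (s : F.obj U) :
    ShB.germ F y hy (F.res h s) = ShB.germ F y (h hy) s := by
  apply Quot.sound
  refine ⟨V, hy, le_rfl, h, ?_⟩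
  exact F.res_id V _

theorem stalkRel_equiv (hB : Opens.IsBasis B) (F : ShB.Pre B) (x : X) :
    Equivalence (ShB.StalkRel F x) := by
  have hnb : ∀ (U : Opens X) (x : X), x ∈ U → ∃ U' ∈ B, x ∈ U' ∧ U' ≤ U :=
    fun U x hx => Opens.isBasis_iff_nbhd.mp hB hx
  refine ⟨?_, ?_, ?_⟩
  · rintro ⟨⟨U, hx⟩, s⟩
    exact ⟨U, hx, le_rfl, le_rfl, rfl⟩
  · rintro a b ⟨W, hxW, ha, hb, h⟩
    exact ⟨W, hxW, hb, ha, h.symm⟩
  · rintro a b c ⟨W₁, hx₁, ha₁, hb₁, h₁⟩ ⟨W₂, hx₂, hb₂, hc₂, h₂⟩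
    obtain ⟨N, hNB, hxN, hNle⟩ := hnb ((W₁ : Opens X) ⊓ (W₂ : Opens X)) x ⟨hx₁, hx₂⟩
    have hN1 : ((⟨N, hNB⟩ : B) : Opens X) ≤ (W₁ : Opens X) := hNle.trans inf_le_left
    have hN2 : ((⟨N, hNB⟩ : B) : Opens X) ≤ (W₂ : Opens X) := hNle.trans inf_le_right
    refine ⟨⟨N, hNB⟩, hxN, hN1.trans ha₁, hN2.trans hc₂, ?_⟩
    rw [← res_res F ha₁ hN1, h₁, res_res F hb₁ hN1 (hN2.trans hb₂), ← res_res F hb₂ hN2, h₂,
      res_res F hc₂ hN2]

theorem germ_eq_iff (hB : Opens.IsBasis B) (F : ShB.Pre B) {U V : B} (x : X)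
    (hxU : x ∈ (U : Opens X)) (hxV : x ∈ (V : Opens X)) (s : F.obj U) (t : F.obj V) :
    ShB.germ F x hxU s = ShB.germ F x hxV t ↔
      ∃ (W : B) (_ : x ∈ (W : Opens X)) (ha : (W : Opens X) ≤ (U : Opens X))
        (hb : (W : Opens X) ≤ (V : Opens X)), F.res ha s = F.res hb t := by
  constructor
  · intro h
    have := Quot.eqvGen_exact h
    rw [(stalkRel_equiv hB F x).eqvGen_iff] at this
    exact this
  · intro h
    exact Quot.sound h

theorem germ_injective (hB : Opens.IsBasis B) (F : ShB.Pre B) (hF : ShB.IsSheaf F) (U : B)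
    (s s' : F.obj U)
    (h : ∀ (x : X) (hx : x ∈ (U : Opens X)), ShB.germ F x hx s = ShB.germ F x hx s') : s = s' := by
  have hsep := sep_of_isSheaf hB F hF
  have h' : ∀ x : (U : Opens X), ∃ (W : B) (_ : x.1 ∈ (W : Opens X))
      (ha : (W : Opens X) ≤ (U : Opens X)), F.res ha s = F.res ha s' := by
    intro x
    obtain ⟨W, hxW, ha, hb, hres⟩ := (germ_eq_iff hB F x.1 x.2 x.2 s s').mp (h x.1 x.2)
    exact ⟨W, hxW, ha, hres⟩
  choose W hxW hWU hres using h'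
  apply hsep U (U : Opens X) W hWU
  · intro x hx
    rw [Opens.mem_iSup]
    exact ⟨⟨x, hx⟩, hxW ⟨x, hx⟩⟩
  · exact hres

end

end Groth.Agent.Lib.Helper10
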