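import Groth.Prelude.Def_W4stktopologysheavesDim
import Mathlib.Topology.Spectral.Basic
import Mathlib.Topology.NoetherianSpace

/-!
# The soberification `PtTop.Sob X`
-/

open TopologicalSpace

namespace Groth.Agent.Lib.Helper10.SobLib

universe u

variable {X : Type u} [TopologicalSpace X]

/-- a point of `Sob X` as an irreducible closed set -/
def ic (Z : PtTop.Sob X) : IrreducibleCloseds X := Z

/-- the set of irreducible closed subsets meeting `U` -/
def tilde (U : Set X) : Set (PtTop.Sob X) :=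
  {Z : PtTop.Sob X | ((ic Z : Set X) ∩ U).Nonempty}

theorem mem_tilde {U : Set X} {Z : PtTop.Sob X} :
    Z ∈ tilde U ↔ ((ic Z : Set X) ∩ U).Nonempty := Iff.rfl

theorem tilde_mono {U V : Set X} (h : U ⊆ V) : tilde U ⊆ tilde V := by
  rintro Z ⟨x, hx1, hx2⟩
  exact ⟨x, hx1, h hx2⟩

theorem tilde_inter {U V : Set X} (hU : IsOpen U) (hV : IsOpen V) :
    tilde U ∩ tilde V = tilde (U ∩ V) := by
  ext Z
  constructor
  · rintro ⟨h1, h2⟩
    have hirr : IsIrreducible (ic Z : Set X) := (ic Z).isIrreducible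
    exact hirr.2 U V hU hV h1 h2
  · rintro ⟨x, hx1, hx2, hx3⟩
    exact ⟨⟨x, hx1, hx2⟩, ⟨x, hx1, hx3⟩⟩

theorem tilde_sUnion (S : Set (Set X)) : tilde (⋃₀ S) = ⋃ U ∈ S, tilde U := by
  ext Z
  simp only [mem_tilde, Set.mem_iUnion]
  constructor
  · rintro ⟨x, hx1, U, hU, hxU⟩
    exact ⟨U, hU, x, hx1, hxU⟩
  · rintro ⟨U, hU, x, hx1, hxU⟩
    exact ⟨x, hx1, U, hU, hxU⟩

theorem tilde_univ : tilde (Set.univ : Set X) = Set.univ := by
  ext Z
  simp only [mem_tilde, Set.inter_univ, Set.mem_univ, iff_true]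
  exact (ic Z).isIrreducible.nonempty

theorem isOpen_tilde {U : Set X} (hU : IsOpen U) : IsOpen (tilde U) :=
  TopologicalSpace.isOpen_generateFrom_of_mem ⟨⟨U, hU⟩, rfl⟩

/-- the open sets of `Sob X` are exactly the `tilde U` -/
theorem isOpen_iff (S : Set (PtTop.Sob X)) : IsOpen S ↔ ∃ U : Set X, IsOpen U ∧ S = tilde U := by
  constructor
  · intro hS
    induction hS with
    | basic s hs =>
      obtain ⟨U, rfl⟩ := hs
      exact ⟨U, U.isOpen, rfl⟩
    | univ => exact ⟨Set.univ, isOpen_univ, tilde_univ.symm⟩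
    | inter s t _ _ hs ht =>
      obtain ⟨U, hU, rfl⟩ := hs
      obtain ⟨V, hV, rfl⟩ := ht
      exact ⟨U ∩ V, hU.inter hV, tilde_inter hU hV⟩
    | sUnion S _ ih =>
      choose U hU hSU using ih
      refine ⟨⋃ (s) (hs : s ∈ S), U s hs, isOpen_iUnion fun s => isOpen_iUnion fun hs => hU s hs, ?_⟩
      ext Z
      constructor
      · rintro ⟨s, hs, hZ⟩
        rw [hSU s hs] at hZ
        obtain ⟨x, hx1, hx2⟩ := hZ
        exact ⟨x, hx1, Set.mem_iUnion₂.2 ⟨s, hs, hx2⟩⟩
      · rintro ⟨x, hx1, hx2⟩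
        obtain ⟨s, hs, hx3⟩ := Set.mem_iUnion₂.1 hx2
        refine ⟨s, hs, ?_⟩
        rw [hSU s hs]
        exact ⟨x, hx1, hx3⟩
  · rintro ⟨U, hU, rfl⟩
    exact isOpen_tilde hU

theorem toSob_coe (x : X) : (ic (PtTop.toSob X x) : Set X) = closure {x} := rfl

theorem preimage_tilde {U : Set X} (hU : IsOpen U) : PtTop.toSob X ⁻¹' tilde U = U := by
  ext x
  simp only [Set.mem_preimage, mem_tilde, toSob_coe]
  constructor
  · rintro ⟨y, hy1, hy2⟩
    by_contra hx
    have : closure {x} ⊆ Uᶜ := closure_minimal (Set.singleton_subset_iff.2 hx) hU.isClosed_compl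
    exact this hy1 hy2
  · intro hx
    exact ⟨x, subset_closure rfl, hx⟩

theorem continuous_toSob : Continuous (PtTop.toSob X) := by
  constructor
  intro S hS
  obtain ⟨U, hU, rfl⟩ := (isOpen_iff S).1 hS
  rw [preimage_tilde hU]
  exact hU

theorem bijOn_preimage : Set.BijOn (fun U' : Set (PtTop.Sob X) => PtTop.toSob X ⁻¹' U')
    {U' | IsOpen U'} {U : Set X | IsOpen U} := by
  refine ⟨?_, ?_, ?_⟩
  · intro S hS
    exact continuous_toSob.isOpen_preimage S hS
  · intro S hS T hT hST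
    obtain ⟨U, hU, rfl⟩ := (isOpen_iff S).1 hS
    obtain ⟨V, hV, rfl⟩ := (isOpen_iff T).1 hT
    simp only [preimage_tilde hU, preimage_tilde hV] at hST
    rw [hST]
  · intro U hU
    exact ⟨tilde U, isOpen_tilde hU, preimage_tilde hU⟩

instance t0Space_sob : T0Space (PtTop.Sob X) := by
  constructor
  intro Z Z' h
  have key : ∀ A B : PtTop.Sob X, Inseparable A B →
      (ic A : Set X) ⊆ (ic B : Set X) := by
    intro A B hAB
    have hopen : IsOpen (tilde ((ic B : Set X)ᶜ)) :=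
      isOpen_tilde (ic B).isClosed.isOpen_compl
    have h1 := (inseparable_iff_forall_isOpen.1 hAB) _ hopen
    have hB : B ∉ tilde ((ic B : Set X)ᶜ) := by
      rintro ⟨x, hx1, hx2⟩
      exact hx2 hx1
    have hA : A ∉ tilde ((ic B : Set X)ᶜ) := fun hA => hB (h1.1 hA)
    intro x hx
    by_contra hxB
    exact hA ⟨x, hx, hxB⟩
  exact IrreducibleCloseds.ext (s := ic Z) (t := ic Z') (le_antisymm (key Z Z' h) (key Z' Z h.symm))

/-- closed sets of `Sob X` -/
def hat (F : Set X) : Set (PtTop.Sob X) :=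
  {Z : PtTop.Sob X | (ic Z : Set X) ⊆ F}

theorem compl_tilde (U : Set X) : (tilde U)ᶜ = hat Uᶜ := by
  ext Z
  simp only [Set.mem_compl_iff, mem_tilde, hat, Set.mem_ofPred_eq, Set.not_nonempty_iff_eq_empty,
    Set.subset_compl_iff_disjoint_right, Set.disjoint_iff_inter_eq_empty]

theorem isClosed_iff (T : Set (PtTop.Sob X)) : IsClosed T ↔ ∃ F : Set X, IsClosed F ∧ T = hat F := by
  rw [← isOpen_compl_iff, isOpen_iff]
  constructor
  · rintro ⟨U, hU, h⟩
    refine ⟨Uᶜ, hU.isClosed_compl, ?_⟩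
    rw [← compl_tilde, ← h, compl_compl]
  · rintro ⟨F, hF, rfl⟩
    refine ⟨Fᶜ, hF.isOpen_compl, ?_⟩
    rw [← compl_compl (tilde Fᶜ), compl_tilde, compl_compl]

theorem isClosed_hat {F : Set X} (hF : IsClosed F) : IsClosed (hat F) :=
  (isClosed_iff _).2 ⟨F, hF, rfl⟩

theorem hat_mono {F G : Set X} (h : F ⊆ G) : hat F ⊆ hat G := fun _ hZ => hZ.trans h

theorem closure_singleton_sob (Z : PtTop.Sob X) :
    closure ({Z} : Set (PtTop.Sob X)) = hat (ic Z : Set X) := by
  apply le_antisymm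
  · apply closure_minimal _ (isClosed_hat (ic Z).isClosed)
    rw [Set.singleton_subset_iff]
    exact (subset_refl _ : (ic Z : Set X) ⊆ _)
  · intro W hW
    rw [mem_closure_iff]
    intro S hS hWS
    obtain ⟨U, hU, rfl⟩ := (isOpen_iff S).1 hS
    obtain ⟨x, hx1, hx2⟩ := hWS
    exact ⟨Z, ⟨x, hW hx1, hx2⟩, rfl⟩

instance quasiSober_sob : QuasiSober (PtTop.Sob X) := by
  constructor
  intro T hT hTc
  obtain ⟨F, hF, rfl⟩ := (isClosed_iff T).1 hTc
  have hFirr : IsIrreducible F := by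
    constructor
    · obtain ⟨Z, hZ⟩ := hT.nonempty
      obtain ⟨x, hx⟩ := (ic Z).isIrreducible.nonempty
      exact ⟨x, hZ hx⟩
    · intro U V hU hV hFU hFV
      obtain ⟨x, hxF, hxU⟩ := hFU
      obtain ⟨y, hyF, hyV⟩ := hFV
      have h1 : (hat F ∩ tilde U).Nonempty :=
        ⟨PtTop.toSob X x, closure_minimal (Set.singleton_subset_iff.2 hxF) hF,
          ⟨x, subset_closure rfl, hxU⟩⟩
      have h2 : (hat F ∩ tilde V).Nonempty :=
        ⟨PtTop.toSob X y, closure_minimal (Set.singleton_subset_iff.2 hyF) hF,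
          ⟨y, subset_closure rfl, hyV⟩⟩
      obtain ⟨Z, hZF, hZU, hZV⟩ := hT.2 _ _ (isOpen_tilde hU) (isOpen_tilde hV) h1 h2
      have : Z ∈ tilde (U ∩ V) := by
        rw [← tilde_inter hU hV]
        exact ⟨hZU, hZV⟩
      obtain ⟨z, hz1, hz2⟩ := this
      exact ⟨z, hZF hz1, hz2⟩
  refine ⟨(⟨F, hFirr, hF⟩ : IrreducibleCloseds X), ?_⟩
  change closure _ = _
  rw [closure_singleton_sob]
  rfl

/-! ### Universal property -/

section Lift

variable {Y : Type*} [TopologicalSpace Y]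

/-- the irreducible image of an irreducible closed set -/
theorem irr_image (f : X → Y) (hf : Continuous f) (Z : PtTop.Sob X) :
    IsIrreducible (f '' (ic Z : Set X)) :=
  (ic Z).isIrreducible.image f hf.continuousOn

variable [QuasiSober Y]

/-- the extension of a continuous map to a sober space -/
noncomputable def lift (f : X → Y) (hf : Continuous f) (Z : PtTop.Sob X) : Y :=
  (irr_image f hf Z).genericPoint

theorem lift_spec (f : X → Y) (hf : Continuous f) (Z : PtTop.Sob X) :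
    IsGenericPoint (lift f hf Z) (closure (f '' (ic Z : Set X))) :=
  (irr_image f hf Z).isGenericPoint_genericPoint_closure

theorem lift_mem_open_iff (f : X → Y) (hf : Continuous f) (Z : PtTop.Sob X) {V : Set Y}
    (hV : IsOpen V) : lift f hf Z ∈ V ↔ Z ∈ tilde (f ⁻¹' V) := by
  rw [(lift_spec f hf Z).mem_open_set_iff hV, closure_inter_open_nonempty_iff hV, mem_tilde]
  constructor
  · rintro ⟨_, ⟨x, hx, rfl⟩, hxV⟩
    exact ⟨x, hx, hxV⟩
  · rintro ⟨x, hx, hxV⟩
    exact ⟨f x, ⟨x, hx, rfl⟩, hxV⟩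

theorem continuous_lift (f : X → Y) (hf : Continuous f) : Continuous (lift f hf) := by
  constructor
  intro V hV
  have : lift f hf ⁻¹' V = tilde (f ⁻¹' V) := by
    ext Z
    exact lift_mem_open_iff f hf Z hV
  rw [this]
  exact isOpen_tilde (hV.preimage hf)

theorem lift_toSob [T0Space Y] (f : X → Y) (hf : Continuous f) (x : X) :
    lift f hf (PtTop.toSob X x) = f x := by
  apply (lift_spec f hf (PtTop.toSob X x)).eq
  have := (isGenericPoint_closure (x := x)).image hf
  rwa [toSob_coe]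

end Lift

/-! ### Compactness -/

theorem tilde_iUnion {ι : Sort*} (V : ι → Set X) : tilde (⋃ i, V i) = ⋃ i, tilde (V i) := by
  ext Z
  simp only [mem_tilde, Set.mem_iUnion]
  constructor
  · rintro ⟨x, hx1, hx2⟩
    obtain ⟨i, hi⟩ := Set.mem_iUnion.1 hx2
    exact ⟨i, x, hx1, hi⟩
  · rintro ⟨i, x, hx1, hi⟩
    exact ⟨x, hx1, Set.mem_iUnion.2 ⟨i, hi⟩⟩

theorem tilde_subset_tilde_iff {U V : Set X} (hU : IsOpen U) (hV : IsOpen V) :
    tilde U ⊆ tilde V ↔ U ⊆ V := by
  constructor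
  · intro h
    have := Set.preimage_mono (f := PtTop.toSob X) h
    rwa [preimage_tilde hU, preimage_tilde hV] at this
  · exact tilde_mono

theorem isCompact_tilde_iff {U : Set X} (hU : IsOpen U) : IsCompact (tilde U) ↔ IsCompact U := by
  constructor
  · intro hc
    rw [isCompact_iff_finite_subcover]
    intro ι V hV hUV
    have h1 : tilde U ⊆ ⋃ i, tilde (V i) := by
      rw [← tilde_iUnion]
      exact tilde_mono hUV
    obtain ⟨t, ht⟩ := hc.elim_finite_subcover (fun i => tilde (V i)) (fun i => isOpen_tilde (hV i)) h1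
    refine ⟨t, ?_⟩
    have h2 : (⋃ i ∈ t, tilde (V i)) = tilde (⋃ i ∈ t, V i) := by
      rw [tilde_iUnion]
      congr 1
      ext i : 1
      rw [tilde_iUnion]
    rw [h2] at ht
    exact (tilde_subset_tilde_iff hU
      (isOpen_iUnion fun i => isOpen_iUnion fun _ => hV i)).1 ht
  · intro hc
    rw [isCompact_iff_finite_subcover]
    intro ι S hS hUS
    have hS' : ∀ i, ∃ V : Set X, IsOpen V ∧ S i = tilde V := fun i => (isOpen_iff (S i)).1 (hS i)
    choose V hV hSV using hS'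
    have h1 : U ⊆ ⋃ i, V i := by
      rw [← tilde_subset_tilde_iff hU (isOpen_iUnion hV), tilde_iUnion]
      simpa only [← hSV] using hUS
    obtain ⟨t, ht⟩ := hc.elim_finite_subcover V hV h1
    refine ⟨t, ?_⟩
    have h2 : (⋃ i ∈ t, S i) = tilde (⋃ i ∈ t, V i) := by
      rw [tilde_iUnion]
      congr 1
      ext i : 1
      rw [tilde_iUnion]
      simp only [hSV]
    rw [h2]
    exact tilde_mono ht

theorem compactSpace_sob [CompactSpace X] : CompactSpace (PtTop.Sob X) := by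
  constructor
  rw [← tilde_univ, isCompact_tilde_iff isOpen_univ]
  exact isCompact_univ

theorem quasiSeparatedSpace_sob [QuasiSeparatedSpace X] : QuasiSeparatedSpace (PtTop.Sob X) := by
  constructor
  intro S T hS hSc hT hTc
  obtain ⟨U, hU, rfl⟩ := (isOpen_iff S).1 hS
  obtain ⟨V, hV, rfl⟩ := (isOpen_iff T).1 hT
  rw [tilde_inter hU hV, isCompact_tilde_iff (hU.inter hV)]
  exact QuasiSeparatedSpace.inter_isCompact U V hU ((isCompact_tilde_iff hU).1 hSc) hV
    ((isCompact_tilde_iff hV).1 hTc)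

theorem prespectralSpace_sob [PrespectralSpace X] : PrespectralSpace (PtTop.Sob X) := by
  constructor
  apply TopologicalSpace.isTopologicalBasis_of_isOpen_of_nhds (fun S hS => hS.1)
  intro Z S hZS hS
  obtain ⟨U, hU, rfl⟩ := (isOpen_iff S).1 hS
  obtain ⟨x, hx1, hx2⟩ := hZS
  obtain ⟨V, ⟨hV1, hV2⟩, hxV, hVU⟩ :=
    (PrespectralSpace.isTopologicalBasis (X := X)).exists_subset_of_mem_open hx2 hU
  exact ⟨tilde V, ⟨isOpen_tilde hV1, (isCompact_tilde_iff hV1).2 hV2⟩, ⟨x, hx1, hxV⟩,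
    tilde_mono hVU⟩

theorem noetherianSpace_sob [NoetherianSpace X] : NoetherianSpace (PtTop.Sob X) := by
  rw [noetherianSpace_iff_opens]
  intro S
  obtain ⟨U, hU, hSU⟩ := (isOpen_iff (S : Set (PtTop.Sob X))).1 S.isOpen
  rw [hSU, isCompact_tilde_iff hU]
  exact NoetherianSpace.isCompact U

theorem spectralSpace_sob [CompactSpace X] [PrespectralSpace X] [QuasiSeparatedSpace X] :
    SpectralSpace (PtTop.Sob X) where
  __ := t0Space_sob (X := X)
  __ := compactSpace_sob (X := X)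
  __ := quasiSober_sob (X := X)
  __ := quasiSeparatedSpace_sob (X := X)
  __ := prespectralSpace_sob (X := X)

end Groth.Agent.Lib.Helper10.SobLib
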