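import Mathlib

/-!
# Open quotients of spectral spaces by compact equivalence relations are spectral (helper10)

Pure topology.  `V`, `W` spectral spaces, `s t : W → V` spectral maps, `q : V → Y` a continuous open
surjection whose fibre product is covered by `W`.  Then `Y` is spectral.  The proofs of sobriety and
of the `T0` property use compactness of the constructible topology.
-/

set_option autoImplicit false

namespace Groth.Agent.Lib.Helper10.SpecQuot

open Topology TopologicalSpace Set

section Constructible

variable {X : Type*} [TopologicalSpace X]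

/-- closed in the constructible topology -/
def CClosed (C : Set X) : Prop := IsClosed[constructibleTopology X] C

theorem cclosed_of_compact_open {G : Set X} (hG : IsOpen G) (hGc : IsCompact G) : CClosed G := by
  unfold CClosed
  rw [← @isOpen_compl_iff _ _ (constructibleTopology X)]
  apply IsCompact.isOpen_constructibleTopology_of_isClosed
  · rw [compl_compl]; exact hGc
  · exact hG.isClosed_compl

theorem cclosed_of_isClosed [PrespectralSpace X] {Z : Set X} (hZ : IsClosed Z) : CClosed Z := by
  unfold CClosed
  rw [← @isOpen_compl_iff _ _ (constructibleTopology X)]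
  have hb := PrespectralSpace.isTopologicalBasis (X := X)
  rw [hb.open_eq_sUnion' hZ.isOpen_compl]
  apply @isOpen_sUnion _ (constructibleTopology X)
  rintro G ⟨⟨hGo, hGc⟩, -⟩
  exact hGc.isOpen_constructibleTopology_of_isOpen hGo

theorem CClosed.inter {C D : Set X} (hC : CClosed C) (hD : CClosed D) : CClosed (C ∩ D) := by
  unfold CClosed at *
  let _ := constructibleTopology X
  exact IsClosed.inter hC hD

theorem cclosed_iInter {ι : Sort*} {C : ι → Set X} (h : ∀ i, CClosed (C i)) :
    CClosed (⋂ i, C i) := by
  unfold CClosed at *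
  let _ := constructibleTopology X
  exact isClosed_iInter h

theorem cclosed_preimage {W V : Type*} [TopologicalSpace W] [TopologicalSpace V] {f : W → V}
    (hf : IsSpectralMap f) {C : Set V} (hC : CClosed C) : CClosed (f ⁻¹' C) := by
  have hcont : @Continuous W V (constructibleTopology W) (constructibleTopology V) f := by
    apply continuous_generateFrom_iff.mpr
    rintro G (⟨hGo, hGc⟩ | ⟨hGcl, hGc⟩)
    · exact (hf.isCompact_preimage_of_isOpen hGo hGc).isOpen_constructibleTopology_of_isOpen
        (hGo.preimage hf.toContinuous)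
    · apply IsCompact.isOpen_constructibleTopology_of_isClosed
      · rw [← preimage_compl]
        exact hf.isCompact_preimage_of_isOpen hGcl.isOpen_compl hGc
      · exact hGcl.preimage hf.toContinuous
  exact @IsClosed.preimage W V (constructibleTopology W) (constructibleTopology V) f hcont C hC

theorem compactSpace_constructible [SpectralSpace X] :
    @CompactSpace X (constructibleTopology X) := by
  have h1 : CompactSpace (WithConstructibleTopology X) := inferInstance
  exact @Function.Surjective.compactSpace (WithConstructibleTopology X) X _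
    (constructibleTopology X) (WithTopology.ofTopology (t := constructibleTopology X))
    (WithTopology.continuous_ofTopology _) h1 (WithTopology.ofTopology_surjective _)

/-- a directed family of nonempty constructibly closed subsets of a spectral space has a common
point -/
theorem nonempty_iInter_of_directed [SpectralSpace X] {ι : Type*} [Nonempty ι] (C : ι → Set X)
    (hd : Directed (· ⊇ ·) C) (hne : ∀ i, (C i).Nonempty) (hc : ∀ i, CClosed (C i)) :
    (⋂ i, C i).Nonempty := by
  have hcomp := compactSpace_constructible (X := X)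
  unfold CClosed at hc
  let _ := constructibleTopology X
  exact IsCompact.nonempty_iInter_of_directed_nonempty_isCompact_isClosed C hd hne
    (fun i => (hc i).isCompact) hc

/-- in a spectral space, every open neighbourhood contains a compact open neighbourhood -/
theorem exists_compact_open_nhd [PrespectralSpace X] {x : X} {O : Set X} (hO : IsOpen O)
    (hx : x ∈ O) : ∃ G : Set X, IsOpen G ∧ IsCompact G ∧ x ∈ G ∧ G ⊆ O := by
  obtain ⟨G, ⟨hGo, hGc⟩, hxG, hGO⟩ :=
    (PrespectralSpace.isTopologicalBasis (X := X)).exists_subset_of_mem_open hx hO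
  exact ⟨G, hGo, hGc, hxG, hGO⟩

/-- points of a spectral space are closed in the constructible topology -/
theorem cclosed_singleton [SpectralSpace X] (x : X) : CClosed ({x} : Set X) := by
  have h : ({x} : Set X) = closure {x} ∩ ⋂ G : {G : Set X // IsOpen G ∧ IsCompact G ∧ x ∈ G}, G.1 := by
    apply subset_antisymm
    · rintro _ rfl
      refine ⟨subset_closure rfl, ?_⟩
      simp only [mem_iInter]
      exact fun G => G.2.2.2
    · rintro z ⟨hz1, hz2⟩
      simp only [mem_iInter] at hz2
      have h1 : x ⤳ z := specializes_iff_mem_closure.mpr hz1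
      have h2 : z ⤳ x := by
        rw [specializes_iff_forall_open]
        intro O hO hxO
        obtain ⟨G, hGo, hGc, hxG, hGO⟩ := exists_compact_open_nhd hO hxO
        exact hGO (hz2 ⟨G, hGo, hGc, hxG⟩)
      exact (h2.antisymm h1).eq
  rw [h]
  exact (cclosed_of_isClosed isClosed_closure).inter
    (cclosed_iInter fun G => cclosed_of_compact_open G.2.1 G.2.2.1)

/-- **closure of a pro-constructible set**: a point in the closure of the image of a constructibly
closed set under a spectral map is a specialization of a point of the image -/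
theorem exists_specializes_of_mem_closure_image {W V : Type*} [TopologicalSpace W]
    [TopologicalSpace V] [SpectralSpace W] [SpectralSpace V] {f : W → V} (hf : IsSpectralMap f)
    {D : Set W} (hD : CClosed D) {x : V} (hx : x ∈ closure (f '' D)) : ∃ d ∈ D, f d ⤳ x := by
  let ι := {G : Set V // IsOpen G ∧ IsCompact G ∧ x ∈ G}
  have : Nonempty ι := ⟨⟨univ, isOpen_univ, isCompact_univ, mem_univ x⟩⟩
  let C : ι → Set W := fun G => D ∩ f ⁻¹' G.1
  have hd : Directed (· ⊇ ·) C := by
    intro G G'
    refine ⟨⟨G.1 ∩ G'.1, G.2.1.inter G'.2.1,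
      G.2.2.1.inter_of_isOpen G'.2.2.1 G.2.1 G'.2.1, G.2.2.2, G'.2.2.2⟩, ?_, ?_⟩
    · rintro w ⟨hw1, hw2⟩; exact ⟨hw1, hw2.1⟩
    · rintro w ⟨hw1, hw2⟩; exact ⟨hw1, hw2.2⟩
  have hne : ∀ G, (C G).Nonempty := by
    intro G
    obtain ⟨_, hzG, d, hd, rfl⟩ := mem_closure_iff.mp hx G.1 G.2.1 G.2.2.2
    exact ⟨d, hd, hzG⟩
  have hc : ∀ G, CClosed (C G) := fun G =>
    hD.inter (cclosed_preimage hf (cclosed_of_compact_open G.2.1 G.2.2.1))
  obtain ⟨d, hd'⟩ := nonempty_iInter_of_directed C hd hne hc
  simp only [mem_iInter] at hd'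
  refine ⟨d, (hd' ⟨univ, isOpen_univ, isCompact_univ, mem_univ x⟩).1, ?_⟩
  rw [specializes_iff_forall_open]
  intro O hO hxO
  obtain ⟨G, hGo, hGc, hxG, hGO⟩ := exists_compact_open_nhd hO hxO
  exact hGO (hd' ⟨G, hGo, hGc, hxG⟩).2

theorem isSpectralMap_id {V : Type*} [TopologicalSpace V] : IsSpectralMap (id : V → V) :=
  ⟨continuous_id, fun _ _ h => h⟩

/-- a point minimal in a closed set and in the closure of its intersection with a compact open
lies in the compact open -/
theorem mem_of_mem_closure_of_minimal {V : Type*} [TopologicalSpace V] [SpectralSpace V]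
    {Z G : Set V} (hZ : IsClosed Z) (hGo : IsOpen G) (hGc : IsCompact G) {ζ : V}
    (hmin : ∀ p ∈ Z, p ⤳ ζ → p = ζ) (hζ : ζ ∈ closure (G ∩ Z)) : ζ ∈ G := by
  have hζ' : ζ ∈ closure (id '' (G ∩ Z)) := by rwa [image_id]
  obtain ⟨d, hd, hs⟩ := exists_specializes_of_mem_closure_image isSpectralMap_id
    ((cclosed_of_compact_open hGo hGc).inter (cclosed_of_isClosed hZ)) hζ'
  have := hmin d hd.2 hs
  rw [← this]
  exact hd.1

/-- minimal generalizations inside a closed subset of a quasi-sober `T0` space -/
theorem exists_minimal_generalization {V : Type*} [TopologicalSpace V] [QuasiSober V] [T0Space V]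
    {W : Set V} (hW : IsClosed W) {w₀ : V} (hw₀ : w₀ ∈ W) :
    ∃ w' ∈ W, w' ⤳ w₀ ∧ ∀ w'' ∈ W, w'' ⤳ w' → w'' = w' := by
  have hcl : Topology.IsClosedEmbedding (Subtype.val : W → V) := hW.isClosedEmbedding_subtypeVal
  have : QuasiSober W := hcl.quasiSober
  obtain ⟨ξ, hξ⟩ := QuasiSober.sober (isIrreducible_irreducibleComponent (x := (⟨w₀, hw₀⟩ : W)))
    isClosed_irreducibleComponent
  refine ⟨ξ.1, ξ.2, ?_, ?_⟩
  · have h1 : ξ ⤳ (⟨w₀, hw₀⟩ : W) := by
      rw [specializes_iff_mem_closure, hξ.def]
      exact mem_irreducibleComponent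
    exact h1.map continuous_subtype_val
  · intro w'' hw'' hs
    have hs' : (⟨w'', hw''⟩ : W) ⤳ ξ := Topology.IsInducing.subtypeVal.specializes_iff.1 hs
    have hsub : irreducibleComponent (⟨w₀, hw₀⟩ : W) ⊆ closure {(⟨w'', hw''⟩ : W)} := by
      rw [← hξ.def]
      exact closure_minimal (singleton_subset_iff.2 (specializes_iff_mem_closure.1 hs'))
        isClosed_closure
    have heq : closure {(⟨w'', hw''⟩ : W)} = irreducibleComponent (⟨w₀, hw₀⟩ : W) :=
      eq_irreducibleComponent isIrreducible_singleton.closure.isPreirreducible hsub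
    have h2 : ξ ⤳ (⟨w'', hw''⟩ : W) := by
      rw [specializes_iff_mem_closure, hξ.def, ← heq]
      exact subset_closure rfl
    have := (hs'.antisymm h2).eq
    exact congrArg Subtype.val this

end Constructible

section Quotient

variable {V W Y : Type*} [TopologicalSpace V] [TopologicalSpace W] [TopologicalSpace Y]

/-- the data of an open quotient `q : V → Y` whose fibre product is covered by `W` through two
spectral maps -/
structure QuotData (q : V → Y) (s t : W → V) : Prop where
  cont : Continuous q
  isOpen : IsOpenMap q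
  hs : IsSpectralMap s
  ht : IsSpectralMap t
  comm : ∀ w, q (s w) = q (t w)
  fib : ∀ v v', q v = q v' → ∃ w, s w = v ∧ t w = v'

variable {q : V → Y} {s t : W → V}

theorem QuotData.preimage_image (h : QuotData q s t) (A : Set V) :
    q ⁻¹' (q '' A) = t '' (s ⁻¹' A) := by
  ext v'
  constructor
  · rintro ⟨a, ha, hav⟩
    obtain ⟨w, hw1, hw2⟩ := h.fib a v' hav
    exact ⟨w, by rw [mem_preimage, hw1]; exact ha, hw2⟩
  · rintro ⟨w, hw, rfl⟩
    exact ⟨s w, hw, h.comm w⟩

theorem QuotData.isCompact_preimage_image (h : QuotData q s t) [CompactSpace W] {G : Set V}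
    (hGo : IsOpen G) (hGc : IsCompact G) : IsCompact (q ⁻¹' (q '' G)) := by
  rw [h.preimage_image]
  exact (h.hs.isCompact_preimage_of_isOpen hGo hGc).image h.ht.toContinuous

theorem QuotData.isOpen_preimage_image (h : QuotData q s t) {G : Set V} (hGo : IsOpen G) :
    IsOpen (q ⁻¹' (q '' G)) :=
  (h.isOpen G hGo).preimage h.cont

variable [SpectralSpace V] [SpectralSpace W]

/-- the image of a point minimal in the preimage of a preirreducible closed set specializes to
every point of the set in the image of `q` -/
theorem QuotData.specializes_of_minimal (h : QuotData q s t) {T : Set Y} (hT : IsPreirreducible T)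
    (hTc : IsClosed T) {w₁ w₂ : V} (h₁ : q w₁ ∈ T) (h₂ : q w₂ ∈ T)
    (hmin : ∀ w ∈ q ⁻¹' T, w ⤳ w₁ → w = w₁) : q w₁ ⤳ q w₂ := by
  rw [specializes_iff_forall_open]
  intro O hO h2O
  have hO' : IsOpen (q ⁻¹' O) := hO.preimage h.cont
  obtain ⟨G, hGo, hGc, hwG, hGO⟩ := exists_compact_open_nhd hO' (show w₂ ∈ q ⁻¹' O from h2O)
  have himop : IsOpen (q '' G) := h.isOpen G hGo
  have hdense : T ⊆ closure (T ∩ q '' G) :=
    subset_closure_inter_of_isPreirreducible_of_isOpen hT himop ⟨_, h₂, w₂, hwG, rfl⟩
  have h3 : w₁ ∈ closure (q ⁻¹' (q '' G) ∩ q ⁻¹' T) := by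
    have := h.isOpen.preimage_closure_subset_closure_preimage (hdense h₁)
    rwa [preimage_inter, inter_comm] at this
  have h4 := mem_of_mem_closure_of_minimal (hTc.preimage h.cont) (h.isOpen_preimage_image hGo)
    (h.isCompact_preimage_image hGo hGc) hmin h3
  obtain ⟨v, hv, hvw⟩ := h4
  rw [← hvw]
  exact hGO hv

/-- irreducible closed subsets meeting the image of `q` have generic points -/
theorem QuotData.exists_isGenericPoint (h : QuotData q s t) {T : Set Y} (hT : IsIrreducible T)
    (hTc : IsClosed T) (hne : (T ∩ range q).Nonempty) : ∃ ξ, IsGenericPoint ξ T := by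
  have hWc : IsClosed (q ⁻¹' T) := hTc.preimage h.cont
  obtain ⟨_, hzT, w₀, rfl⟩ := hne
  obtain ⟨w₁, hw₁, -, hmin⟩ := exists_minimal_generalization hWc (w₀ := w₀) hzT
  refine ⟨q w₁, ?_⟩
  apply subset_antisymm
  · exact closure_minimal (singleton_subset_iff.2 hw₁) hTc
  · have hdense : T ⊆ closure (T ∩ range q) :=
      subset_closure_inter_of_isPreirreducible_of_isOpen hT.2 h.isOpen.isOpen_range
        ⟨_, hzT, w₀, rfl⟩
    refine hdense.trans (closure_minimal ?_ isClosed_closure)
    rintro _ ⟨hz, w, rfl⟩
    exact specializes_iff_mem_closure.1 (h.specializes_of_minimal hT.2 hTc hw₁ hz hmin)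

/-- inseparable points in the image of `q` are equal -/
theorem QuotData.eq_of_inseparable (h : QuotData q s t) {v₁ v₂ : V}
    (hins : Inseparable (q v₁) (q v₂)) : q v₁ = q v₂ := by
  have hcl : closure {q v₁} = closure {q v₂} := inseparable_iff_closure_eq.mp hins
  set Z : Set V := q ⁻¹' closure {q v₁} with hZ
  have hZc : IsClosed Z := isClosed_closure.preimage h.cont
  have hv₁ : v₁ ∈ Z := subset_closure rfl
  obtain ⟨ζ, hζZ, -, hmin⟩ := exists_minimal_generalization hZc hv₁
  have key : ∀ v : V, closure {q v} = closure {q v₁} → q ζ = q v := by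
    intro v hv
    have h1 : ζ ∈ closure (q ⁻¹' {q v}) := by
      apply h.isOpen.preimage_closure_subset_closure_preimage
      rw [hv]
      exact hζZ
    have h2 : q ⁻¹' {q v} = t '' (s ⁻¹' {v}) := by
      rw [← h.preimage_image, image_singleton]
    rw [h2] at h1
    obtain ⟨d, hd, hdζ⟩ := exists_specializes_of_mem_closure_image h.ht
      (cclosed_preimage h.hs (cclosed_singleton v)) h1
    have hd' : s d = v := hd
    have htd : t d ∈ Z := by
      change q (t d) ∈ closure {q v₁}
      rw [← h.comm, hd', ← hv]
      exact subset_closure rfl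
    have := hmin (t d) htd hdζ
    rw [← this, ← h.comm, hd']
  exact (key v₁ rfl).symm.trans (key v₂ hcl.symm)

/-- **an open quotient of a spectral space by a compact equivalence relation is spectral** -/
theorem QuotData.spectralSpace (h : QuotData q s t) (hsurj : Function.Surjective q) :
    SpectralSpace Y := by
  have hb : IsTopologicalBasis (range fun G : {G : Set V // IsOpen G ∧ IsCompact G} => q '' G.1) := by
    apply isTopologicalBasis_of_isOpen_of_nhds
    · rintro _ ⟨G, rfl⟩
      exact h.isOpen G.1 G.2.1
    · intro y O hy hO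
      obtain ⟨v, rfl⟩ := hsurj y
      obtain ⟨G, hGo, hGc, hvG, hGO⟩ := exists_compact_open_nhd (hO.preimage h.cont)
        (show v ∈ q ⁻¹' O from hy)
      exact ⟨_, ⟨⟨G, hGo, hGc⟩, rfl⟩, ⟨v, hvG, rfl⟩, image_subset_iff.mpr hGO⟩
  exact
    { toT0Space := ⟨fun y₁ y₂ hy => by
        obtain ⟨v₁, rfl⟩ := hsurj y₁
        obtain ⟨v₂, rfl⟩ := hsurj y₂
        exact h.eq_of_inseparable hy⟩
      toCompactSpace := Function.Surjective.compactSpace h.cont hsurj
      toQuasiSober := ⟨fun {T} hT hTc => by
        obtain ⟨y, hy⟩ := hT.1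
        exact h.exists_isGenericPoint hT hTc ⟨y, hy, hsurj y⟩⟩
      toQuasiSeparatedSpace := QuasiSeparatedSpace.of_isTopologicalBasis hb (fun G G' => by
        have e : q '' G.1 ∩ q '' G'.1 = q '' (G.1 ∩ q ⁻¹' (q '' G'.1)) := by
          rw [image_inter_preimage]
        rw [e]
        exact ((G.2.2.inter_of_isOpen (h.isCompact_preimage_image G'.2.1 G'.2.2) G.2.1
          (h.isOpen_preimage_image G'.2.1))).image h.cont)
      toPrespectralSpace := PrespectralSpace.of_isTopologicalBasis' hb
        (fun G => G.2.2.image h.cont) }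

end Quotient

end Groth.Agent.Lib.Helper10.SpecQuot
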