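import Groth.Agent.Lib.Helper10.SpectralQuot
import Groth.Agent.Lib.Helper10.OpenSubT2
import Groth.Agent.Lib.Helper17.SpQc
import Groth.Agent.Lib.Helper17.PointsTop3
import Groth.Agent.Lib.Helper17.PointsQc2

/-!
# The space of points of an algebraic stack with quasi-compact diagonal is locally spectral (helper10)

For an affine smooth chart `x : (Sch/V) ⟶ 𝒳` of an algebraic stack whose diagonal is quasi-compact
(over a quasi-separated base) the fibre product `V ×_𝒳 V` is quasi-compact, so it has an affine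
smooth surjective chart `W`; the open map `V → |𝒳|` then presents its image as the quotient of the
spectral space `V` by the image of the spectral space `W`, and `SpecQuot.QuotData.spectralSpace`
applies.
-/

set_option autoImplicit false
set_option backward.isDefEq.respectTransparency false
set_option backward.isDefEq.respectTransparency.types false
universe u

namespace Groth.Agent.Lib.Helper10.SpSt

open CategoryTheory CategoryTheory.Limits AlgebraicGeometry Opposite AlgSp FibCat Stk AlgSt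
open Groth.Agent.Lib.Helper17 Groth.Agent.Lib.Helper17.FP Groth.Agent.Lib.Helper17.EO
  Groth.Agent.Lib.Helper17.PD Groth.Agent.Lib.Helper17.AT Groth.Agent.Lib.Helper17.AB
  Groth.Agent.Lib.Helper17.AOS Groth.Agent.Lib.Helper17.ACP Groth.Agent.Lib.Helper17.PTS
open Groth.Agent.Lib.Helper10.SpecQuot

variable {S : Scheme.{u}}

/-- an affine scheme is a spectral space -/
theorem spectralSpace_of_isAffine (X : Scheme.{u}) [IsAffine X] : SpectralSpace ↥X := by
  have : SpectralSpace ↥(Spec Γ(X, ⊤)) := inferInstanceAs (SpectralSpace (PrimeSpectrum _))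
  exact (X.isoSpec.hom.isOpenEmbedding).spectralSpace

/-- the slice of a quasi-compact scheme is a quasi-compact stack -/
theorem isQuasiCompact_overCat (V : Over S) [CompactSpace ↥V.left] :
    AlgSt.IsQuasiCompact (FibCat.overCat V) :=
  QCM.isQuasiCompact_of_equiv (toOverCat V) (AD.toOverCat_isEquivOver V)
    (SQC.isQuasiCompact_ofSch V)

/-- the equivalence relation of a chart on points, read off a chart of `V ×_𝒳 V` surjective on
points -/
theorem rel_of_chart {𝒳 : AlgSt.Cat S} (hX : FibCat.IsFibGrpd 𝒳.p) {V W : Over S}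
    (x : FibCat.overCat V ⥤ᵇ 𝒳) (w : FibCat.overCat W ⥤ᵇ FibCat.fp x x)
    (hw : AlgSt.IsSurjective w) :
    ∃ (s t : W ⟶ V),
      (∀ p : ↥W.left, AlgSt.Points.ofChart x (s.left p) = AlgSt.Points.ofChart x (t.left p)) ∧
      ∀ v v' : ↥V.left, AlgSt.Points.ofChart x v = AlgSt.Points.ofChart x v' →
        ∃ p : ↥W.left, s.left p = v ∧ t.left p = v' := by
  have hV : FibCat.IsFibGrpd (FibCat.overCat V).p := FG.isFibGrpd_overForget V
  let Φa : FibCat.overCat W ⥤ᵇ FibCat.overCat V := BasedFunctor.comp w (FibCat.fpFst x x)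
  let Φb : FibCat.overCat W ⥤ᵇ FibCat.overCat V := BasedFunctor.comp w (FibCat.fpSnd x x)
  let s : W ⟶ V := Groth.Agent.S6443.fOf Φa
  let t : W ⟶ V := Groth.Agent.S6443.fOf Φb
  have ia : Φa ≅ AlgSt.overMap s := Groth.Agent.S6443.isoOverMap Φa
  have ib : Φb ≅ AlgSt.overMap t := Groth.Agent.S6443.isoOverMap Φb
  have hiso : BasedFunctor.comp (AlgSt.overMap s) x ≅ BasedFunctor.comp (AlgSt.overMap t) x := by
    let Q : (FibCat.overCat W : AlgSt.Cat S) ⟶ FibCat.fp x x := w
    let X' : (FibCat.overCat V : AlgSt.Cat S) ⟶ 𝒳 := x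
    have i1 : BasedFunctor.comp (FibCat.fpFst x x) x ≅ BasedFunctor.comp (FibCat.fpSnd x x) x :=
      FibCat.fpIso x x
    have i2 := Bicategory.whiskerLeftIso Q i1
    have i5 := Bicategory.whiskerRightIso
      (f := (Φa : (FibCat.overCat W : AlgSt.Cat S) ⟶ FibCat.overCat V)) ia X'
    have i6 := Bicategory.whiskerRightIso
      (f := (Φb : (FibCat.overCat W : AlgSt.Cat S) ⟶ FibCat.overCat V)) ib X'
    exact i5.symm ≪≫ i2 ≪≫ i6
  refine ⟨s, t, fun p => ?_, fun v v' h => ?_⟩
  · rw [← ofChart_overMap s x p, ← ofChart_overMap t x p]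
    exact ofChart_congr hiso p
  · obtain ⟨ω, hω1, hω2⟩ := exists_point_fp hV hX hV x x
      (AlgSt.Points.ofChart (BasedFunctor.id _) v) (AlgSt.Points.ofChart (BasedFunctor.id _) v') h
    obtain ⟨ζ, rfl⟩ := hw ω
    obtain ⟨p, rfl⟩ := exists_ofChart_id W ζ
    refine ⟨p, ?_, ?_⟩
    · apply ofChart_id_injective V
      rw [← hω1, ← ofChart_overMap_id, ← map_comp]
      exact (ofChart_congr ia p).symm
    · apply ofChart_id_injective V
      rw [← hω2, ← ofChart_overMap_id, ← map_comp]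
      exact (ofChart_congr ib p).symm

/-- **an affine smooth chart of an algebraic stack with quasi-compact diagonal presents its image
as an open quotient of a spectral space by a spectral relation** -/
theorem exists_quotData_ofChart [QuasiSeparatedSpace ↥S] {𝒳 : AlgSt.Cat S}
    (h𝒳 : AlgSt.IsAlgStack Scheme.fppfPrecoverage 𝒳)
    (hΔ : AlgSt.RepByAlgSpWith AlgSp.IsQuasiCompactMor (FibCat.diag (FibCat.toSelf 𝒳)))
    {V : Over S} [IsAffine V.left] (x : FibCat.overCat V ⥤ᵇ 𝒳)
    (hx : AlgSt.RepByAlgSpWith (LocP @Smooth) x) :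
    ∃ (W : Over S) (_ : IsAffine W.left) (s t : W ⟶ V),
      QuotData (AlgSt.Points.ofChart x) (fun p : ↥W.left => s.left p)
        (fun p : ↥W.left => t.left p) := by
  have hX := h𝒳.isStack.1
  have hV : FibCat.IsFibGrpd (FibCat.overCat V).p := FG.isFibGrpd_overForget V
  have hO : FibCat.IsFibGrpd (FibCat.selfOver (Over S)).p := SP.isFibGrpd_selfOver
  have hfpf : FibCat.IsFibGrpd (FibCat.fp x x).p := SP.isFibGrpd_fp _ _ hV hV hX
  have hqcV : AlgSt.IsQuasiCompact (FibCat.overCat V) := isQuasiCompact_overCat V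
  have hB : AlgSt.IsQuasiCompact (FibCat.fp (BasedFunctor.comp x (FibCat.toSelf 𝒳))
      (BasedFunctor.comp x (FibCat.toSelf 𝒳))) :=
    QC4.isQuasiCompact_prod' hV hV hqcV hqcV _ _
  have hfp : AlgSt.IsQuasiCompact (FibCat.fp x x) :=
    QC3.isQuasiCompact_fp_of_diag hV hV hX hO x (FibCat.toSelf 𝒳) x hΔ hB
  obtain ⟨W, w, hWaff, -, hwsurj⟩ := hfp
  have hw : AlgSt.IsSurjective w := isSurjective_of_repWith hfpf w hwsurj
  obtain ⟨s, t, hcomm, hfib⟩ := rel_of_chart hX x w hw
  refine ⟨W, hWaff, s, t, ?_⟩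
  exact
    { cont := continuous_ofChart h𝒳 x
      isOpen := isOpenMap_ofChart hX h𝒳.diag x (flat_of_smooth x hx) (lfp_of_smooth x hx)
      hs := s.left.isSpectralMap
      ht := t.left.isSpectralMap
      comm := hcomm
      fib := hfib }

/-- corestriction of a quotient datum to the image -/
theorem quotData_rangeFactorization {V W Y : Type*} [TopologicalSpace V] [TopologicalSpace W]
    [TopologicalSpace Y] {q : V → Y} {s t : W → V} (h : QuotData q s t) :
    QuotData (Set.rangeFactorization q) s t :=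
  { cont := h.cont.subtype_mk _
    isOpen := fun G hG => by
      have e : Set.rangeFactorization q '' G = Subtype.val ⁻¹' (q '' G) := by
        ext ⟨y, hy⟩
        constructor
        · rintro ⟨v, hv, hvy⟩
          exact ⟨v, hv, congrArg Subtype.val hvy⟩
        · rintro ⟨v, hv, hvy⟩
          exact ⟨v, hv, Subtype.ext hvy⟩
      rw [e]
      exact (h.isOpen G hG).preimage continuous_subtype_val
    hs := h.hs
    ht := h.ht
    comm := fun w => Subtype.ext (h.comm w)
    fib := fun v v' hvv' => h.fib v v' (congrArg Subtype.val hvv') }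

/-- **the image of an affine smooth chart of an algebraic stack with quasi-compact diagonal is a
spectral space** -/
theorem spectralSpace_range_ofChart [QuasiSeparatedSpace ↥S] {𝒳 : AlgSt.Cat S}
    (h𝒳 : AlgSt.IsAlgStack Scheme.fppfPrecoverage 𝒳)
    (hΔ : AlgSt.RepByAlgSpWith AlgSp.IsQuasiCompactMor (FibCat.diag (FibCat.toSelf 𝒳)))
    {V : Over S} [IsAffine V.left] (x : FibCat.overCat V ⥤ᵇ 𝒳)
    (hx : AlgSt.RepByAlgSpWith (LocP @Smooth) x) :
    SpectralSpace ↥(Set.range (AlgSt.Points.ofChart x)) := by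
  obtain ⟨W, hWaff, s, t, h⟩ := exists_quotData_ofChart h𝒳 hΔ x hx
  have := spectralSpace_of_isAffine V.left
  have := spectralSpace_of_isAffine W.left
  exact (quotData_rangeFactorization h).spectralSpace Set.rangeFactorization_surjective

/-- **the space of points of a quasi-compact algebraic stack with quasi-compact diagonal is
spectral** -/
theorem spectralSpace_points [QuasiSeparatedSpace ↥S] {𝒳 : AlgSt.Cat S}
    (h𝒳 : AlgSt.IsAlgStack Scheme.fppfPrecoverage 𝒳) (hqc : AlgSt.IsQuasiCompact 𝒳)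
    (hΔ : AlgSt.RepByAlgSpWith AlgSp.IsQuasiCompactMor (FibCat.diag (FibCat.toSelf 𝒳))) :
    SpectralSpace (AlgSt.Points 𝒳) := by
  obtain ⟨V, x, hVaff, hxs, hxsurj⟩ := hqc
  obtain ⟨W, hWaff, s, t, h⟩ := exists_quotData_ofChart h𝒳 hΔ x hxs
  have := spectralSpace_of_isAffine V.left
  have := spectralSpace_of_isAffine W.left
  exact h.spectralSpace (ofChart_surjective x (isSurjective_of_repWith h𝒳.isStack.1 x hxsurj))

/-- **every point of an algebraic stack with quasi-compact diagonal has an open spectral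
neighbourhood** -/
theorem exists_spectral_nhd [QuasiSeparatedSpace ↥S] {𝒳 : AlgSt.Cat S}
    (h𝒳 : AlgSt.IsAlgStack Scheme.fppfPrecoverage 𝒳)
    (hΔ : AlgSt.RepByAlgSpWith AlgSp.IsQuasiCompactMor (FibCat.diag (FibCat.toSelf 𝒳)))
    (ξ : AlgSt.Points 𝒳) :
    ∃ U : Set (AlgSt.Points 𝒳), IsOpen U ∧ ξ ∈ U ∧ SpectralSpace ↥U := by
  have hX := h𝒳.isStack.1
  obtain ⟨U₀, x₀, hxs, hxsurj⟩ := h𝒳.atlas
  obtain ⟨u₀, rfl⟩ := ofChart_surjective x₀ (isSurjective_of_repWith hX x₀ hxsurj) ξ
  obtain ⟨O, hOaff, hOmem, -⟩ :=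
    exists_isAffineOpen_mem_and_subset (x := u₀) (U := (⊤ : U₀.left.Opens)) trivial
  let V'' : Over S := Over.mk (O.ι ≫ U₀.hom)
  let j : V'' ⟶ U₀ := Over.homMk O.ι rfl
  have hV''aff : IsAffine V''.left := hOaff
  have hV''f : FibCat.IsFibGrpd (FibCat.overCat V'').p := FG.isFibGrpd_overForget V''
  have hjsm : Smooth j.left := by change Smooth O.ι; infer_instance
  have hj1 : AlgSt.RepByAlgSpWith (LocP @Smooth) (AlgSt.overMap j) :=
    CT.repWith_overMap _ AFP.sm_bc j
      (Groth.Agent.Lib.Helper23.AlgSpMor.locP_yon_map_of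
        Groth.Agent.Lib.Helper30.EtLocalInst.etLocal_smooth j hjsm)
  have hx's : AlgSt.RepByAlgSpWith (LocP @Smooth) (BasedFunctor.comp (AlgSt.overMap j) x₀) :=
    repWith_comp_of_schLocal' hV''f hX _ AFP.sm_bc AFP.sm_cp CT.sm_schLocal _ x₀ hj1 hxs
  refine ⟨Set.range (AlgSt.Points.ofChart (BasedFunctor.comp (AlgSt.overMap j) x₀)), ?_, ?_,
    spectralSpace_range_ofChart h𝒳 hΔ _ hx's⟩
  · exact (isOpenMap_ofChart hX h𝒳.diag _ (flat_of_smooth _ hx's) (lfp_of_smooth _ hx's)).isOpen_range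
  · let v' : ↥V''.left := ⟨u₀, hOmem⟩
    have e1 : j.left v' = u₀ := rfl
    exact ⟨v', by rw [ofChart_overMap j x₀ v', e1]⟩

/-- **the space of points of an algebraic stack with quasi-compact diagonal is locally spectral,
quasi-sober and `T0`** -/
theorem locally_spectral [QuasiSeparatedSpace ↥S] {𝒳 : AlgSt.Cat S}
    (h𝒳 : AlgSt.IsAlgStack Scheme.fppfPrecoverage 𝒳)
    (hΔ : AlgSt.RepByAlgSpWith AlgSp.IsQuasiCompactMor (FibCat.diag (FibCat.toSelf 𝒳))) :
    (∀ x : AlgSt.Points 𝒳, ∃ U : Set (AlgSt.Points 𝒳), IsOpen U ∧ x ∈ U ∧ SpectralSpace ↥U) ∧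
      QuasiSober (AlgSt.Points 𝒳) ∧ T0Space (AlgSt.Points 𝒳) := by
  have h1 := exists_spectral_nhd h𝒳 hΔ
  refine ⟨h1, ?_, ?_⟩
  · have hq : ∀ s : {U : Set (AlgSt.Points 𝒳) | IsOpen U ∧ SpectralSpace ↥U},
        QuasiSober ↥(s : Set (AlgSt.Points 𝒳)) := fun s => by
      have := s.2.2
      infer_instance
    refine quasiSober_of_open_cover
      {U : Set (AlgSt.Points 𝒳) | IsOpen U ∧ SpectralSpace ↥U} (fun s => s.2.1) ?_
    rw [Set.top_eq_univ, Set.eq_univ_iff_forall]
    intro ξ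
    obtain ⟨U, hUo, hξ, hUs⟩ := h1 ξ
    exact ⟨U, ⟨hUo, hUs⟩, hξ⟩
  · refine T0Space.of_open_cover fun ξ => ?_
    obtain ⟨U, hUo, hξ, hUs⟩ := h1 ξ
    exact ⟨U, hξ, hUo, inferInstance⟩

end Groth.Agent.Lib.Helper10.SpSt
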