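import Groth.Prelude.Def_CohTop
import Mathlib.Topology.Sheaves.Flasque
import Mathlib.CategoryTheory.Sites.Limits
import Mathlib.CategoryTheory.Sites.Abelian
import Mathlib.Algebra.Category.Grp.Limits
import Mathlib.Algebra.Category.Grp.AB
import Mathlib.Topology.Sheaves.Limits

/-!
# Sections of a limit of a tower of abelian sheaves
-/

set_option autoImplicit false
universe u
open CategoryTheory CategoryTheory.Limits TopologicalSpace Opposite

namespace Groth.Agent.Lib.Helper10.TowerSections

variable {X : TopCat.{u}}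

/-- sections over `U` as a functor to types -/
noncomputable abbrev Γ (U : Opens X) : CohTop.Ab X ⥤ Type u :=
  sheafToPresheaf _ _ ⋙ (evaluation _ _).obj (op U) ⋙ forget AddCommGrpCat.{u}

/-- the transition map `M_{n+1} ⟶ M_n` -/
abbrev tr (M : ℕᵒᵖ ⥤ CohTop.Ab X) (n : ℕ) : M.obj (op (n + 1)) ⟶ M.obj (op n) :=
  M.map (homOfLE (Nat.le_succ n)).op

variable (M : ℕᵒᵖ ⥤ CohTop.Ab X) (U : Opens X)

/-- the limit cone of sections -/
noncomputable def secLimit : IsLimit ((Γ U).mapCone (limit.cone M)) :=
  isLimitOfPreserves (Γ U) (limit.isLimit M)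

/-- the `n`-th component of a section of the limit -/
noncomputable def comp (n : ℕ) (s : (limit M : CohTop.Ab X).obj.obj (op U)) :
    (M.obj (op n)).obj.obj (op U) :=
  (limit.π M (op n)).hom.app (op U) s

theorem comp_tr (n : ℕ) (s : (limit M : CohTop.Ab X).obj.obj (op U)) :
    (tr M n).hom.app (op U) (comp M U (n + 1) s) = comp M U n s := by
  have h := limit.w M (homOfLE (Nat.le_succ n)).op
  change _ = (limit.π M (op n)).hom.app (op U) s
  rw [← h]
  rfl

theorem sec_ext (s s' : (limit M : CohTop.Ab X).obj.obj (op U))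
    (h : ∀ n, comp M U n s = comp M U n s') : s = s' := by
  apply (Types.isLimitEquivSections (secLimit M U)).injective
  apply Subtype.ext
  funext j
  exact h j.unop

/-- compatibility of a family along all maps of `ℕᵒᵖ` from successive compatibility -/
theorem compat_of_succ (F : ℕᵒᵖ ⥤ Type u) (x : ∀ n : ℕ, F.obj (op n))
    (hx : ∀ n, F.map (homOfLE (Nat.le_succ n)).op (x (n + 1)) = x n) :
    ∀ (m n : ℕ) (h : m ≤ n), F.map (homOfLE h).op (x n) = x m := by
  intro m n h
  induction n, h using Nat.le_induction with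
  | base =>
    have : (homOfLE (le_refl m)).op = 𝟙 (op m) := rfl
    rw [this, F.map_id]
    rfl
  | succ n hmn ih =>
    have : (homOfLE (hmn.trans (Nat.le_succ n))).op =
        (homOfLE (Nat.le_succ n)).op ≫ (homOfLE hmn).op := rfl
    rw [this, F.map_comp]
    change F.map (homOfLE hmn).op (F.map (homOfLE (Nat.le_succ n)).op (x (n + 1))) = x m
    rw [hx, ih]

theorem exists_sec (x : ∀ n : ℕ, (M.obj (op n)).obj.obj (op U))
    (hx : ∀ n, (tr M n).hom.app (op U) (x (n + 1)) = x n) :
    ∃ s : (limit M : CohTop.Ab X).obj.obj (op U), ∀ n, comp M U n s = x n := by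
  have hc := compat_of_succ (M ⋙ Γ U) (fun n => x n) hx
  let sec : (M ⋙ Γ U).sections := ⟨fun j => x j.unop, by
    intro j j' f
    have := hc j'.unop j.unop (leOfHom f.unop)
    exact this⟩
  refine ⟨(Types.isLimitEquivSections (secLimit M U)).symm sec, ?_⟩
  intro n
  exact Types.isLimitEquivSections_symm_apply (secLimit M U) sec (op n)

/-- restriction commutes with components -/
theorem comp_res {U V : Opens X} (i : op U ⟶ op V) (n : ℕ)
    (s : (limit M : CohTop.Ab X).obj.obj (op U)) :
    comp M V n ((limit M : CohTop.Ab X).obj.map i s) = (M.obj (op n)).obj.map i (comp M U n s) := by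
  have := (limit.π M (op n)).hom.naturality i
  exact congrArg (fun φ => φ s) (congrArg (fun φ => (ConcreteCategory.hom φ : _ → _)) this)


/-- the short exact sequence of an epimorphism and its kernel -/
theorem shortExact_kernel {F G : CohTop.Ab X} (φ : F ⟶ G) [Epi φ] :
    (ShortComplex.mk (kernel.ι φ) φ (kernel.condition φ)).ShortExact :=
  ShortComplex.ShortExact.mk' (ShortComplex.exact_of_f_is_kernel _ (kernelIsKernel φ))
    inferInstance inferInstance

theorem surj_of_flasque_kernel {F G : CohTop.Ab X} (φ : F ⟶ G) [Epi φ]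
    (hK : TopCat.Sheaf.IsFlasque (kernel φ : CohTop.Ab X)) (U : Opens X)
    (t : G.obj.obj (op U)) : ∃ t' : F.obj.obj (op U), φ.hom.app (op U) t' = t := by
  have hS := shortExact_kernel φ
  haveI : TopCat.Sheaf.IsFlasque (ShortComplex.mk (kernel.ι φ) φ (kernel.condition φ)).X₁ := hK
  have := TopCat.Sheaf.IsFlasque.epi_of_shortExact (U := U) hS
  exact (AddCommGrpCat.epi_iff_surjective _).mp this t

theorem step {F G : CohTop.Ab X} (φ : F ⟶ G) [Epi φ]
    (hK : TopCat.Sheaf.IsFlasque (kernel φ : CohTop.Ab X)) {U V : Opens X} (i : op U ⟶ op V)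
    (t : G.obj.obj (op U)) (s' : F.obj.obj (op V))
    (h : φ.hom.app (op V) s' = G.obj.map i t) :
    ∃ t' : F.obj.obj (op U), φ.hom.app (op U) t' = t ∧ F.obj.map i t' = s' := by
  have hS := shortExact_kernel φ
  obtain ⟨t₁, ht₁⟩ := surj_of_flasque_kernel φ hK U t
  -- δ = t₁|V - s'
  have hδ : φ.hom.app (op V) (F.obj.map i t₁ - s') = 0 := by
    rw [map_sub, h]
    have := congrArg (fun ψ => (ConcreteCategory.hom ψ : _ → _) t₁) (φ.hom.naturality i)
    simp only [ConcreteCategory.comp_apply] at this
    rw [this, ht₁, sub_self]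
  obtain ⟨k, hk⟩ := TopCat.Sheaf.sections_exact_of_left_exact (U := V) hS.1 hS.2
    (F.obj.map i t₁ - s') hδ
  haveI : Epi ((kernel φ : CohTop.Ab X).obj.map i) := hK.epi i
  obtain ⟨k', hk'⟩ := (AddCommGrpCat.epi_iff_surjective _).mp this k
  refine ⟨t₁ - (kernel.ι φ).hom.app (op U) k', ?_, ?_⟩
  · rw [map_sub, ht₁]
    have h0 : (kernel.ι φ).hom.app (op U) ≫ φ.hom.app (op U) = 0 := by
      rw [← NatTrans.comp_app, ← ObjectProperty.FullSubcategory.comp_hom, kernel.condition]
      rfl
    have := congrArg (fun ψ => (ConcreteCategory.hom ψ : _ → _) k') h0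
    simp only [ConcreteCategory.comp_apply] at this
    rw [this]
    simp
  · rw [map_sub]
    have := congrArg (fun ψ => (ConcreteCategory.hom ψ : _ → _) k') ((kernel.ι φ).hom.naturality i)
    simp only [ConcreteCategory.comp_apply] at this
    rw [← this, hk', hk]
    abel


/-- surjectivity on sections implies epi -/
theorem epi_of_surj {F G : CohTop.Ab X} (φ : F ⟶ G)
    (h : ∀ (U : Opens X) (t : G.obj.obj (op U)), ∃ s : F.obj.obj (op U), φ.hom.app (op U) s = t) :
    Epi φ := by
  apply (TopCat.Sheaf.isLocallySurjective_iff_epi (F := F) (G := G) φ).mp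
  rw [TopCat.Presheaf.isLocallySurjective_iff]
  intro U t x hx
  obtain ⟨s, hs⟩ := h U t
  refine ⟨U, le_rfl, ⟨s, ?_⟩, hx⟩
  rw [hs]
  exact (TopCat.Presheaf.restrict_self (F := G.obj) t).symm

end Groth.Agent.Lib.Helper10.TowerSections
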