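import Mathlib.LinearAlgebra.Eigenspace.Charpoly
import Mathlib.LinearAlgebra.Eigenspace.Minpoly
import Mathlib.LinearAlgebra.Charpoly.BaseChange
import Mathlib.LinearAlgebra.Trace
import Mathlib.FieldTheory.IsAlgClosed.AlgebraicClosure
import Mathlib.RingTheory.IntegralClosure.IsIntegralClosure.Basic
import Mathlib.RingTheory.Trace.Defs
import Mathlib.RingTheory.TensorProduct.Free

/-!
# Integrality of the trace of an integral endomorphism (finite-dimensional vector space over a field)

`isIntegral_trace_end`: if `φ` is an endomorphism of a finite-dimensional `K`-vector space killed by a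
monic polynomial with coefficients in `R`, then `trace φ` is integral over `R`.
`isIntegral_algebra_trace`: for a finite-dimensional commutative `K`-algebra `L` (not necessarily a
field) and `x : L` integral over `R`, `Algebra.trace K L x` is integral over `R`.
-/

namespace Groth.Agent.Lib.Helper10.TraceIntegral

open Polynomial TensorProduct

theorem isIntegral_trace_end {R K V : Type*} [CommRing R] [Field K] [Algebra R K]
    [AddCommGroup V] [Module K V] [FiniteDimensional K V] (φ : Module.End K V) (p : R[X])
    (hp : p.Monic) (hφ : Polynomial.aeval φ (p.map (algebraMap R K)) = 0) :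
    IsIntegral R (LinearMap.trace K V φ) := by
  let Ω := AlgebraicClosure K
  let φΩ : Module.End Ω (Ω ⊗[K] V) := φ.baseChange Ω
  have h1 : LinearMap.trace Ω _ φΩ = algebraMap K Ω (LinearMap.trace K V φ) :=
    LinearMap.trace_baseChange φ Ω
  have h3 : LinearMap.trace Ω _ φΩ = φΩ.charpoly.roots.sum :=
    Module.End.trace_eq_sum_roots_charpoly_of_splits (IsAlgClosed.splits _)
  have hker : Polynomial.aeval φΩ ((p.map (algebraMap R K)).map (algebraMap K Ω)) = 0 := by
    have : φΩ = Module.End.baseChangeHom K Ω V φ := rfl
    rw [this, Polynomial.aeval_map_algebraMap, Polynomial.aeval_algHom_apply, hφ, map_zero]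
  rw [← isIntegral_algebraMap_iff (algebraMap K Ω).injective, ← h1, h3]
  refine IsIntegral.multiset_sum ?_
  intro μ hμ
  rw [Polynomial.mem_roots'] at hμ
  have hev : φΩ.HasEigenvalue μ := (Module.End.hasEigenvalue_iff_isRoot_charpoly φΩ μ).2 hμ.2
  obtain ⟨v, hv⟩ := hev.exists_hasEigenvector
  have h5 := Module.End.aeval_apply_of_hasEigenvector
    (p := (p.map (algebraMap R K)).map (algebraMap K Ω)) hv
  rw [hker, LinearMap.zero_apply] at h5
  have h6 : ((p.map (algebraMap R K)).map (algebraMap K Ω)).eval μ = 0 := by
    rcases smul_eq_zero.1 h5.symm with h | h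
    · exact h
    · exact absurd h hv.2
  refine ⟨p, hp, ?_⟩
  rw [Polynomial.map_map, Polynomial.eval_map] at h6
  rw [← h6, IsScalarTower.algebraMap_eq R K Ω]

theorem isIntegral_algebra_trace {R K L : Type*} [CommRing R] [Field K] [Algebra R K]
    [CommRing L] [Algebra K L] [Algebra R L] [IsScalarTower R K L] [FiniteDimensional K L]
    {x : L} (hx : IsIntegral R x) : IsIntegral R (Algebra.trace K L x) := by
  obtain ⟨p, hp, hpx⟩ := hx
  rw [Algebra.trace_apply]
  refine isIntegral_trace_end (LinearMap.mulLeft K x) p hp ?_
  have h1 : LinearMap.mulLeft K x = Algebra.lmul K L x := rfl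
  rw [h1, Polynomial.aeval_algHom_apply, Polynomial.aeval_map_algebraMap]
  have : Polynomial.aeval x p = 0 := by rw [← hpx]; rfl
  rw [this, map_zero]

/-- Ring-hom form of `isIntegral_algebra_trace` (no algebra instances on `R` needed). -/
theorem isIntegralElem_algebra_trace {R K L : Type*} [CommRing R] [Field K] (f : R →+* K)
    [CommRing L] [Algebra K L] [FiniteDimensional K L]
    {x : L} (hx : ((algebraMap K L).comp f).IsIntegralElem x) :
    f.IsIntegralElem (Algebra.trace K L x) := by
  letI : Algebra R K := f.toAlgebra
  letI : Algebra R L := ((algebraMap K L).comp f).toAlgebra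
  haveI : IsScalarTower R K L := IsScalarTower.of_algebraMap_eq (fun _ => rfl)
  exact isIntegral_algebra_trace (R := R) (K := K) (L := L) hx

open TensorProduct in
theorem trace_baseChange_algebra {K K' L : Type*} [CommRing K] [CommRing K'] [Algebra K K']
    [CommRing L] [Algebra K L] [Module.Free K L] [Module.Finite K L] (x : L) :
    Algebra.trace K' (K' ⊗[K] L) (1 ⊗ₜ x) = algebraMap K K' (Algebra.trace K L x) := by
  rw [Algebra.trace_apply, Algebra.trace_apply, ← LinearMap.trace_baseChange]
  congr 1
  ext y
  simp

end Groth.Agent.Lib.Helper10.TraceIntegral
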